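import Cfsg.Agent.Lib.BrauerPairs.Nilpotent
import Cfsg.Agent.Lib.Blocks.ThirdMain
import Cfsg.Agent.Lib.Blocks.PrincipalSection

/-!
# Brauer pairs and block induction; the principal block

* `br_red_eq_emb`, `cenHom`, `exists_induced_cen`;
* `brauerPairOf_iff_induced`;
* `brauerPairOf_principal_iff`, `isMaximal_principal`, `principal_hom_eq`.
-/

set_option autoImplicit false

noncomputable section

namespace CfsgLib.BrauerPairs

open Cfsg CfsgLib.Blocks

universe u

variable {M : Ideal AlgInt} [M.IsMaximal] {G : Type u} [Group G] [Fintype G] {p : ℕ}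

theorem red_resIn_mul (hM : IsPModular p M) {Q : Subgroup G} (hQ : IsPGroup p Q) [Fintype (Cen Q)]
    (a b : Zint M G) :
    red (resIn (Cen Q) (a * b)) = red (resIn (Cen Q) a * resIn (Cen Q) b) := by
  classical
  refine MonoidAlgebra.coeff_injective (Finsupp.ext fun c => ?_)
  rw [coeff_red, coeff_red, rcoeff_resIn, rcoeff_mul_centralizer hM hQ a b c.2, rcoeff_mul,
    ← Finset.sum_filter]
  refine Finset.sum_bij' (fun h hh => ⟨h, (Finset.mem_filter.mp hh).2⟩) (fun h _ => (h : G))
    (fun _ _ => Finset.mem_univ _) (fun h _ => Finset.mem_filter.mpr ⟨Finset.mem_univ _, h.2⟩)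
    (fun _ _ => rfl) (fun _ _ => rfl) fun h hh => rfl

theorem br_red_eq_emb (Q : Subgroup G) [Fintype (Cen Q)] (a : Zint M G) :
    br Q (red a) = emb (Cen Q) (red (resIn (Cen Q) a)) := by
  refine ext_coeff fun g => ?_
  by_cases hg : g ∈ Cen Q
  · rw [coeff_br, if_pos hg,
      show (emb (Cen Q) (red (resIn (Cen Q) a))).coeff g = _ from coeff_emb (Cen Q) _ ⟨g, hg⟩]
    rfl
  · rw [coeff_br, if_neg hg, coeff_emb_of_notMem (Cen Q) _ hg]

/-- The central character of a character of `C(Q)` composed with the Brauer map. -/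
def cenHom (hM : IsPModular p M) {Q : Subgroup G} (hQ : IsPGroup p Q) [Fintype (Cen Q)]
    (ξ : IrrCharacter (Cen Q)) : Zint M G →+* Res M :=
  { indBomega (Cen Q) ξ with
    map_one' := by
      show bomega ξ (resIn (Cen Q) 1) = 1
      rw [resIn_one, map_one]
    map_mul' := fun a b => by
      show bomega ξ (resIn (Cen Q) (a * b)) =
        bomega ξ (resIn (Cen Q) a) * bomega ξ (resIn (Cen Q) b)
      rw [bomega_eq_of_red_eq ξ (red_resIn_mul hM hQ a b), map_mul] }

/-- Blocks of the centraliser of a `p`-subgroup induce. -/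
theorem exists_induced_cen (hM : IsPModular p M) {Q : Subgroup G} (hQ : IsPGroup p Q)
    [Fintype (Cen Q)] {e : Set (IrrCharacter (Cen Q))} (he : IsPBlock M e) :
    ∃ B, IsInducedBlock M (Cen Q) e B := by
  obtain ⟨ξ, hξ⟩ := IsPBlock.nonempty he
  obtain ⟨χ, hχ⟩ := exists_bomega_eq (cenHom hM hQ ξ) (fun c => by
    show indBomega (Cen Q) ξ (scal M c) = res M c
    rw [← mul_one (scal M c : Zint M G), indBomega_scal_mul, indBomega_apply, resIn_one, map_one,
      mul_one])
  exact ⟨blockOf M (χ : G → ℂ), isPBlock_eq_blockOf he hξ ▸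
    isInducedBlock_of_mem (Cen Q) (fun a => RingHom.congr_fun hχ a)⟩

/-- `(Q, e)` is a pair of `B` iff `e` induces `B`. -/
theorem brauerPairOf_iff_induced (hM : IsPModular p M) {Q : Subgroup G} (hQ : IsPGroup p Q)
    [Fintype (Cen Q)] {e : Set (IrrCharacter (Cen Q))} (he : IsPBlock M e)
    {B : Set (IrrCharacter G)} (hB : IsPBlock M B) :
    IsBrauerPairOf p M B Q e ↔ IsInducedBlock M (Cen Q) e B := by
  classical
  obtain ⟨ξ, hξ⟩ := IsPBlock.nonempty he
  obtain ⟨B', hB'⟩ := exists_induced_cen hM hQ he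
  obtain ⟨-, hB'b, hind⟩ := (isInducedBlock_iff _).mp hB'
  obtain ⟨χ', hχ'⟩ := IsPBlock.nonempty hB'b
  have hid : red (resIn (Cen Q) (idem hB) * resIn (Cen Q) (idem hB)) =
      red (resIn (Cen Q) (idem hB)) := by
    rw [← red_resIn_mul hM hQ, idem_mul_self]
  have key : br Q (gidemTop M B) * gidem M (Cen Q) e = gidem M (Cen Q) e ↔
      red (resIn (Cen Q) (idem hB)) * ridem he = ridem he := by
    rw [gidemTop_eq hB, show ridem hB = red (idem hB) from rfl, br_red_eq_emb, gidem_eq_emb he,
      ← map_mul]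
    exact (emb_injective (Cen Q)).eq_iff
  rw [brauerPairOf_iff hM, key, ← bomega_eq_one_iff hid he hξ, ← indBomega_apply,
    hind ξ hξ χ' hχ' (idem hB), bomega_idem]
  constructor
  · rintro ⟨-, -, h⟩
    split_ifs at h with hmem
    · obtain rfl : B = B' := isPBlock_eq_of_mem hB hB'b hmem hχ'
      exact hB'
    · exact absurd h zero_ne_one
  · intro h
    obtain rfl : B = B' := inducedBlock_unique (Cen Q) h hB'
    exact ⟨⟨hQ, he⟩, hB, if_pos hχ'⟩

/-- The third main theorem for Brauer pairs. -/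
theorem brauerPairOf_principal_iff (hM : IsPModular p M) {Q : Subgroup G} (hQ : IsPGroup p Q)
    {e : Set (IrrCharacter (Cen Q))} (he : IsPBlock M e) :
    IsBrauerPairOf p M (principalBlock M G) Q e ↔ e = principalBlock M (Cen Q) := by
  have := Fintype.ofFinite (Cen Q)
  obtain ⟨B, hB⟩ := exists_induced_cen hM hQ he
  rw [brauerPairOf_iff_induced hM hQ he isPBlock_principalBlock]
  exact third_main hM ⟨B, hB⟩

/-- The principal pair at a Sylow subgroup is maximal. -/
theorem isMaximal_principal [Fact p.Prime] (hM : IsPModular p M) (S : Sylow p G) :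
    IsMaximalBrauerPair p M (principalBlock M G) (S : Subgroup G)
      (principalBlock M (Cen (S : Subgroup G))) := by
  have := Fintype.ofFinite (Cen (S : Subgroup G))
  refine isMaximal_of_card hM
    ((brauerPairOf_principal_iff hM S.2 isPBlock_principalBlock).mpr rfl) ?_
  rw [Sylow.card_eq_multiplicity]
  exact Nat.pow_le_pow_right (Fact.out : p.Prime).pos (Nat.sub_le _ _)

/-- The fusion system of the principal block is that of the group. -/
theorem principal_hom_eq [Fact p.Prime] (hM : IsPModular p M) (S : Sylow p G)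
    {F : FusionSystem (S : Subgroup G)}
    (hF : IsBlockFusionSystemOn p M (principalBlock M G) (S : Subgroup G)
      (principalBlock M (Cen (S : Subgroup G))) F) (Q : Subgroup G) :
    F.Hom Q = (groupFusionSystem (S : Subgroup G)).Hom Q := by
  have hmax := hF.1
  ext φ
  constructor
  · intro hφ
    have hle := F.le_of_mem hφ
    obtain ⟨-, g, hg, -⟩ := (hF.2 Q φ).mp hφ
    exact ⟨hle.1, hle.2, g, hg⟩
  · rintro ⟨hQ, hφS, g, hg⟩
    obtain ⟨f, hle, -⟩ := existsUnique_subpair hM hQ hmax.1.1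
    refine (mem_hom_iff hM hF hle φ).mpr ⟨g, hg, ?_⟩
    have hf : IsBrauerPairOf p M (principalBlock M G) Q f :=
      (brauerPairOf_iff_of_subpair hM (a := ⟨Q, f⟩) (b := ⟨_, _⟩) hle).mp hmax.1
    have hf' := brauerPairOf_cjPair hM g (a := ⟨Q, f⟩) hf
    have hgQ : Q.map (MulAut.conj g).toMonoidHom ≤ (S : Subgroup G) := by
      rintro _ ⟨x, hx, rfl⟩
      show g * x * g⁻¹ ∈ (S : Subgroup G)
      rw [← hg ⟨x, hx⟩]
      exact hφS _
    obtain ⟨f'', hle'', -⟩ := existsUnique_subpair hM hgQ hmax.1.1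
    have hf'' : IsBrauerPairOf p M (principalBlock M G) (Q.map (MulAut.conj g).toMonoidHom) f'' :=
      (brauerPairOf_iff_of_subpair hM (a := ⟨_, f''⟩) (b := ⟨_, _⟩) hle'').mp hmax.1
    have h1 : conjBlock Q g f = f'' :=
      ((brauerPairOf_principal_iff hM hf'.1.1 hf'.1.2).mp hf').trans
        ((brauerPairOf_principal_iff hM hf''.1.1 hf''.1.2).mp hf'').symm
    show Relation.ReflTransGen _ (⟨_, conjBlock Q g f⟩ : BrauerPairIdx G) _
    rw [h1]
    exact hle''

end CfsgLib.BrauerPairs
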