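import Cfsg.Agent.Lib.BrauerPairs.Subpairs
import Cfsg.Agent.Lib.Blocks.Heights

/-!
# Maximal Brauer pairs and local defect groups

* `br_eq_self_normal`, `blockCoeff_eq_zero_normal`: idempotents live on the centraliser of a normal
  `p`-subgroup;
* `exists_stable_block`: a stable block of `C(Q)` is a block of its stabiliser;
* `exists_normalizer_block`, `maximal_spec`, `isDefectGroup_of_maximal`, `exists_maximal`,
  `exists_conj_le_maximal`;
* `exists_defect_ge`: subgroups seen by the Brauer map lie in defect groups.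
-/

set_option autoImplicit false

noncomputable section

namespace CfsgLib.BrauerPairs

open Cfsg CfsgLib.Blocks

attribute [local instance] Ideal.Quotient.field

universe u

variable {M : Ideal AlgInt} [M.IsMaximal] {G : Type u} [Group G] [Fintype G] {p : ℕ}

/-- Commuting idempotents with nilpotent difference are equal. -/
theorem eq_of_isNilpotent_sub {R : Type*} [Ring R] {e f : R} (he : e * e = e) (hf : f * f = f)
    (hc : e * f = f * e) (hn : IsNilpotent (e - f)) : e = f := by
  have h3 : (e - f) ^ 3 = e - f := by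
    have h1 : (e - f) * (e - f) = e - 2 * (e * f) + f := by
      rw [sub_mul, mul_sub, mul_sub, he, hf, ← hc, two_mul]; abel
    rw [pow_succ, pow_two, h1]
    have e1 : e * f * e = e * f := by rw [hc, mul_assoc, he]
    have e2 : e * f * f = e * f := by rw [mul_assoc, hf]
    have e3 : f * e = e * f := hc.symm
    simp only [add_mul, sub_mul, mul_sub, two_mul, he, hf, e1, e2, e3]
    abel
  have hk : ∀ k : ℕ, (e - f) ^ (3 ^ k) = e - f := fun k => by
    induction k with
    | zero => simp
    | succ k ih => rw [pow_succ, pow_mul, ih, h3]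
  obtain ⟨n, hn⟩ := hn
  have := hk n
  rw [pow_eq_zero_of_le (Nat.lt_pow_self (by norm_num)).le hn] at this
  exact sub_eq_zero.mp this.symm

/-- Modulo `M` a block idempotent is supported on the centraliser of a normal `p`-subgroup. -/
theorem br_eq_self_normal (hM : IsPModular p M) {P : Subgroup G} [hN : P.Normal] (hP : IsPGroup p P)
    {B : Set (IrrCharacter G)} (hB : IsPBlock M B) : br P (gidemTop M B) = gidemTop M B := by
  have : Fact p.Prime := ⟨hM.1⟩
  have : CharP (Res M) p := res_charP M hM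
  have htop : ∀ {z : KG M G}, IsFixed ⊤ z → ∀ g h : G, z.coeff (h * g * h⁻¹) = z.coeff g :=
    fun hz g h => (isFixed_iff.mp hz) h (Subgroup.mem_top h) g
  have hbr : IsFixed ⊤ (br P (gidemTop M B)) :=
    (isFixed_gidemTop ⊤ B).br (by rw [Subgroup.normalizer_eq_top_iff.mpr hN])
  have hc : CentralIn ⊤ (gidemTop M B) :=
    ⟨fun g hg => absurd (Subgroup.mem_top g) hg, isFixed_gidemTop ⊤ B⟩
  refine (eq_of_isNilpotent_sub (gidemTop_mul_self hB) (br_top_idem hM hB hP)
    (hc.commute_of_supp fun g hg => absurd (Subgroup.mem_top g) hg) ?_).symm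
  refine isNilpotent_of_support (p := p) hP ?_ fun g hg => ?_
  · rw [mem_center_iff]
    intro g h
    rw [MonoidAlgebra.coeff_sub, Finsupp.sub_apply, Finsupp.sub_apply,
      htop (isFixed_gidemTop ⊤ B), htop hbr]
  · rw [MonoidAlgebra.coeff_sub, Finsupp.sub_apply, coeff_br, if_pos hg, sub_self]

open Classical in
/-- The block idempotent vanishes exactly off the centraliser of a normal `p`-subgroup. -/
theorem blockCoeff_eq_zero_normal (hM : IsPModular p M) {P : Subgroup G} [hN : P.Normal]
    (hP : IsPGroup p P) {B : Set (IrrCharacter G)} (hB : IsPBlock M B) {g : G}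
    (hg : g ∉ Subgroup.centralizer (P : Set G)) : blockCoeff B g = 0 := by
  let C := Subgroup.centralizer (P : Set G)
  let S : Subring (Zint M G) :=
    { carrier := {a | ∀ y, y ∉ C → (a : CA G).coeff y = 0}
      one_mem' := fun y hy => by
        show (1 : CA G).coeff y = 0
        rw [MonoidAlgebra.one_def, MonoidAlgebra.coeff_single, Finsupp.single_apply, if_neg]
        rintro rfl
        exact hy C.one_mem
      zero_mem' := fun y _ => by simp
      add_mem' := fun {a b} ha hb y hy => by simp [ha y hy, hb y hy]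
      neg_mem' := fun {a} ha y hy => by simp [ha y hy]
      mul_mem' := fun {a b} ha hb y hy => by
        rw [Subring.coe_mul, coeff_mul_eq_sum]
        refine Finset.sum_eq_zero fun h _ => ?_
        by_cases hh : h ∈ C
        · rw [hb _ (fun h2 => hy (by simpa using C.mul_mem hh h2)), mul_zero]
        · rw [ha h hh, zero_mul] }
  have hCn : ∀ y h : G, h * y * h⁻¹ ∈ C ↔ y ∈ C := fun y h => by
    have hh : h ∈ Subgroup.normalizer (P : Set G) := by
      rw [Subgroup.normalizer_eq_top_iff.mpr hN]; exact Subgroup.mem_top h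
    refine ⟨fun h' => ?_, conj_mem_centralizer hh⟩
    simpa [mul_assoc] using conj_mem_centralizer (Subgroup.inv_mem _ hh) h'
  let x : Zint M G := ⟨ofFun fun y => if y ∈ C then blockCoeff B y else 0, mem_Zint_iff.mpr
    ⟨fun y => by
      rw [coeff_ofFun]
      split_ifs
      · exact blockCoeff_mem_locRing hB y
      · exact Subring.zero_mem _, fun y h => by
      simp only [coeff_ofFun, blockCoeff_conj]
      exact if_congr (hCn y h) rfl rfl⟩⟩
  have hmem : idem hB ∈ S := by
    refine idem_mem_subring hB S (fun c y hy => ?_) (x := x) (fun y hy => ?_)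
      (fun η => bomega_eq_of_red_eq η ?_)
    · have hy1 : y ≠ 1 := fun h => hy (h ▸ C.one_mem)
      rw [coe_scal, MonoidAlgebra.coeff_single, Finsupp.single_apply, if_neg (Ne.symm hy1)]
    · simp [x, hy]
    · show red x = ridem hB
      rw [← gidemTop_eq hB, ← br_eq_self_normal hM hP hB]
      refine ext_coeff fun y => ?_
      rw [coeff_red, coeff_br, gidemTop, coeff_ofFun, resD_eq (blockCoeff_mem_locRing hB y)]
      unfold rcoeff
      by_cases hy : y ∈ C
      · rw [if_pos hy]
        exact congrArg (res M) (Subtype.ext (by simp [x, hy]))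
      · rw [if_neg hy]
        exact (congrArg (res M) (Subtype.ext (by simp [x, hy]))).trans (map_zero _)
  have := hmem g hg
  simpa [idem, blockElt] using this

theorem br_eq_self_normalizer (hM : IsPModular p M) {Q T : Subgroup G} (hQp : IsPGroup p Q)
    (hQT : Q ≤ T) (hTN : T ≤ Subgroup.normalizer (Q : Set G)) {F : Set (IrrCharacter T)}
    (hF : IsPBlock M F) : br Q (gidem M T F) = gidem M T F := by
  have := Fintype.ofFinite T
  have : (Q.subgroupOf T).Normal := (Subgroup.normal_subgroupOf_iff_le_normalizer hQT).mpr hTN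
  have h := br_eq_self_normal hM (P := Q.subgroupOf T)
    (hQp.of_equiv (Subgroup.subgroupOfEquivOfLe hQT).symm) hF
  rw [gidemTop_eq hF] at h
  refine br_eq_self fun g hg => ?_
  rw [gidem_eq_emb hF]
  by_cases hgT : g ∈ T
  · rw [show (emb T (ridem hF)).coeff g = _ from coeff_emb T (ridem hF) ⟨g, hgT⟩, ← h, coeff_br,
      if_neg fun hc => hg (Subgroup.mem_centralizer_iff.mpr fun q hq => ?_)]
    exact congrArg Subtype.val (Subgroup.mem_centralizer_iff.mp hc ⟨q, hQT hq⟩ hq)
  · exact coeff_emb_of_notMem T _ hgT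

theorem centralIn_of_mono {T C : Subgroup G} {z : KG M G} (hz : CentralIn T z) (hCT : C ≤ T)
    (h : ∀ g, g ∉ C → z.coeff g = 0) : CentralIn C z := ⟨h, hz.2.mono hCT⟩

/-- A stable block of the centraliser is, with the same coefficients, a block of the stabiliser. -/
theorem exists_stable_block (hM : IsPModular p M) {Q T : Subgroup G} (hQp : IsPGroup p Q)
    {f : Set (IrrCharacter (Cen Q))} (hf : IsPBlock M f) (hQT : Q ≤ T) (hCT : Cen Q ≤ T)
    (hTN : T ≤ Subgroup.normalizer (Q : Set G)) (hfix : IsFixed T (gidem M (Cen Q) f)) :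
    ∃ F : Set (IrrCharacter T), IsPBlock M F ∧ gidem M T F = gidem M (Cen Q) f ∧
      ∀ t : T, blockCoeff F t = subgroupBlockCoeff (Cen Q) f (t : G) := by
  classical
  have := Fintype.ofFinite T
  have := Fintype.ofFinite (Cen Q)
  have hcf : CentralIn T (gidem M (Cen Q) f) :=
    ⟨fun g hg => (centralIn_gidem f).1 g (fun h => hg (hCT h)), hfix⟩
  obtain ⟨F, hF, hocc⟩ := exists_occurs' hcf (gidem_mul_self hf) (gidem_ne_zero hf)
  have hsupp : ∀ g, g ∉ Cen Q → (gidem M T F).coeff g = 0 := fun g hg => by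
    rw [← br_eq_self_normalizer hM hQp hQT hTN hF, coeff_br, if_neg hg]
  have hFC : CentralIn (Cen Q) (gidem M T F) := centralIn_of_mono (centralIn_gidem F) hCT hsupp
  have hgF : gidem M T F = gidem M (Cen Q) f := by
    rcases occurs_cases hFC (gidem_mul_self hF) hf with h | h
    · rw [← hocc, hcf.commute_of_supp (centralIn_gidem F).1, h]
    · exfalso
      apply gidem_ne_zero hF
      rw [← hocc, hcf.commute_of_supp (centralIn_gidem F).1, h]
  refine ⟨F, hF, hgF, ?_⟩
  have hinv : ∀ t : T, ∀ g : G, subgroupBlockCoeff (Cen Q) f ((t : G) * g * (t : G)⁻¹) =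
      subgroupBlockCoeff (Cen Q) f g := by
    intro t g
    have ht := hTN t.2
    have hst : tblock (conjEquiv (t : G) _ _ (cen_iff ht)) f = f :=
      gidem_inj (isPBlock_tblock _ hf) hf (by rw [gidem_tblock, hfix _ t.2])
    by_cases hg : g ∈ Cen Q
    · simp only [subgroupBlockCoeff, dif_pos hg, dif_pos (conj_mem_centralizer ht hg)]
      conv_lhs => rw [← hst]
      exact blockCoeff_tblock (conjEquiv (t : G) _ _ (cen_iff ht)) f ⟨g, hg⟩
    · have hg' : (t : G) * g * (t : G)⁻¹ ∉ Cen Q := fun h => hg (by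
        simpa [mul_assoc] using conj_mem_centralizer (Subgroup.inv_mem _ ht) h)
      simp only [subgroupBlockCoeff, dif_neg hg, dif_neg hg']
  have hloc : ∀ g : G, subgroupBlockCoeff (Cen Q) f g ∈ locRing M := fun g => by
    unfold subgroupBlockCoeff
    split_ifs
    · exact blockCoeff_mem_locRing hf _
    · exact Subring.zero_mem _
  let a : Zint M T := ⟨ofFun fun t : T => subgroupBlockCoeff (Cen Q) f (t : G), mem_Zint_iff.mpr
    ⟨fun t => by rw [coeff_ofFun]; exact hloc _, fun g h => by
      simp only [coeff_ofFun, Subgroup.coe_mul, Subgroup.coe_inv]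
      exact hinv h g⟩⟩
  have haa : a * a = a := by
    apply Subtype.ext
    refine MonoidAlgebra.coeff_injective (Finsupp.ext fun t => ?_)
    rw [Subring.coe_mul, coeff_mul_eq_sum]
    simp only [a, coeff_ofFun, Subgroup.coe_mul, Subgroup.coe_inv]
    rw [← Finset.sum_subset (Finset.subset_univ (Finset.univ.filter fun h : T => (h : G) ∈ Cen Q))
      (fun h _ hh => by
        rw [show subgroupBlockCoeff (Cen Q) f (h : G) = 0 from dif_neg (by simpa using hh), zero_mul])]
    by_cases ht : (t : G) ∈ Cen Q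
    · rw [show subgroupBlockCoeff (Cen Q) f (t : G) = blockCoeff f ⟨t, ht⟩ from dif_pos ht]
      have h1 := congrArg (fun z : Zint M (Cen Q) => (z : CA (Cen Q)).coeff ⟨t, ht⟩) (idem_mul_self hf)
      simp only [Subring.coe_mul, coeff_mul_eq_sum, idem, blockElt, coeff_ofFun] at h1
      refine Eq.trans ?_ h1
      refine Finset.sum_bij' (fun h hh => ⟨(h : G), (Finset.mem_filter.mp hh).2⟩)
        (fun c _ => ⟨(c : G), hCT c.2⟩) (by simp) (fun c _ => by simp) (fun h _ => rfl)
        (fun c _ => rfl) fun h hh => ?_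
      have hh' := (Finset.mem_filter.mp hh).2
      simp only [subgroupBlockCoeff, dif_pos hh', dif_pos (mul_mem (inv_mem hh') ht)]
      rfl
    · rw [show subgroupBlockCoeff (Cen Q) f (t : G) = 0 from dif_neg ht]
      refine Finset.sum_eq_zero fun h hh => ?_
      have hh' := (Finset.mem_filter.mp hh).2
      rw [show subgroupBlockCoeff (Cen Q) f ((h : G)⁻¹ * (t : G)) = 0 from
        dif_neg fun h2 => ht (by simpa using (Cen Q).mul_mem hh' h2), mul_zero]
  have heq : a = idem hF := idem_eq_of_congr haa (idem_mul_self hF) (by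
    refine ext_coeff fun t => ?_
    have h1 : (gidem M T F).coeff (t : G) = (gidem M (Cen Q) f).coeff (t : G) := by rw [hgF]
    rw [gidem_eq_emb hF, coeff_emb, gidem, coeff_ofFun] at h1
    rw [h1, resD_eq (hloc _)]
    exact congrArg (res M) (Subtype.ext (by simp [a])))
  intro t
  have h2 := congrArg (fun z : Zint M T => (z : CA T).coeff t) heq
  simp only [a, idem, blockElt, coeff_ofFun] at h2
  exact h2.symm

/-- The elements fixing an element of the group algebra. -/
def fixer (z : KG M G) : Subgroup G where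
  carrier := {g | cjA g z = z}
  one_mem' := cjA_one z
  mul_mem' := fun {a b} (ha : cjA a z = z) (hb : cjA b z = z) => by
    show cjA (a * b) z = z
    rw [← cjA_cjA, hb, ha]
  inv_mem' := fun {a} (ha : cjA a z = z) => by
    show cjA a⁻¹ z = z
    conv_lhs => rw [← ha, cjA_inv_cjA]

theorem isFixed_iff_le_fixer {S : Subgroup G} {z : KG M G} : IsFixed S z ↔ S ≤ fixer z := Iff.rfl

theorem isFixed_self {Q : Subgroup G} (f : Set (IrrCharacter (Cen Q))) :
    IsFixed Q (gidem M (Cen Q) f) := fun x hx => ext_coeff fun y => by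
  rw [coeff_cjA]
  by_cases hy : y ∈ Cen Q
  · rw [show x⁻¹ * y * x = y by
      rw [mul_assoc, ← Subgroup.mem_centralizer_iff.mp hy x hx, inv_mul_cancel_left]]
  · rw [(centralIn_gidem f).1 y hy, (centralIn_gidem f).1]
    intro h
    apply hy
    have := conj_mem_centralizer (Subgroup.le_normalizer hx) h
    simpa [mul_assoc] using this

variable [hp : Fact p.Prime]

/-- A subgroup at which a block idempotent survives lies in a defect group. -/
theorem exists_defect_ge (hM : IsPModular p M) {H : Subgroup G} {f : Set (IrrCharacter H)}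
    (hf : IsPBlock M f) {R : Subgroup G} (hR : IsPGroup p R) (hRH : R ≤ H)
    (hne : br R (gidem M H f) ≠ 0) :
    ∃ D : Subgroup H, IsDefectGroup p M f D ∧ R.subgroupOf H ≤ D := by
  have := Fintype.ofFinite H
  obtain ⟨g, hg, hgC⟩ : ∃ g, (gidem M H f).coeff g ≠ 0 ∧ g ∈ Cen R := by
    by_contra hc
    push Not at hc
    refine hne (ext_coeff fun g => ?_)
    rw [coeff_br]
    split_ifs with h
    · by_contra h'
      exact hc g (by simpa using h') h
    · simp
  have hgH : g ∈ H := by
    by_contra h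
    exact hg ((centralIn_gidem f).1 g h)
  rw [gidem_eq_emb hf, show (emb H (ridem hf)).coeff g = _ from coeff_emb H (ridem hf) ⟨g, hgH⟩] at hg
  obtain ⟨D, hD⟩ := exists_isDefectGroup (p := p) hf
  obtain ⟨x, hx⟩ := cj_le_defect_of_rcoeff_ne_zero hM hf hD
    (hR.of_equiv (Subgroup.subgroupOfEquivOfLe hRH).symm) (c := ⟨g, hgH⟩)
    (Subgroup.mem_centralizer_iff.mpr fun r hr =>
      Subtype.ext (Subgroup.mem_centralizer_iff.mp hgC r (Subgroup.mem_subgroupOf.mp hr))) hg
  refine ⟨cj x⁻¹ D, IsDefectGroup.conj hf hD x⁻¹, fun r hr => ?_⟩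
  have h1 : x * r * x⁻¹ ∈ D := hx (mem_cj.mpr (by simpa [mul_assoc] using hr))
  exact mem_cj.mpr (by simpa using h1)

omit hp in
theorem br_ne_zero_of_defect {H : Subgroup G} {f : Set (IrrCharacter H)}
    (hf : IsPBlock M f) {D : Subgroup H} (hD : IsDefectGroup p M f D) :
    br (D.map H.subtype) (gidem M H f) ≠ 0 := by
  have := Fintype.ofFinite H
  obtain ⟨χ, hχ⟩ := IsPBlock.nonempty hf
  obtain ⟨y, hy, hyD⟩ := isDefectGroup_iff.mp hD
  intro h
  have h1 := congrArg (fun z => z.coeff (y : G)) h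
  have hyC : (y : G) ∈ Cen (D.map H.subtype) := by
    refine Subgroup.mem_centralizer_iff.mpr fun q hq => ?_
    obtain ⟨d, hd, rfl⟩ := hq
    exact congrArg Subtype.val (Subgroup.mem_centralizer_iff.mp hyD.mem_centralizer d hd)
  simp only [coeff_br, if_pos hyC, MonoidAlgebra.coeff_zero, Finsupp.coe_zero, Pi.zero_apply,
    gidem_eq_emb hf, coeff_emb] at h1
  exact ((isDefectClass_iff hf hχ y).mp hy).1 h1

omit hp in
/-- The block of the normaliser under a pair. -/
theorem exists_normalizer_block (hM : IsPModular p M) {Q : Subgroup G}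
    {f : Set (IrrCharacter (Cen Q))} (hQf : IsBrauerPair p M Q f) :
    ∃ F : Set (IrrCharacter ↥(Subgroup.normalizer (Q : Set G))), IsPBlock M F ∧
      gidem M _ F * gidem M (Cen Q) f = gidem M (Cen Q) f ∧
      ∀ f' : Set (IrrCharacter (Cen Q)), IsPBlock M f' →
        gidem M (Subgroup.normalizer (Q : Set G)) F * gidem M (Cen Q) f' = gidem M (Cen Q) f' →
        ∃ n ∈ Subgroup.normalizer (Q : Set G), gidem M (Cen Q) f' = cjA n (gidem M (Cen Q) f) := by
  classical
  set N := Subgroup.normalizer (Q : Set G) with hNdef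
  have hCN : Cen Q ≤ N := Subgroup.centralizer_le_normalizer _
  have := Fintype.ofFinite N
  have := Fintype.ofFinite (Blk M N)
  have := Fintype.ofFinite (Blk M (Cen Q))
  have hFC : ∀ F : Blk M N, CentralIn (Cen Q) (gidem M N F.1) := fun F =>
    centralIn_of_mono (centralIn_gidem F.1) hCN fun g hg => by
      rw [← br_eq_self_normalizer hM hQf.1 Subgroup.le_normalizer le_rfl F.2, coeff_br, if_neg hg]
  obtain ⟨F, hF⟩ : ∃ F : Blk M N, gidem M N F.1 * gidem M (Cen Q) f = gidem M (Cen Q) f := by
    by_contra hc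
    push Not at hc
    apply gidem_ne_zero hQf.2
    rw [← one_mul (gidem M (Cen Q) f), ← sum_gidem (M := M) N, Finset.sum_mul]
    exact Finset.sum_eq_zero fun F _ =>
      (occurs_cases (hFC F) (gidem_mul_self F.2) hQf.2).resolve_left (hc F)
  set O := (Finset.univ : Finset (Blk M (Cen Q))).filter
    (fun i => ∃ n ∈ N, gidem M (Cen Q) i.1 = cjA n (gidem M (Cen Q) f)) with hO
  set σ := ∑ i ∈ O, gidem M (Cen Q) i.1 with hσ
  have hfO : (⟨f, hQf.2⟩ : Blk M (Cen Q)) ∈ O :=
    Finset.mem_filter.mpr ⟨Finset.mem_univ _, 1, N.one_mem, (cjA_one _).symm⟩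
  have hmem : ∀ j : Blk M (Cen Q), σ * gidem M (Cen Q) j.1 =
      if j ∈ O then gidem M (Cen Q) j.1 else 0 := fun j => by
    rw [hσ, Finset.sum_mul, ← Finset.sum_ite_eq' O j (fun i => gidem M (Cen Q) i.1)]
    refine Finset.sum_congr rfl fun i _ => ?_
    split_ifs with h
    · subst h; exact gidem_mul_self i.2
    · exact gidem_mul_of_ne i.2 j.2 fun h' => h (Subtype.ext h')
  have hFO : ∀ i ∈ O, gidem M N F.1 * gidem M (Cen Q) i.1 = gidem M (Cen Q) i.1 := fun i hi => by
    obtain ⟨n, hn, he⟩ := (Finset.mem_filter.mp hi).2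
    rw [he]
    conv_lhs => rw [← (centralIn_gidem (M := M) F.1).2 n hn, ← map_mul, hF]
  have hσN : CentralIn N σ := by
    refine ⟨fun g hg => ?_, fun n hn => ?_⟩
    · rw [hσ, MonoidAlgebra.coeff_sum, Finsupp.finsetSum_apply]
      exact Finset.sum_eq_zero fun i _ => (centralIn_gidem i.1).1 g fun h => hg (hCN h)
    · rw [hσ, map_sum]
      refine Finset.sum_bij'
        (fun i _ => ⟨tblock (conjEquiv n _ _ (cen_iff hn)) i.1, isPBlock_tblock _ i.2⟩)
        (fun i _ => ⟨tblock (conjEquiv n⁻¹ _ _ (cen_iff (inv_mem hn))) i.1, isPBlock_tblock _ i.2⟩)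
        (fun i hi => ?_) (fun i hi => ?_) (fun i _ => ?_) (fun i _ => ?_)
        (fun i _ => (gidem_tblock _ _ _).symm)
      · obtain ⟨m, hm, he⟩ := (Finset.mem_filter.mp hi).2
        exact Finset.mem_filter.mpr ⟨Finset.mem_univ _, n * m, mul_mem hn hm, by
          rw [gidem_tblock, he, cjA_cjA]⟩
      · obtain ⟨m, hm, he⟩ := (Finset.mem_filter.mp hi).2
        exact Finset.mem_filter.mpr ⟨Finset.mem_univ _, n⁻¹ * m, mul_mem (inv_mem hn) hm, by
          rw [gidem_tblock, he, cjA_cjA]⟩
      · exact Subtype.ext (gidem_inj (isPBlock_tblock _ (isPBlock_tblock _ i.2)) i.2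
          (by rw [gidem_tblock, gidem_tblock, cjA_inv_cjA]))
      · exact Subtype.ext (gidem_inj (isPBlock_tblock _ (isPBlock_tblock _ i.2)) i.2
          (by rw [gidem_tblock, gidem_tblock, cjA_cjA_inv]))
  have hσσ : σ * σ = σ := by
    conv_lhs => arg 2; rw [hσ]
    rw [Finset.mul_sum]
    exact Finset.sum_congr rfl fun i hi => by rw [hmem, if_pos hi]
  have hFσ : gidem M N F.1 * σ = σ := by
    rw [hσ, Finset.mul_sum]
    exact Finset.sum_congr rfl hFO
  have hFeq : gidem M N F.1 = σ := by
    rcases occurs_cases hσN hσσ F.2 with h | h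
    · rw [← h, hσN.commute_of_supp (centralIn_gidem F.1).1, hFσ]
    · exfalso
      rw [hσN.commute_of_supp (centralIn_gidem F.1).1, hFσ] at h
      apply gidem_ne_zero hQf.2
      have := hmem ⟨f, hQf.2⟩
      rw [if_pos hfO, h, zero_mul] at this
      exact this.symm
  refine ⟨F.1, F.2, hF, fun f' hf' h => ?_⟩
  rw [hFeq, hmem ⟨f', hf'⟩] at h
  split_ifs at h with hi
  · exact (Finset.mem_filter.mp hi).2
  · exact absurd h.symm (gidem_ne_zero hf')

omit hp in
/-- A Brauer pair, cast as an index. -/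
theorem cjPair_normalizer {Q : Subgroup G} {f f' : Set (IrrCharacter (Cen Q))} {n : G}
    (hn : n ∈ Subgroup.normalizer (Q : Set G)) (hQf : IsBrauerPair p M Q f) (hf' : IsPBlock M f')
    (h : gidem M (Cen Q) f' = cjA n (gidem M (Cen Q) f)) :
    (⟨Q, f'⟩ : BrauerPairIdx G) = cjPair n ⟨Q, f⟩ :=
  pair_ext (M := M) (b := cjPair n ⟨Q, f⟩) hf'
    (isBrauerPair_cjPair (p := p) n (a := ⟨Q, f⟩) hQf).2 (map_conj_eq_self hn).symm
    (by rw [pid_cjPair]; exact h)

/-- A maximal pair: its normaliser block has it as defect group and induces `B`. -/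
theorem maximal_spec (hM : IsPModular p M) {B : Set (IrrCharacter G)} {Q : Subgroup G}
    {f : Set (IrrCharacter (Cen Q))} [Fintype ↥(Subgroup.normalizer (Q : Set G))]
    (hmax : IsMaximalBrauerPair p M B Q f) :
    ∃ F : Set (IrrCharacter ↥(Subgroup.normalizer (Q : Set G))), IsPBlock M F ∧
      IsDefectGroup p M F (Q.subgroupOf (Subgroup.normalizer (Q : Set G))) ∧
      IsInducedBlock M (Subgroup.normalizer (Q : Set G)) F B ∧ IsDefectGroup p M B Q ∧
      gidem M _ F * gidem M (Cen Q) f = gidem M (Cen Q) f ∧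
      ∀ f' : Set (IrrCharacter (Cen Q)), IsPBlock M f' →
        gidem M (Subgroup.normalizer (Q : Set G)) F * gidem M (Cen Q) f' = gidem M (Cen Q) f' →
        ∃ n ∈ Subgroup.normalizer (Q : Set G), gidem M (Cen Q) f' = cjA n (gidem M (Cen Q) f) := by
  classical
  obtain ⟨hQB, hmax⟩ := hmax
  obtain ⟨hQf, hB, hBf⟩ := (brauerPairOf_iff hM).mp hQB
  set N := Subgroup.normalizer (Q : Set G) with hNdef
  obtain ⟨F, hF, hFf, horb⟩ : ∃ F : Set (IrrCharacter N), IsPBlock M F ∧
      gidem M N F * gidem M (Cen Q) f = gidem M (Cen Q) f ∧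
      ∀ f' : Set (IrrCharacter (Cen Q)), IsPBlock M f' →
        gidem M N F * gidem M (Cen Q) f' = gidem M (Cen Q) f' →
        ∃ n ∈ N, gidem M (Cen Q) f' = cjA n (gidem M (Cen Q) f) :=
    exists_normalizer_block hM hQf
  have hCN : Cen Q ≤ N := Subgroup.centralizer_le_normalizer _
  obtain ⟨D, hD⟩ := exists_isDefectGroup (p := p) hF
  set D' := D.map N.subtype with hD'
  have hD'p : IsPGroup p D' := (IsDefectGroup.isPGroup hD).map _
  have hD'N : D' ≤ N := Subgroup.map_subtype_le D
  have hQD : Q.subgroupOf N ≤ D := by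
    have : (Q.subgroupOf N).Normal :=
      (Subgroup.normal_subgroupOf_iff_le_normalizer Subgroup.le_normalizer).mpr le_rfl
    exact normal_le_defect hM hF hD
      (hQf.1.of_equiv (Subgroup.subgroupOfEquivOfLe Subgroup.le_normalizer).symm)
  have hQD' : Q ≤ D' := by
    rw [← Subgroup.map_subgroupOf_eq_of_le (Subgroup.le_normalizer (H := Q))]
    exact Subgroup.map_mono hQD
  -- some conjugate of `f` is stable under `D'` and survives there
  have := Fintype.ofFinite (Blk M (Cen Q))
  let _ : MulAction D' (Blk M (Cen Q)) :=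
    { smul := fun x i => ⟨tblock (conjEquiv (x : G) _ _ (cen_iff (hD'N x.2))) i.1,
        isPBlock_tblock _ i.2⟩
      one_smul := fun i => Subtype.ext (gidem_inj (isPBlock_tblock _ i.2) i.2 (by
        show gidem M (Cen Q) (tblock _ i.1) = gidem M (Cen Q) i.1
        rw [gidem_tblock, Subgroup.coe_one, cjA_one]))
      mul_smul := fun x y i => Subtype.ext (gidem_inj (isPBlock_tblock _ i.2)
        (isPBlock_tblock _ (isPBlock_tblock _ i.2)) (by
        show gidem M (Cen Q) (tblock _ i.1) = gidem M (Cen Q) (tblock _ (tblock _ i.1))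
        rw [gidem_tblock, gidem_tblock, gidem_tblock, cjA_cjA, Subgroup.coe_mul])) }
  have hsmul : ∀ (x : D') (i : Blk M (Cen Q)),
      cjA (x : G) (gidem M (Cen Q) i.1) = gidem M (Cen Q) (x • i).1 := fun x i =>
    (gidem_tblock _ _ _).symm
  have hx : ∀ (x : D') (i : Blk M (Cen Q)),
      cjA (x : G) (gidem M N F * gidem M (Cen Q) i.1) = gidem M N F * gidem M (Cen Q) (x • i).1 :=
    fun x i => by rw [map_mul, (centralIn_gidem F).2 _ (hD'N x.2), hsmul]
  have hsum := sum_br_fixed (ι := Blk M (Cen Q)) hM hD'p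
    (fun i : Blk M (Cen Q) => gidem M N F * gidem M (Cen Q) i.1) hx
  rw [← Finset.mul_sum, sum_gidem, mul_one] at hsum
  obtain ⟨i, hi, hne⟩ : ∃ i : Blk M (Cen Q), i ∈ MulAction.fixedPoints D' (Blk M (Cen Q)) ∧
      br D' (gidem M N F * gidem M (Cen Q) i.1) ≠ 0 := by
    by_contra hc
    push Not at hc
    exact br_ne_zero_of_defect hF hD
      (hsum.trans (Finset.sum_eq_zero fun i hi => hc i (Finset.mem_filter.mp hi).2))
  have hFC : CentralIn (Cen Q) (gidem M N F) := centralIn_of_mono (centralIn_gidem F) hCN fun g hg => by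
    rw [← br_eq_self_normalizer hM hQf.1 Subgroup.le_normalizer le_rfl hF, coeff_br, if_neg hg]
  have hFi : gidem M N F * gidem M (Cen Q) i.1 = gidem M (Cen Q) i.1 :=
    (occurs_cases hFC (gidem_mul_self hF) i.2).resolve_right fun h => hne (by rw [h, br_zero])
  rw [hFi] at hne
  have hfix : IsFixed D' (gidem M (Cen Q) i.1) := fun x hx' => by
    rw [hsmul ⟨x, hx'⟩, MulAction.mem_fixedPoints.mp hi ⟨x, hx'⟩]
  obtain ⟨g, hg, hocc⟩ := exists_occurs'
    (centralIn_br ((centralIn_gidem i.1).2.mono (centralizer_anti hQD')))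
    (br_normalSubpair_idem hM hD'p i.2 hfix) hne
  have hstep : NormalSubpairRel p M (⟨Q, i.1⟩ : BrauerPairIdx G) ⟨D', g⟩ :=
    (normalSubpair_iff hM).mpr ⟨⟨hQf.1, i.2⟩, ⟨hD'p, hg⟩, hQD', hD'N, hfix, hocc⟩
  obtain ⟨n, hn, hfn⟩ := horb i.1 i.2 hFi
  rw [cjPair_normalizer hn hQf i.2 hfn] at hstep
  have hstep' := subpair_cjPair hM n⁻¹ (Relation.ReflTransGen.single hstep)
  rw [cjPair_cjPair _ _ hQf, inv_mul_cancel, cjPair_one hQf] at hstep'
  have hR := hmax _ _ ((brauerPairOf_iff_of_subpair hM hstep').mpr hQB) hstep'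
  have hcard : Nat.card D' = Nat.card Q := by
    have h1 := congrArg (fun S : Subgroup G => Nat.card S) hR
    simp only [cjPair] at h1
    rwa [Subgroup.card_map_of_injective (MulEquiv.injective _)] at h1
  have hDQ : Q.subgroupOf N = D := by
    refine Subgroup.eq_of_le_of_card_ge hQD (le_of_eq ?_)
    rw [Nat.card_congr (Subgroup.subgroupOfEquivOfLe (Subgroup.le_normalizer (H := Q))).toEquiv,
      ← hcard, hD', Subgroup.card_map_of_injective N.subtype_injective]
  subst hDQ
  obtain ⟨B', hB', hB'D, hind⟩ := exists_induced_with_defect hM hQf.1 hF hD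
  have hBB : B' = B := by
    obtain ⟨ξ, hξ⟩ := IsPBlock.nonempty hF
    obtain ⟨χ', hχ'⟩ := IsPBlock.nonempty hB'
    refine isPBlock_eq_of_mem hB' hB hχ' (isPBlock_idem_bomega hB ?_)
    rw [← ((isInducedBlock_iff _).mp hind).2.2 ξ hξ χ' hχ' (idem hB), indBomega_apply,
      ← bomega_truncC hM hQf.1 Subgroup.le_normalizer le_rfl]
    set t := truncC Q (le_refl N) (resIn N (idem hB))
    have ht : emb N (red t) = br Q (gidemTop M B) := by
      refine ext_coeff fun y => ?_
      rw [coeff_br, gidemTop_eq hB]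
      by_cases hy : y ∈ N
      · rw [show (emb N (red t)).coeff y = _ from coeff_emb N (red t) ⟨y, hy⟩, coeff_red,
          rcoeff_truncC, rcoeff_resIn]
        rfl
      · rw [coeff_emb_of_notMem N _ hy, if_neg fun h => hy (hCN h)]
    have ht2 : red (t * t) = red t := by
      rw [← red_truncC_mul hM hQf.1 hCN, idem_mul_self]
    have hone : br Q (gidemTop M B) * gidem M N F = gidem M N F := by
      refine (occurs_cases (H := N) ⟨fun y hy => by rw [coeff_br, if_neg fun h => hy (hCN h)],
        (isFixed_gidemTop N B).br le_rfl⟩ (br_top_idem hM hB hQf.1) hF).resolve_right fun h => ?_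
      apply gidem_ne_zero hQf.2
      calc gidem M (Cen Q) f = br Q (gidemTop M B) * gidem M (Cen Q) f := hBf.symm
        _ = br Q (gidemTop M B) * (gidem M N F * gidem M (Cen Q) f) := by rw [hFf]
        _ = 0 := by rw [← mul_assoc, h, zero_mul]
    rw [(bomega_eq_one_iff ht2 hF hξ).mpr (emb_injective N (by
      rw [map_mul, ht, ← gidem_eq_emb hF, hone]))]
    exact one_ne_zero
  subst hBB
  exact ⟨F, hF, hD, hind, hB'D, hFf, horb⟩

/-- The subgroup of a maximal pair is a defect group. -/
theorem isDefectGroup_of_maximal (hM : IsPModular p M) {B : Set (IrrCharacter G)} {Q : Subgroup G}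
    {f : Set (IrrCharacter (Cen Q))} (hmax : IsMaximalBrauerPair p M B Q f) :
    IsDefectGroup p M B Q := by
  have := Fintype.ofFinite ↥(Subgroup.normalizer (Q : Set G))
  obtain ⟨-, -, -, -, h, -⟩ := maximal_spec hM hmax
  exact h

omit hp in
/-- Above every pair of a block there is a maximal one. -/
theorem exists_maximal (hM : IsPModular p M) {B : Set (IrrCharacter G)} {a : BrauerPairIdx G}
    (ha : IsBrauerPairOf p M B a.1 a.2) :
    ∃ b : BrauerPairIdx G, IsMaximalBrauerPair p M B b.1 b.2 ∧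
      Relation.ReflTransGen (NormalSubpairRel p M) a b := by
  suffices h : ∀ (k : ℕ) (a : BrauerPairIdx G), IsBrauerPairOf p M B a.1 a.2 →
      Nat.card G - Nat.card a.1 = k →
      ∃ b : BrauerPairIdx G, IsMaximalBrauerPair p M B b.1 b.2 ∧
        Relation.ReflTransGen (NormalSubpairRel p M) a b from h _ a ha rfl
  intro k
  induction k using Nat.strong_induction_on with
  | _ k ih =>
  intro a ha hk
  by_cases hmax : IsMaximalBrauerPair p M B a.1 a.2
  · exact ⟨a, hmax, Relation.ReflTransGen.refl⟩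
  · rw [IsMaximalBrauerPair, not_and] at hmax
    have h := hmax ha
    push Not at h
    obtain ⟨R, g, hR, hle, hne⟩ := h
    have hlt := card_lt_card_of_lt (lt_of_le_of_ne (subgroup_le hle) (Ne.symm hne))
    have := Subgroup.card_le_card_group R
    dsimp at hlt
    obtain ⟨b, hb, hab⟩ := ih (Nat.card G - Nat.card R) (by omega) ⟨R, g⟩ hR rfl
    exact ⟨b, hb, Relation.ReflTransGen.trans hle hab⟩

/-- A pair whose subgroup has the order of a defect group is maximal. -/
theorem isMaximal_of_card (hM : IsPModular p M) {B : Set (IrrCharacter G)} {Q : Subgroup G}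
    {f : Set (IrrCharacter (Cen Q))} (hQ : IsBrauerPairOf p M B Q f)
    (hcard : p ^ blockDefect p B ≤ Nat.card Q) : IsMaximalBrauerPair p M B Q f := by
  refine ⟨hQ, fun R g hR hle => ?_⟩
  obtain ⟨b, hb, hab⟩ := exists_maximal hM (a := ⟨R, g⟩) hR
  have h1 := card_defectGroup hM hQ.2.1 (isDefectGroup_of_maximal hM hb)
  have h2 : Nat.card R ≤ Nat.card b.1 := Subgroup.card_le_of_le (subgroup_le hab)
  exact (Subgroup.eq_of_le_of_card_ge (subgroup_le hle) (show Nat.card R ≤ Nat.card Q by omega)).symm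

/-- Every pair of a block is conjugate below any given maximal pair. -/
theorem exists_conj_le_maximal (hM : IsPModular p M) {B : Set (IrrCharacter G)}
    {a b : BrauerPairIdx G} (hb : IsMaximalBrauerPair p M B b.1 b.2)
    (ha : IsBrauerPairOf p M B a.1 a.2) :
    ∃ x : G, Relation.ReflTransGen (NormalSubpairRel p M) (cjPair x a) b := by
  classical
  obtain ⟨c, hc, hac⟩ := exists_maximal hM ha
  have hB := ha.2.1
  obtain ⟨x, hx⟩ := defectGroups_conj hM hB (isDefectGroup_of_maximal hM hc)
    (isDefectGroup_of_maximal hM hb)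
  obtain ⟨P, e⟩ := b
  dsimp at hb hx ⊢
  have hd : IsBrauerPairOf p M B (cjPair x c).1 (cjPair x c).2 := brauerPairOf_cjPair hM x hc.1
  have hsub : (cjPair x c).1 = P := hx
  generalize hd' : cjPair x c = d at hd hsub
  obtain ⟨dQ, dg⟩ := d
  dsimp at hd hsub
  subst hsub
  have hmax' : IsMaximalBrauerPair p M B dQ dg := isMaximal_of_card hM hd
    (card_defectGroup hM hB (isDefectGroup_of_maximal hM hb)).ge
  have := Fintype.ofFinite ↥(Subgroup.normalizer (dQ : Set G))
  obtain ⟨F, hF, hFD, hFi, hBd, hFg, horb⟩ := maximal_spec hM hmax'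
  obtain ⟨F', hF', hF'D, hF'i, -, hF'e, -⟩ := maximal_spec hM hb
  obtain rfl : F = F' := (existsUnique_inducing_with_defect hM hb.1.1.1 hB hBd).unique
    ⟨hF, hFD, hFi⟩ ⟨hF', hF'D, hF'i⟩
  obtain ⟨n, hn, hne⟩ := horb e hb.1.1.2 hF'e
  refine ⟨n * x, ?_⟩
  rw [cjPair_normalizer hn hd.1 hb.1.1.2 hne, ← hd', ← cjPair_cjPair n x ha.1]
  exact subpair_cjPair hM n (subpair_cjPair hM x hac)

end CfsgLib.BrauerPairs
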