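import Cfsg.Agent.Lib.BrauerPairs.Subpairs
import Cfsg.Agent.Lib.BrauerPairs.Maximal

/-!
# The idempotent of a block over a normal `p`-subgroup as a trace

* `embC`, `coeff_embC_blockElt`;
* `exists_orbit_sum`: the idempotent of `B` is exactly the sum over an orbit of blocks of `C(P)`;
* `blockCoeff_trace`.
-/

set_option autoImplicit false

noncomputable section

namespace CfsgLib.BrauerPairs

open Cfsg CfsgLib.Blocks

universe u

variable {M : Ideal AlgInt} [M.IsMaximal] {G : Type u} [Group G] [Fintype G] {p : ℕ}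

/-- The complex group algebra of a subgroup inside that of the group. -/
def embC (H : Subgroup G) : CA H →+* CA G := MonoidAlgebra.mapDomainRingHom ℂ H.subtype

theorem coeff_embC_blockElt (H : Subgroup G) [Fintype H] (f : Set (IrrCharacter H)) (g : G) :
    (embC H (blockElt f)).coeff g = subgroupBlockCoeff H f g := by
  classical
  show (MonoidAlgebra.mapDomain H.subtype (blockElt f)).coeff g = _
  by_cases hg : g ∈ H
  · rw [subgroupBlockCoeff, dif_pos hg, MonoidAlgebra.coeff_mapDomain]
    refine (Finsupp.mapDomain_apply H.subtype_injective (blockElt f).coeff ⟨g, hg⟩).trans ?_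
    rw [blockElt, coeff_ofFun]
  · rw [subgroupBlockCoeff, dif_neg hg, MonoidAlgebra.coeff_mapDomain, Finsupp.mapDomain_notin_range]
    rintro ⟨h, rfl⟩
    exact hg h.2

theorem subgroupBlockCoeff_mem {H : Subgroup G} {f : Set (IrrCharacter H)} (hf : IsPBlock M f)
    (g : G) : subgroupBlockCoeff H f g ∈ locRing M := by
  classical
  have := Fintype.ofFinite H
  unfold subgroupBlockCoeff
  split_ifs
  · exact blockCoeff_mem_locRing hf _
  · exact Subring.zero_mem _

theorem subgroupBlockCoeff_tblock (x : G) {H H' : Subgroup G} (h : ∀ y, y ∈ H' ↔ x⁻¹ * y * x ∈ H)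
    (f : Set (IrrCharacter H)) (g : G) :
    subgroupBlockCoeff H' (tblock (conjEquiv x H H' h) f) g =
      subgroupBlockCoeff H f (x⁻¹ * g * x) := by
  classical
  have := Fintype.ofFinite H
  have := Fintype.ofFinite H'
  by_cases hg : g ∈ H'
  · rw [subgroupBlockCoeff, subgroupBlockCoeff, dif_pos hg, dif_pos ((h g).mp hg),
      ← blockCoeff_tblock (conjEquiv x H H' h) f ⟨x⁻¹ * g * x, (h g).mp hg⟩]
    congr 1
    exact ((conjEquiv x H H' h).apply_symm_apply ⟨g, hg⟩).symm
  · rw [subgroupBlockCoeff, subgroupBlockCoeff, dif_neg hg, dif_neg fun h' => hg ((h g).mpr h')]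

/-- The conjugates of a block of `C(P)`, `P` normal. -/
def conjBlk (M : Ideal AlgInt) [M.IsMaximal] {P : Subgroup G} [P.Normal] (x : G)
    (i : Blk M (Cen P)) : Blk M (Cen P) :=
  ⟨tblock (conjEquiv x (Cen P) (Cen P) (cen_iff (Subgroup.le_normalizer_of_normal
      (Subgroup.mem_top x)))) i.1,
    have := Fintype.ofFinite (Cen P)
    isPBlock_tblock _ i.2⟩

theorem gidem_conjBlk {P : Subgroup G} [P.Normal] (x : G) (i : Blk M (Cen P)) :
    gidem M (Cen P) (conjBlk M x i).1 = cjA x (gidem M (Cen P) i.1) :=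
  gidem_tblock _ _ _

theorem conjBlk_conjBlk {P : Subgroup G} [P.Normal] (x y : G) (i : Blk M (Cen P)) :
    conjBlk M x (conjBlk M y i) = conjBlk M (x * y) i := by
  have := Fintype.ofFinite (Cen P)
  exact Subtype.ext (gidem_inj (conjBlk M x (conjBlk M y i)).2 (conjBlk M (x * y) i).2
    (by rw [gidem_conjBlk, gidem_conjBlk, gidem_conjBlk, cjA_cjA]))

theorem conjBlk_one {P : Subgroup G} [P.Normal] (i : Blk M (Cen P)) : conjBlk M 1 i = i := by
  have := Fintype.ofFinite (Cen P)
  exact Subtype.ext (gidem_inj (conjBlk M 1 i).2 i.2 (by rw [gidem_conjBlk, cjA_one]))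

open Classical in
/-- The idempotent of `B` is the sum over the orbit of an occurring block of `C(P)`. -/
theorem exists_orbit_sum (hM : IsPModular p M) {P : Subgroup G} [P.Normal]
    {B : Set (IrrCharacter G)} {e : Set (IrrCharacter (Cen P))}
    (hBe : IsBrauerPairOf p M B P e) [Fintype (Blk M (Cen P))] (g : G) :
    blockCoeff B g =
      ∑ i ∈ Finset.univ.image (fun x : G => conjBlk M x ⟨e, hBe.1.2⟩),
        subgroupBlockCoeff (Cen P) i.1 g := by
  have := Fintype.ofFinite (Cen P)
  obtain ⟨hPe, hB, hocc⟩ := (brauerPairOf_iff hM).mp hBe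
  set j : Blk M (Cen P) := ⟨e, hBe.1.2⟩ with hj
  set O := Finset.univ.image (fun x : G => conjBlk M x j) with hO
  have hperm : ∀ (y g : G), (∑ i ∈ O, subgroupBlockCoeff (Cen P) i.1 (y * g * y⁻¹)) =
      ∑ i ∈ O, subgroupBlockCoeff (Cen P) i.1 g := by
    intro y g
    refine Finset.sum_bij' (fun i _ => conjBlk M y⁻¹ i) (fun i _ => conjBlk M y i)
      (fun i hi => ?_) (fun i hi => ?_) (fun i _ => ?_) (fun i _ => ?_) (fun i _ => ?_)
    · obtain ⟨x, -, rfl⟩ := Finset.mem_image.mp hi
      exact Finset.mem_image.mpr ⟨y⁻¹ * x, Finset.mem_univ _, (conjBlk_conjBlk _ _ _).symm⟩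
    · obtain ⟨x, -, rfl⟩ := Finset.mem_image.mp hi
      exact Finset.mem_image.mpr ⟨y * x, Finset.mem_univ _, (conjBlk_conjBlk _ _ _).symm⟩
    · show conjBlk M y (conjBlk M y⁻¹ i) = i
      rw [conjBlk_conjBlk, mul_inv_cancel, conjBlk_one]
    · show conjBlk M y⁻¹ (conjBlk M y i) = i
      rw [conjBlk_conjBlk, inv_mul_cancel, conjBlk_one]
    · show _ = subgroupBlockCoeff (Cen P) (conjBlk M y⁻¹ i).1 g
      rw [conjBlk, subgroupBlockCoeff_tblock, inv_inv]
  let a : Zint M G := ⟨ofFun fun g => ∑ i ∈ O, subgroupBlockCoeff (Cen P) i.1 g, mem_Zint_iff.mpr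
    ⟨fun g => by rw [coeff_ofFun]; exact Subring.sum_mem _ fun i _ => subgroupBlockCoeff_mem i.2 g,
      fun g h => by simp only [coeff_ofFun]; exact hperm h g⟩⟩
  have hca : (a : CA G) = ∑ i ∈ O, embC (Cen P) (blockElt i.1) :=
    MonoidAlgebra.coeff_injective (Finsupp.ext fun g => by
      simp only [a, coeff_ofFun, MonoidAlgebra.coeff_sum, Finsupp.finsetSum_apply, coeff_embC_blockElt])
  have hmul : ∀ i i' : Blk M (Cen P), embC (Cen P) (blockElt i.1) * embC (Cen P) (blockElt i'.1) =
      if i' = i then embC (Cen P) (blockElt i.1) else 0 := by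
    intro i i'
    rw [← map_mul]
    split_ifs with h
    · subst h
      exact congrArg (embC (Cen P)) (congrArg Subtype.val (idem_mul_self i'.2))
    · rw [show blockElt i.1 * blockElt i'.1 = ((idem i.2 * idem i'.2 : Zint M (Cen P)) : CA (Cen P))
        from rfl, idem_mul_of_ne i.2 i'.2 fun h' => h (Subtype.ext h'.symm)]
      exact map_zero _
  have haa : a * a = a := by
    apply Subtype.ext
    rw [Subring.coe_mul, hca, Finset.sum_mul]
    refine Finset.sum_congr rfl fun i hi => ?_
    rw [Finset.mul_sum, Finset.sum_congr rfl (fun i' _ => hmul i i'), Finset.sum_ite_eq', if_pos hi]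
  have hred : red a = ∑ i ∈ O, gidem M (Cen P) i.1 := by
    refine ext_coeff fun g => ?_
    rw [coeff_red, MonoidAlgebra.coeff_sum, Finsupp.finsetSum_apply]
    simp only [gidem, coeff_ofFun]
    rw [Finset.sum_congr rfl (fun i _ => resD_eq (subgroupBlockCoeff_mem i.2 g)), ← map_sum]
    exact congrArg (res M) (Subtype.ext (by
      simp only [a, coeff_ofFun, AddSubmonoidClass.coe_finsetSum]))
  have hBC : ∀ i ∈ O, red (idem hB) * gidem M (Cen P) i.1 = gidem M (Cen P) i.1 := by
    intro i hi
    obtain ⟨x, -, rfl⟩ := Finset.mem_image.mp hi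
    rw [br_eq_self_normal hM hPe.1 hB, gidemTop_eq hB] at hocc
    rw [gidem_conjBlk]
    conv_lhs => rw [show red (idem hB) = cjA x (red (idem hB)) by
      rw [show red (idem hB) = gidemTop M B from (gidemTop_eq hB).symm, cjA_gidemTop], ← map_mul]
    exact congrArg (cjA x) hocc
  have hBa : red (idem hB) * red a = red a := by
    rw [hred, Finset.mul_sum]
    exact Finset.sum_congr rfl hBC
  have hne : red a ≠ 0 := fun h0 => by
    refine gidem_ne_zero (M := M) j.2 ?_
    have h1 := congrArg (fun z => gidem M (Cen P) j.1 * z) h0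
    rw [hred] at h1
    simp only [Finset.mul_sum, mul_zero] at h1
    rwa [Finset.sum_eq_single j (fun b _ hb => gidem_mul_of_ne j.2 b.2 fun h => hb (Subtype.ext h.symm))
      (fun h => absurd (Finset.mem_image.mpr ⟨1, Finset.mem_univ _, conjBlk_one j⟩) h),
      gidem_mul_self j.2] at h1
  have hcomm : red a * red (idem hB) = red (idem hB) * red a := by
    rw [← map_mul, ← map_mul, mul_comm]
  rcases idem_mul_eq_or_eq_zero (x := red a)
    (fun g h => by rw [coeff_red, coeff_red]; exact (rcoeff_eq_of_isConj a (isConj_iff.mpr ⟨h, rfl⟩)).symm)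
    (by rw [← map_mul, haa]) hB with h | h
  · have h2 : red a = red (idem hB) := by
      calc red a = red (idem hB) * red a := hBa.symm
        _ = red a * red (idem hB) := hcomm.symm
        _ = red (idem hB) := h
    have h3 := idem_eq_of_congr haa (idem_mul_self hB) h2
    have h4 := congrArg (fun z : Zint M G => (z : CA G).coeff g) h3
    simp only [a, idem, blockElt, coeff_ofFun] at h4
    exact h4.symm
  · exact absurd (hBa.symm.trans (hcomm.symm.trans h)) hne

/-- The trace formula. -/
theorem blockCoeff_trace (hM : IsPModular p M) {P : Subgroup G} [P.Normal]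
    {B : Set (IrrCharacter G)} {e : Set (IrrCharacter (Cen P))}
    (hBe : IsBrauerPairOf p M B P e) {T : Subgroup G}
    (hT : ∀ x, x ∈ T ↔ cjA x (gidem M (Cen P) e) = gidem M (Cen P) e) (g : G) :
    blockCoeff B g = (Nat.card T : ℂ)⁻¹ * ∑ x : G, subgroupBlockCoeff (Cen P) e (x⁻¹ * g * x) := by
  classical
  have := Fintype.ofFinite (Blk M (Cen P))
  have := Fintype.ofFinite (Cen P)
  set j : Blk M (Cen P) := ⟨e, hBe.1.2⟩ with hj
  rw [exists_orbit_sum hM hBe g]
  have h1 : ∀ x : G, subgroupBlockCoeff (Cen P) e (x⁻¹ * g * x) =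
      subgroupBlockCoeff (Cen P) (conjBlk M x j).1 g := fun x =>
    (subgroupBlockCoeff_tblock x _ e g).symm
  rw [Finset.sum_congr rfl (fun x _ => h1 x),
    Finset.sum_comp (fun i : Blk M (Cen P) => subgroupBlockCoeff (Cen P) i.1 g)
      (fun x : G => conjBlk M x j)]
  have hfib : ∀ i ∈ Finset.univ.image (fun x : G => conjBlk M x j),
      (Finset.univ.filter fun x : G => conjBlk M x j = i).card = Nat.card T := by
    intro i hi
    obtain ⟨x₀, -, rfl⟩ := Finset.mem_image.mp hi
    rw [← Fintype.card_subtype, ← Nat.card_eq_fintype_card]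
    refine Nat.card_congr
      { toFun := fun x => ⟨x₀⁻¹ * (x : G), (hT _).mpr ?_⟩
        invFun := fun t => ⟨x₀ * (t : G), ?_⟩
        left_inv := fun x => by simp
        right_inv := fun t => by simp }
    · have h2 : gidem M (Cen P) (conjBlk M (x : G) j).1 = gidem M (Cen P) (conjBlk M x₀ j).1 := by
        rw [show conjBlk M (x : G) j = conjBlk M x₀ j from x.2]
      rw [gidem_conjBlk, gidem_conjBlk] at h2
      rw [← cjA_cjA, h2, cjA_inv_cjA]
    · refine Subtype.ext (gidem_inj (conjBlk M _ j).2 (conjBlk M x₀ j).2 ?_)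
      rw [gidem_conjBlk, gidem_conjBlk, ← cjA_cjA, (hT _).mp t.2]
  rw [Finset.mul_sum]
  refine Finset.sum_congr rfl fun i hi => ?_
  rw [hfib i hi, nsmul_eq_mul, ← mul_assoc,
    inv_mul_cancel₀ (Nat.cast_ne_zero.mpr Nat.card_pos.ne'), one_mul]

end CfsgLib.BrauerPairs
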