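import Cfsg.Agent.Lib.BrauerPairs.NormalIndex
import Cfsg.Agent.Lib.BrauerPairs.Trace
import Cfsg.Agent.Lib.Blocks.Orth

/-!
# Stable blocks of a normal subgroup

* `br_gidemTop_ne_zero`, `exists_conj_le_defect`;
* `isDefectGroup_inf`: if the idempotent of `B` is that of a stable block `c` of `N`, then `P ∩ N`
  is a defect group of `c` for every defect group `P` of `B`;
* `exists_block_of_stable`: in `p`-power index a stable block of `N` is a block of `G`.
-/

set_option autoImplicit false

noncomputable section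

namespace CfsgLib.BrauerPairs

open Cfsg CfsgLib.Blocks

universe u

variable {M : Ideal AlgInt} [M.IsMaximal] {G : Type u} [Group G] [Fintype G] {p : ℕ}

theorem br_gidemTop_ne_zero {B : Set (IrrCharacter G)} (hB : IsPBlock M B) {D : Subgroup G}
    (hD : IsDefectGroup p M B D) : br D (gidemTop M B) ≠ 0 := by
  obtain ⟨χ, hχ⟩ := IsPBlock.nonempty hB
  obtain ⟨y, hy, hyD⟩ := isDefectGroup_iff.mp hD
  intro h
  have h1 := congrArg (fun z => z.coeff y) h
  simp only [coeff_br, gidemTop_eq hB] at h1
  rw [if_pos hyD.mem_centralizer] at h1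
  exact ((isDefectClass_iff hB hχ y).mp hy).1 h1

theorem exists_conj_le_defect [Fact p.Prime] (hM : IsPModular p M) {B : Set (IrrCharacter G)}
    (hB : IsPBlock M B) {P : Subgroup G} (hP : IsDefectGroup p M B P) {R : Subgroup G}
    (hR : IsPGroup p R) (hne : br R (gidemTop M B) ≠ 0) :
    ∃ x : G, R.map (MulAut.conj x).toMonoidHom ≤ P := by
  obtain ⟨g, hg, hgC⟩ : ∃ g, (gidemTop M B).coeff g ≠ 0 ∧ g ∈ Cen R := by
    by_contra hc
    push Not at hc
    refine hne (ext_coeff fun g => ?_)
    rw [coeff_br]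
    split_ifs with h
    · by_contra h'
      exact hc g (by simpa using h') h
    · simp
  rw [gidemTop_eq hB, coeff_red] at hg
  exact cj_le_defect_of_rcoeff_ne_zero hM hB hP hR hgC hg

/-- The defect groups of a stable block. -/
theorem isDefectGroup_inf [Fact p.Prime] (hM : IsPModular p M) {N : Subgroup G} [hN : N.Normal]
    {c : Set (IrrCharacter N)} (hc : IsPBlock M c) {B : Set (IrrCharacter G)} (hB : IsPBlock M B)
    (heq : gidemTop M B = gidem M N c) {P : Subgroup G} (hP : IsDefectGroup p M B P) :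
    IsDefectGroup p M c ((P ⊓ N).subgroupOf N) := by
  have := Fintype.ofFinite N
  obtain ⟨D, hD, hPD⟩ := exists_defect_ge hM hc
    ((IsDefectGroup.isPGroup hP).to_le (inf_le_left : P ⊓ N ≤ P)) inf_le_right
    (br_ne_zero_mono inf_le_left (heq ▸ br_gidemTop_ne_zero hB hP))
  obtain ⟨x, hx⟩ := exists_conj_le_defect hM hB hP ((IsDefectGroup.isPGroup hD).map N.subtype)
    (heq ▸ br_ne_zero_of_defect hc hD)
  have h1 : (D.map N.subtype).map (MulAut.conj x).toMonoidHom ≤ P ⊓ N := le_inf hx (by
    rintro _ ⟨_, ⟨d, -, rfl⟩, rfl⟩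
    exact hN.conj_mem _ d.2 x)
  have h2 := Subgroup.card_le_of_le h1
  rw [Subgroup.card_map_of_injective (MulEquiv.injective _),
    Subgroup.card_map_of_injective (Subgroup.subtype_injective _),
    ← card_subgroupOf' (inf_le_right : P ⊓ N ≤ N)] at h2
  rwa [Subgroup.eq_of_le_of_card_ge hPD h2]

/-- A maximal pair at a given defect group. -/
theorem exists_maximal_at [Fact p.Prime] (hM : IsPModular p M) {B : Set (IrrCharacter G)}
    (hB : IsPBlock M B) {P : Subgroup G} (hD : IsDefectGroup p M B P) :
    ∃ e : Set (IrrCharacter (Cen P)), IsMaximalBrauerPair p M B P e := by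
  have hP := IsDefectGroup.isPGroup hD
  obtain ⟨e, he, hocc⟩ := exists_occurs' (centralIn_br (isFixed_gidemTop _ B)) (br_top_idem hM hB hP)
    (br_gidemTop_ne_zero hB hD)
  exact ⟨e, isMaximal_of_card hM ((brauerPairOf_iff hM).mpr ⟨⟨hP, he⟩, hB, hocc⟩)
    (card_defectGroup hM hB hD).ge⟩

/-- A stable block of a normal subgroup of `p`-power index is a block of the group. -/
theorem exists_block_of_stable (hM : IsPModular p M) {N : Subgroup G} [hN : N.Normal]
    (hidx : ∃ k : ℕ, N.index = p ^ k) {c : Set (IrrCharacter N)} (hc : IsPBlock M c)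
    (hst : ∀ x : G, cjA x (gidem M N c) = gidem M N c) :
    ∃ B : Set (IrrCharacter G), IsPBlock M B ∧ gidemTop M B = gidem M N c ∧
      ∀ g : G, blockCoeff B g = subgroupBlockCoeff N c g := by
  classical
  have := Fintype.ofFinite N
  set x := gidem M N c with hx
  have hid : x * x = x := gidem_mul_self hc
  have hconj : ∀ g h : G, x.coeff (h * g * h⁻¹) = x.coeff g := fun g h => by
    conv_lhs => rw [← hst h, coeff_cjA]
    group
  obtain ⟨B, hB, hocc⟩ := exists_occurs hconj hid (gidem_ne_zero hc)
  have hBN : CentralIn N (gidemTop M B) := by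
    refine ⟨fun g hg => ?_, isFixed_gidemTop N B⟩
    rw [gidemTop, coeff_ofFun, blockCoeff_eq_zero hM hB (by
      by_contra h; exact hg (mem_of_index_pow hM.1 hidx h)), resD_zero]
  have hcomm : x * gidemTop M B = gidemTop M B * x := by
    rw [hBN.commute_of_supp (centralIn_gidem c).1]
  have heq : gidemTop M B = x := by
    rw [← gidemTop_eq hB] at hocc
    rcases occurs_cases hBN (gidemTop_mul_self hB) hc with h | h
    · rw [← hocc, hcomm]; exact h
    · exact absurd (hocc.symm.trans (hcomm.trans h)) (by rw [gidemTop_eq hB]; exact ridem_ne_zero hB)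
  refine ⟨B, hB, heq, ?_⟩
  have hinv : ∀ g h : G, subgroupBlockCoeff N c (h * g * h⁻¹) = subgroupBlockCoeff N c g := by
    intro g h
    have hh : ∀ y, y ∈ N ↔ h⁻¹⁻¹ ⁻¹ * y * h⁻¹⁻¹ ∈ N := fun y => by
      rw [inv_inv]
      refine ⟨fun hy => by simpa using hN.conj_mem y hy h⁻¹, fun hy => ?_⟩
      simpa [mul_assoc] using hN.conj_mem _ hy h
    have hs : tblock (conjEquiv h⁻¹⁻¹ N N hh) c = c :=
      gidem_inj (isPBlock_tblock _ hc) hc (by rw [gidem_tblock, inv_inv]; exact hst h)
    have := subgroupBlockCoeff_tblock h⁻¹⁻¹ hh c (h * g * h⁻¹)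
    rw [hs, inv_inv] at this
    rw [this]
    congr 1
    group
  let a : Zint M G := ⟨ofFun (subgroupBlockCoeff N c), mem_Zint_iff.mpr
    ⟨fun g => by rw [coeff_ofFun]; exact subgroupBlockCoeff_mem hc g,
      fun g h => by simp only [coeff_ofFun]; exact hinv g h⟩⟩
  have hca : (a : CA G) = embC N (blockElt c) :=
    MonoidAlgebra.coeff_injective (Finsupp.ext fun g => by
      simp only [a, coeff_ofFun, coeff_embC_blockElt])
  have haa : a * a = a := Subtype.ext (by
    rw [Subring.coe_mul, hca, ← map_mul]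
    exact congrArg (embC N) (congrArg Subtype.val (idem_mul_self hc)))
  have hab : a = idem hB := idem_eq_of_congr haa (idem_mul_self hB) (by
    show red a = ridem hB
    rw [← gidemTop_eq hB, heq]
    refine ext_coeff fun g => ?_
    rw [coeff_red, hx, gidem, coeff_ofFun, resD_eq (subgroupBlockCoeff_mem hc g)]
    exact congrArg (res M) (Subtype.ext (by simp [a])))
  intro g
  have h4 := congrArg (fun z : Zint M G => (z : CA G).coeff g) hab
  simp only [a, idem, blockElt, coeff_ofFun] at h4
  exact h4.symm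

end CfsgLib.BrauerPairs
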