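import Cfsg.Agent.Lib.BrauerPairs.LocalDefect
import Cfsg.Agent.Lib.BrauerPairs.Principal
import Cfsg.Agent.Lib.BrauerPairs.Stable

/-!
# Major subsections exist

* `exists_major_subsection`: for `z` in the centre of a defect group, a block of `C(z)` inducing `B`
  with that defect group.
-/

set_option autoImplicit false

noncomputable section

namespace CfsgLib.BrauerPairs

open Cfsg CfsgLib.Blocks

variable {G : Type*} [Group G] [Fintype G] {p : ℕ} [hp : Fact p.Prime] {M : Ideal AlgInt} [M.IsMaximal]

/-- A block of the centraliser of a central element of a defect group, with the same defect group. -/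
theorem exists_major_subsection (hM : IsPModular p M) {B : Set (IrrCharacter G)} (hB : IsPBlock M B)
    {D : Subgroup G} (hD : IsDefectGroup p M B D) {z : G} (hz : z ∈ D) (hzc : ∀ d ∈ D, d * z = z * d) :
    ∃ b : Set (IrrCharacter (Subgroup.centralizer ({z} : Set G))),
      IsInducedBlock M (Subgroup.centralizer ({z} : Set G)) b B ∧
      blockDefect p b = blockDefect p B ∧
      IsDefectGroup p M b (D.subgroupOf (Subgroup.centralizer ({z} : Set G))) := by
  classical
  suffices h : ∀ H : Subgroup G, H = Cen (Subgroup.zpowers z) →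
      ∃ b : Set (IrrCharacter H), IsInducedBlock M H b B ∧ blockDefect p b = blockDefect p B ∧
        IsDefectGroup p M b (D.subgroupOf H) from
    h _ (by show _ = Subgroup.centralizer _; rw [Subgroup.zpowers_eq_closure, Subgroup.centralizer_closure])
  rintro H rfl
  set Q := Subgroup.zpowers z with hQ
  have := Fintype.ofFinite (Cen Q)
  obtain ⟨e, he⟩ := exists_maximal_at hM hB hD
  have hQD : Q ≤ D := Subgroup.zpowers_le.mpr hz
  have hQp : IsPGroup p Q := (IsDefectGroup.isPGroup hD).to_le hQD
  obtain ⟨f, hf, -⟩ := existsUnique_subpair hM hQD he.1.1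
  have hQf : IsBrauerPairOf p M B Q f :=
    (brauerPairOf_iff_of_subpair hM (a := ⟨Q, f⟩) (b := ⟨D, e⟩) hf).mp he.1
  have hDC : D ≤ Cen Q := by
    intro d hd
    show d ∈ Subgroup.centralizer _
    rw [hQ, Subgroup.zpowers_eq_closure, Subgroup.centralizer_closure,
      Subgroup.mem_centralizer_singleton_iff]
    exact hzc d hd
  obtain ⟨D', hD', hle⟩ := exists_local_defect_ge hM he.1.1 hf
  rw [inf_eq_left.mpr hDC] at hle
  -- the upper bound
  set S := D'.map (Cen Q).subtype with hS
  have hSC : S ≤ Cen Q := Subgroup.map_subtype_le D'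
  have hQS : Q ≤ S := hQD.trans (by
    rw [← Subgroup.map_subgroupOf_eq_of_le hDC]
    exact Subgroup.map_mono hle)
  have hSp : IsPGroup p S := (IsDefectGroup.isPGroup hD').map _
  obtain ⟨g, hg⟩ := exists_pair_above hM hQf.1 hSp hQS (hSC.trans (Subgroup.centralizer_le_normalizer _))
    (hSC.trans (isFixed_iff_le_fixer.mp (centralIn_gidem f).2)) (br_ne_zero_of_defect hQf.1.2 hD')
  obtain ⟨c, hc, hsc⟩ := exists_maximal hM (a := ⟨S, g⟩)
    ((brauerPairOf_iff_of_subpair hM (Relation.ReflTransGen.single
      (show NormalSubpairRel p M ⟨Q, f⟩ ⟨S, g⟩ from hg))).mpr hQf)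
  have hle2 : Nat.card S ≤ Nat.card c.1 := Subgroup.card_le_of_le (subgroup_le hsc)
  rw [hS, Subgroup.card_map_of_injective (Subgroup.subtype_injective _),
    card_defectGroup hM hB (isDefectGroup_of_maximal hM hc)] at hle2
  have heq : D.subgroupOf (Cen Q) = D' := by
    refine Subgroup.eq_of_le_of_card_ge hle ?_
    rw [card_subgroupOf' hDC, card_defectGroup hM hB hD]
    exact hle2
  refine ⟨f, (brauerPairOf_iff_induced hM hQp hQf.1.2 hB).mp hQf, ?_, heq ▸ hD'⟩
  refine Nat.pow_right_injective hp.out.two_le ?_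
  show p ^ _ = p ^ _
  rw [← card_defectGroup hM hQf.1.2 hD', ← heq, card_subgroupOf' hDC, card_defectGroup hM hB hD]

end CfsgLib.BrauerPairs
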