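import Cfsg.Agent.Lib.BrauerPairs.Nilpotent
import Cfsg.Agent.Lib.BrauerPairs.Principal
import Cfsg.Agent.Lib.BrauerPairs.Stable
import Cfsg.Agent.Lib.BlockArith.CharCount

/-!
# The subsections of a block with abelian defect group

* `blockRank_tblock`, `pairRank_cjPair`: the rank is invariant under conjugation;
* `exists_cen_mul_map`: fusion of subpairs below an abelian maximal pair is induced by its stabiliser;
* `pairs_defect`: the blocks below such a pair have its defect group;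
* `card_eq_sum_orbits`: `k(B)` is the sum of the ranks over the orbits of the stabiliser on `P`.
-/

set_option autoImplicit false

noncomputable section

namespace CfsgLib.BrauerPairs

open Cfsg CfsgLib.Blocks

universe u

variable {p : ℕ}

theorem blockRank_tblock {H H' : Type*} [Group H] [Fintype H] [Group H'] [Fintype H'] (e : H ≃* H')
    (f : Set (IrrCharacter H)) : blockRank p (tblock e f) = blockRank p f := by
  classical
  set L := LinearEquiv.funCongrLeft ℂ ℂ e.symm.toEquiv with hL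
  have hpr : ∀ χ : H → ℂ, L (pRegularPart p χ) = pRegularPart p (χ ∘ e.symm) := fun χ => funext fun y => by
    show pRegularPart p χ (e.symm y) = _
    simp only [BlockArith.pRegularPart_apply, MulEquiv.orderOf_eq, Function.comp_apply]
  have himg : (fun χ : IrrCharacter H' => pRegularPart p (χ : H' → ℂ)) '' tblock e f =
      L '' ((fun χ : IrrCharacter H => pRegularPart p (χ : H → ℂ)) '' f) := by
    ext φ
    constructor
    · rintro ⟨χ', hχ', rfl⟩
      refine ⟨_, ⟨tirr e.symm χ', (mem_tblock e).mp hχ', rfl⟩, ?_⟩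
      rw [hpr]
      congr 1
      exact funext fun y => congrArg (χ' : H' → ℂ) (e.apply_symm_apply y)
    · rintro ⟨_, ⟨χ, hχ, rfl⟩, rfl⟩
      refine ⟨tirr e χ, ⟨χ, hχ, funext fun y => congrArg (χ : H → ℂ) (e.symm_apply_apply y)⟩, ?_⟩
      exact (hpr _).symm
  rw [blockRank, blockRank, himg]
  exact (congrArg (fun W : Submodule ℂ (H' → ℂ) => Module.finrank ℂ W)
    (Submodule.map_span (L : (H → ℂ) →ₗ[ℂ] (H' → ℂ)) _).symm).trans (LinearEquiv.finrank_map_eq L _)

variable {M : Ideal AlgInt} [M.IsMaximal] {G : Type u} [Group G] [Fintype G]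

omit [M.IsMaximal] in
theorem pairRank_cjPair (x : G) (a : BrauerPairIdx G) :
    blockRank p (cjPair x a).2 = blockRank p a.2 := by
  have := Fintype.ofFinite (Cen a.1)
  have := Fintype.ofFinite (Cen (a.1.map (MulAut.conj x).toMonoidHom))
  show blockRank p (conjBlock a.1 x a.2) = _
  rw [conjBlock_eq_tblock, blockRank_tblock]

theorem cjPair_eq_self_of_mem_stab {Q : Subgroup G} {f : Set (IrrCharacter (Cen Q))}
    (hb : IsBrauerPair p M Q f) {y : G} (hy : y ∈ stab M Q f) :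
    cjPair y (⟨Q, f⟩ : BrauerPairIdx G) = ⟨Q, f⟩ :=
  pair_ext (M := M) (isBrauerPair_cjPair y (a := ⟨Q, f⟩) hb).2 hb.2 (map_conj_eq_self hy.1)
    (by rw [pid_cjPair]; exact hy.2)

variable [hp : Fact p.Prime]

/-- Below an abelian maximal pair, a block of `C(Q)` has defect group `P`. -/
theorem pairs_defect (hM : IsPModular p M) {B : Set (IrrCharacter G)} {P : Subgroup G}
    {e : Set (IrrCharacter (Cen P))} (hmax : IsMaximalBrauerPair p M B P e)
    (hab : ∀ x ∈ P, ∀ y ∈ P, x * y = y * x) {Q : Subgroup G} {f : Set (IrrCharacter (Cen Q))}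
    (hle : SubpairLE p M Q f P e) :
    IsDefectGroup p M f (P.subgroupOf (Cen Q)) := by
  classical
  have hF := blockFusion_spec hM hmax
  have hQP : Q ≤ P := subgroup_le (a := ⟨Q, f⟩) (b := ⟨P, e⟩) hle
  have hPC : P ≤ Cen Q := fun y hy =>
    Subgroup.mem_centralizer_iff.mpr fun q hq => hab q (hQP hq) y hy
  have hfc : (blockFusion hM hmax).IsFullyCentralized Q := by
    refine ⟨hQP, fun Q' _ => Subgroup.card_le_of_le ?_⟩
    exact le_inf inf_le_left (inf_le_left.trans hPC)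
  have h := (fullyCentralized_iff hM hF hle).mp hfc
  rwa [show (P ⊓ Cen Q).subgroupOf (Cen Q) = P.subgroupOf (Cen Q) from by
    rw [Subgroup.inf_subgroupOf_right]] at h

/-- Fusion below an abelian maximal pair `(P, e)` comes from its stabiliser. -/
theorem exists_cen_mul_map (hM : IsPModular p M) {B : Set (IrrCharacter G)} {P : Subgroup G}
    {e : Set (IrrCharacter (Cen P))} (hmax : IsMaximalBrauerPair p M B P e)
    (hab : ∀ x ∈ P, ∀ y ∈ P, x * y = y * x) {a : BrauerPairIdx G}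
    {Q : Subgroup G} {f : Set (IrrCharacter (Cen Q))}
    (hle' : Relation.ReflTransGen (NormalSubpairRel p M) a ⟨P, e⟩)
    (hle : SubpairLE p M Q f P e) {x : G} (hxa : cjPair x a = ⟨Q, f⟩) :
    ∃ t ∈ Cen Q, t * x ∈ stab M P e := by
  classical
  have hP := hmax.1.1
  have hQP : Q ≤ P := subgroup_le (a := ⟨Q, f⟩) (b := ⟨P, e⟩) hle
  have hb := isBrauerPair_left (a := ⟨Q, f⟩) hle hP
  have haP : a.1 ≤ P := subgroup_le hle'
  have hPC : ∀ R : Subgroup G, R ≤ P → P ≤ Cen R := fun R hR y hy =>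
    Subgroup.mem_centralizer_iff.mpr fun q hq => hab q (hR hq) y hy
  have hD := pairs_defect hM hmax hab hle
  have hn : NormalSubpairRel p M a ⟨P, e⟩ := normal_of_subpair hM hP (Q := a.1) (f := a.2) hle'
    ((hPC a.1 haP).trans (Subgroup.centralizer_le_normalizer _))
  have hn' : IsNormalSubpair p M Q f (P.map (MulAut.conj x).toMonoidHom) (conjBlock P x e) := by
    have h1 := normal_cjPair hM x hn
    rw [hxa] at h1
    exact h1
  have hQ : a.1.map (MulAut.conj x).toMonoidHom = Q := congrArg Sigma.fst hxa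
  obtain ⟨t, ht, htP⟩ := exists_conj_le hM hP hle le_rfl (hQP.trans (hPC Q hQP))
    (Subgroup.centralizer_le_normalizer _) (centralIn_gidem f).2
    (fun R hR hRC hne => ((card_le_defect hM hb.2 hR hRC hne hD).trans_eq
      (card_subgroupOf' (hPC Q hQP))).trans_eq (by rw [inf_eq_left.mpr (hPC Q hQP)]))
    hn' (by
      rw [← hQ]
      rintro _ ⟨y, hy, rfl⟩
      exact mem_centralizer_map_conj.mpr (by
        simpa [mul_assoc] using hPC a.1 haP hy))
  refine ⟨t, ht, ?_⟩
  have htx : Relation.ReflTransGen (NormalSubpairRel p M) (cjPair (t * x) ⟨P, e⟩) ⟨P, e⟩ := by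
    rw [← cjPair_cjPair t x (a := ⟨P, e⟩) hP]; exact htP
  have hR : P.map (MulAut.conj (t * x)).toMonoidHom = P :=
    Subgroup.eq_of_le_of_card_ge (subgroup_le htx)
      (Subgroup.card_map_of_injective (MulEquiv.injective _)).ge
  refine ⟨Subgroup.mem_normalizer_iff_map_conj_eq.mpr hR, ?_⟩
  show cjA (t * x) (pid M (⟨P, e⟩ : BrauerPairIdx G)) = pid M (⟨P, e⟩ : BrauerPairIdx G)
  rw [← pid_cjPair, pair_eq_of_le hM hP htx Relation.ReflTransGen.refl hR]

omit [Fintype G] hp in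
theorem map_conj_zpowers (g x : G) :
    (Subgroup.zpowers x).map (MulAut.conj g).toMonoidHom = Subgroup.zpowers (g * x * g⁻¹) := by
  rw [MonoidHom.map_zpowers]; rfl

omit hp in
/-- The inner sum of Brauer's formula, over pairs. -/
theorem sum_induced_eq_sum_pairs (hM : IsPModular p M) {B : Set (IrrCharacter G)} (hB : IsPBlock M B)
    {Q : Subgroup G} (hQ : IsPGroup p Q) [Fintype (BrauerPairIdx G)]
    [DecidablePred fun a : BrauerPairIdx G => a.1 = Q ∧ IsBrauerPairOf p M B a.1 a.2]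
    {H : Subgroup G} (hH : H = Cen Q) :
    ∑ᶠ b ∈ {b : Set (IrrCharacter H) | IsInducedBlock M H b B}, blockRank p b =
      ∑ a ∈ Finset.univ.filter (fun a : BrauerPairIdx G => a.1 = Q ∧ IsBrauerPairOf p M B a.1 a.2),
        blockRank p a.2 := by
  classical
  subst hH
  have := Fintype.ofFinite (Cen Q)
  rw [finsum_mem_eq_finite_toFinset_sum _ (Set.toFinite _)]
  refine Finset.sum_bij (fun b _ => (⟨Q, b⟩ : BrauerPairIdx G)) ?_ ?_ ?_ (fun b _ => rfl)
  · intro b hb
    rw [Set.Finite.mem_toFinset] at hb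
    refine Finset.mem_filter.mpr ⟨Finset.mem_univ _, rfl, ?_⟩
    exact (brauerPairOf_iff_induced hM hQ hb.1 hB).mpr hb
  · intro b _ b' _ h
    exact eq_of_heq (Sigma.mk.injEq .. ▸ h).2
  · rintro ⟨R, f⟩ ha
    obtain ⟨-, rfl, hf⟩ := Finset.mem_filter.mp ha
    exact ⟨f, (Set.Finite.mem_toFinset _).mpr ((brauerPairOf_iff_induced hM hQ hf.1.2 hB).mp hf), rfl⟩

/-- `k(B)` for an abelian defect group, by the orbits of the stabiliser of a maximal pair. -/
theorem card_eq_sum_orbits (hM : IsPModular p M) {B : Set (IrrCharacter G)} {P : Subgroup G}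
    {e : Set (IrrCharacter (Cen P))} (hmax : IsMaximalBrauerPair p M B P e)
    (hab : ∀ x ∈ P, ∀ y ∈ P, x * y = y * x) (R : Finset G) (hR : ∀ r ∈ R, r ∈ P)
    (hrep : ∀ y ∈ P, ∃ r ∈ R, ∃ t ∈ stab M P e, t * y * t⁻¹ = r)
    (huniq : ∀ r ∈ R, ∀ r' ∈ R, ∀ t ∈ stab M P e, t * r * t⁻¹ = r' → r = r')
    (F : G → BrauerPairIdx G) (hF : ∀ r ∈ R, (F r).1 = Subgroup.zpowers r ∧
      Relation.ReflTransGen (NormalSubpairRel p M) (F r) ⟨P, e⟩) :
    Nat.card B = ∑ r ∈ R, blockRank p (F r).2 := by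
  classical
  have hP := hmax.1.1
  have hB := hmax.1.2.1
  have : Finite (BrauerPairIdx G) := inferInstance
  have := Fintype.ofFinite (BrauerPairIdx G)
  -- representatives of the classes of p-elements
  let X : Finset G := (Finset.univ.filter fun g : G => ∃ k : ℕ, orderOf g = p ^ k).image
    fun g => (ConjClasses.mk g).out
  have hout : ∀ g : G, IsConj g (ConjClasses.mk g).out := fun g =>
    ConjClasses.mk_eq_mk_iff_isConj.mp (Quotient.out_eq (ConjClasses.mk g)).symm
  have hord : ∀ {g h : G}, IsConj g h → orderOf g = orderOf h := fun {g h} hc => by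
    obtain ⟨w, hw⟩ := isConj_iff.mp hc
    rw [← hw, show w * g * w⁻¹ = MulAut.conj w g from rfl, MulEquiv.orderOf_eq]
  have hX : ∀ x ∈ X, ∃ k : ℕ, orderOf x = p ^ k := by
    intro x hx
    obtain ⟨g, hg, rfl⟩ := Finset.mem_image.mp hx
    rw [← hord (hout g)]
    exact (Finset.mem_filter.mp hg).2
  have hXrep : ∀ g : G, (∃ k : ℕ, orderOf g = p ^ k) → ∃! x, x ∈ X ∧ IsConj g x := by
    intro g hg
    refine ⟨(ConjClasses.mk g).out, ⟨Finset.mem_image.mpr ⟨g, Finset.mem_filter.mpr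
      ⟨Finset.mem_univ _, hg⟩, rfl⟩, hout g⟩, ?_⟩
    rintro x ⟨hx, hgx⟩
    obtain ⟨g', -, rfl⟩ := Finset.mem_image.mp hx
    exact congrArg Quotient.out (ConjClasses.mk_eq_mk_iff_isConj.mpr ((hout g').trans hgx.symm))
  have hordP : ∀ y ∈ P, ∃ k : ℕ, orderOf y = p ^ k := fun y hy => by
    obtain ⟨k, hk⟩ := IsPGroup.iff_orderOf.mp hP.1 ⟨y, hy⟩
    exact ⟨k, by rwa [Subgroup.orderOf_mk] at hk⟩
  let E : G → Finset (BrauerPairIdx G) := fun x =>
    Finset.univ.filter fun a => a.1 = Subgroup.zpowers x ∧ IsBrauerPairOf p M B a.1 a.2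
  rw [BlockArith.card_eq_sum_subsections hM hB X hX hXrep,
    Finset.sum_congr rfl (g := fun x => ∑ a ∈ E x, blockRank p a.2) fun x hx =>
      sum_induced_eq_sum_pairs hM hB (by
        obtain ⟨k, hk⟩ := hX x hx
        exact IsPGroup.of_card (n := k) (by rw [Nat.card_zpowers, hk]))
        (by show _ = Subgroup.centralizer _
            rw [Subgroup.zpowers_eq_closure, Subgroup.centralizer_closure]),
    Finset.sum_sigma']
  -- the representative of an element of R
  choose x₀ hx₀ using fun r : R => (hXrep r.1 (hordP _ (hR _ r.2))).exists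
  choose g hg using fun r : R => isConj_iff.mp (hx₀ r).2
  rw [← Finset.sum_coe_sort R (fun r => blockRank p (F r).2)]
  refine (Finset.sum_bij (fun r _ => (⟨x₀ r, cjPair (g r) (F r.1)⟩ : Σ _ : G, BrauerPairIdx G))
    ?_ ?_ ?_ (fun r _ => (pairRank_cjPair _ _).symm)).symm
  · intro r _
    obtain ⟨h1, h2⟩ := hF _ r.2
    refine Finset.mem_sigma.mpr ⟨(hx₀ r).1, Finset.mem_filter.mpr ⟨Finset.mem_univ _, ?_, ?_⟩⟩
    · rw [cjPair_fst, h1, map_conj_zpowers, hg r]
    · exact brauerPairOf_cjPair hM _ ((brauerPairOf_iff_of_subpair hM h2).mp hmax.1)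
  · intro r _ r' _ h
    obtain ⟨hx, ha⟩ := Sigma.mk.inj_iff.mp h
    have ha' : cjPair (g r) (F r.1) = cjPair (g r') (F r'.1) := eq_of_heq ha
    obtain ⟨h1, h2⟩ := hF _ r'.2
    obtain ⟨h3, h4⟩ := hF _ r.2
    have hbr := isBrauerPair_left h4 hP
    have hbr' := isBrauerPair_left h2 hP
    have hcj : cjPair ((g r')⁻¹ * g r) (F r.1) = F r'.1 := by
      rw [← cjPair_cjPair _ _ hbr, ha', cjPair_cjPair _ _ hbr', inv_mul_cancel, cjPair_one hbr']
    obtain ⟨t, ht, hts⟩ := exists_cen_mul_map hM hmax hab (Q := (F r'.1).1) (f := (F r'.1).2) h4 h2 hcj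
    refine Subtype.ext (huniq _ r.2 _ r'.2 _ hts ?_)
    have hc : t * (r' : G) = (r' : G) * t := (Subgroup.mem_centralizer_iff.mp ht _
      (h1 ▸ Subgroup.mem_zpowers (r' : G))).symm
    have e1 : (g r')⁻¹ * g r * (r : G) * ((g r')⁻¹ * g r)⁻¹ = r' := by
      have e2 := hg r
      have e3 := hg r'
      rw [← hx, ← e2] at e3
      calc (g r')⁻¹ * g r * (r : G) * ((g r')⁻¹ * g r)⁻¹
          = (g r')⁻¹ * (g r * (r : G) * (g r)⁻¹) * g r' := by group
        _ = (g r')⁻¹ * (g r' * (r' : G) * (g r')⁻¹) * g r' := by rw [e3]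
        _ = r' := by group
    calc t * ((g r')⁻¹ * g r) * (r : G) * (t * ((g r')⁻¹ * g r))⁻¹
        = t * ((g r')⁻¹ * g r * (r : G) * ((g r')⁻¹ * g r)⁻¹) * t⁻¹ := by group
      _ = r' := by rw [e1, hc, mul_inv_cancel_right]
  · rintro ⟨x, a⟩ hxa
    obtain ⟨hx, ha⟩ := Finset.mem_sigma.mp hxa
    obtain ⟨-, haQ, haB⟩ := Finset.mem_filter.mp ha
    obtain ⟨g₁, hg₁⟩ := exists_conj_le_maximal hM (a := a) (b := ⟨P, e⟩) hmax haB
    have hy : g₁ * x * g₁⁻¹ ∈ P := subgroup_le hg₁ (by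
      show g₁ * x * g₁⁻¹ ∈ a.1.map (MulAut.conj g₁).toMonoidHom
      rw [haQ, map_conj_zpowers]
      exact Subgroup.mem_zpowers _)
    obtain ⟨r, hr, t, ht, htr⟩ := hrep _ hy
    obtain ⟨h1, h2⟩ := hF r hr
    have htg : cjPair (t * g₁) a = F r := by
      have h5 : Relation.ReflTransGen (NormalSubpairRel p M) (cjPair (t * g₁) a) ⟨P, e⟩ := by
        rw [← cjPair_cjPair t g₁ haB.1, ← cjPair_eq_self_of_mem_stab hP ht]
        exact subpair_cjPair hM t hg₁
      refine pair_eq_of_le hM hP h5 h2 ?_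
      rw [cjPair_fst, haQ, map_conj_zpowers, h1, ← htr]
      congr 1
      group
    have hxr : x₀ ⟨r, hr⟩ = x := (hXrep r (hordP _ (hR _ hr))).unique (hx₀ ⟨r, hr⟩)
      ⟨hx, isConj_iff.mpr ⟨(t * g₁)⁻¹, by rw [← htr]; group⟩⟩
    refine ⟨⟨r, hr⟩, Finset.mem_univ _, ?_⟩
    refine Sigma.ext hxr (heq_of_eq ?_)
    show cjPair (g ⟨r, hr⟩) (F r) = a
    rw [← htg, cjPair_cjPair _ _ haB.1]
    refine cjPair_eq_self_of_mem_stab (Q := a.1) (f := a.2) haB.1 (cen_le_stab a.2 ?_)
    rw [haQ]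
    show g ⟨r, hr⟩ * (t * g₁) ∈ Subgroup.centralizer _
    rw [Subgroup.zpowers_eq_closure, Subgroup.centralizer_closure, Subgroup.mem_centralizer_singleton_iff]
    have e2 := hg ⟨r, hr⟩
    rw [hxr] at e2
    generalize g ⟨r, hr⟩ = gr at e2 ⊢
    have e3 : gr * (t * g₁) * x * (gr * (t * g₁))⁻¹ = x := by
      rw [show gr * (t * g₁) * x * (gr * (t * g₁))⁻¹ = gr * (t * (g₁ * x * g₁⁻¹) * t⁻¹) * gr⁻¹ by group, htr]
      exact e2
    exact mul_inv_eq_iff_eq_mul.mp e3

end CfsgLib.BrauerPairs
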