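import Cfsg.Agent.Lib.BrauerPairs.Transfer

/-!
# The Brauer correspondence over a subgroup containing `N(P)`

* `normal_down`, `maximal_iff_no_step`, `occurs_iff_conj`, `eq_of_occurs_iff`;
* `no_step_iff`, `br_eq_of_up`: maximal pairs at `P` in `H` and in `G` give the same Brauer image.
-/

set_option autoImplicit false

noncomputable section

namespace CfsgLib.BrauerPairs

open Cfsg CfsgLib.Blocks

universe u

variable {M : Ideal AlgInt} [M.IsMaximal] {G : Type u} [Group G] [Fintype G] {p : ℕ}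

theorem normal_down (hM : IsPModular p M) {H : Subgroup G} [Fintype H] {a a' : BrauerPairIdx H}
    {b b' : BrauerPairIdx G} (h : NormalSubpairRel p M b b') (hu : Up (M := M) a b)
    (hu' : Up (M := M) a' b') (hA : a.1.map H.subtype = b.1) (hA' : a'.1.map H.subtype = b'.1)
    (ha : IsBrauerPair p M a.1 a.2) (ha' : IsBrauerPair p M a'.1 a'.2) :
    NormalSubpairRel p M a a' := by
  obtain ⟨-, -, hle, hN, hfix, hocc⟩ := (normalSubpair_iff hM).mp h
  refine (normalSubpair_iff hM).mpr ⟨ha, ha', ?_, ?_, ?_, ?_⟩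
  · intro y hy
    have h1 : (y : G) ∈ a'.1.map H.subtype := by rw [hA']; exact hle (hA.le ⟨y, hy, rfl⟩)
    exact (Subgroup.mem_map_iff_mem H.subtype_injective).mp h1
  · intro v hv
    rw [Subgroup.mem_normalizer_iff_map_conj_eq]
    apply Subgroup.map_injective H.subtype_injective
    have h2 := Subgroup.mem_normalizer_iff_map_conj_eq.mp (hN (hA'.le ⟨v, hv, rfl⟩))
    rw [hA]
    conv_rhs => rw [← h2, ← hA, Subgroup.map_map]
    rw [Subgroup.map_map]
    congr 1
  · intro v hv
    apply emb_injective H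
    rw [emb_cjA, ← hu.pid_eq]
    exact hfix (v : G) (hA'.le ⟨v, hv, rfl⟩)
  · apply emb_injective H
    show emb H (br a'.1 (pid M a) * pid M a') = emb H (pid M a')
    rw [map_mul, emb_br (fun z => cen_iff_map hu'.cen z), ← hu.pid_eq, ← hu'.pid_eq]
    exact hocc

/-- A pair is maximal iff no normal step leads to a bigger subgroup. -/
theorem maximal_iff_no_step [Fact p.Prime] (hM : IsPModular p M) {B : Set (IrrCharacter G)}
    {P : Subgroup G} {e : Set (IrrCharacter (Cen P))} (hPe : IsBrauerPairOf p M B P e) :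
    IsMaximalBrauerPair p M B P e ↔
      ∀ b : BrauerPairIdx G, NormalSubpairRel p M ⟨P, e⟩ b → b.1 = P := by
  constructor
  · intro hmax b hb
    exact hmax.2 b.1 b.2 ((brauerPairOf_iff_of_subpair hM (a := ⟨P, e⟩) (b := b)
      (Relation.ReflTransGen.single hb)).mpr hPe) (Relation.ReflTransGen.single hb)
  · intro h
    refine ⟨hPe, fun R g hR hle => ?_⟩
    rcases (subgroup_le (a := ⟨P, e⟩) (b := ⟨R, g⟩) hle).eq_or_lt with he | hlt
    · exact he.symm
    exfalso
    have hlt' := exists_normalizer_gt hR.1.1 hlt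
    obtain ⟨k, hk, -⟩ := existsUnique_subpair hM
      (inf_le_left : R ⊓ Subgroup.normalizer (P : Set G) ≤ R) hR.1
    exact hlt'.ne' (h ⟨_, k⟩ (normal_of_subpair hM (isBrauerPair_left (a := ⟨_, k⟩) hk hR.1)
      (subpair_of_le hM hR.1 hlt'.le hle hk) inf_le_right))

/-- The blocks occurring at a maximal pair form one orbit of `N(P)`. -/
theorem occurs_iff_conj [Fact p.Prime] (hM : IsPModular p M) {B : Set (IrrCharacter G)}
    {P : Subgroup G} {e : Set (IrrCharacter (Cen P))} (hmax : IsMaximalBrauerPair p M B P e)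
    (i : Blk M (Cen P)) :
    br P (gidemTop M B) * gidem M (Cen P) i.1 = gidem M (Cen P) i.1 ↔
      ∃ n ∈ Subgroup.normalizer (P : Set G),
        gidem M (Cen P) i.1 = cjA n (gidem M (Cen P) e) := by
  obtain ⟨hPe, hB, -⟩ := (brauerPairOf_iff hM).mp hmax.1
  constructor
  · intro h
    have hi : IsBrauerPairOf p M B P i.1 := (brauerPairOf_iff hM).mpr ⟨⟨hPe.1, i.2⟩, hB, h⟩
    obtain ⟨x, hx⟩ := exists_conj_le_maximal hM (a := ⟨P, i.1⟩) (b := ⟨P, e⟩) hmax hi
    have hR : P.map (MulAut.conj x).toMonoidHom = P :=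
      Subgroup.eq_of_le_of_card_ge (subgroup_le hx)
        (Subgroup.card_map_of_injective (MulEquiv.injective _)).ge
    have hxn : x ∈ Subgroup.normalizer (P : Set G) := Subgroup.mem_normalizer_iff_map_conj_eq.mpr hR
    refine ⟨x⁻¹, inv_mem hxn, ?_⟩
    have h1 : cjPair x (⟨P, i.1⟩ : BrauerPairIdx G) = ⟨P, e⟩ :=
      (normal_same_pair hM hx hR hPe).trans rfl
    have h2 := pid_cjPair (M := M) x (⟨P, i.1⟩ : BrauerPairIdx G)
    rw [h1] at h2
    rw [show gidem M (Cen P) e = cjA x (gidem M (Cen P) i.1) from h2, cjA_inv_cjA]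
  · rintro ⟨n, hn, he⟩
    have h1 := brauerPairOf_cjPair hM n (a := ⟨P, e⟩) hmax.1
    have h2 : cjPair n (⟨P, e⟩ : BrauerPairIdx G) = ⟨P, i.1⟩ :=
      (cjPair_normalizer hn hPe i.2 he).symm
    rw [h2] at h1
    exact ((brauerPairOf_iff hM).mp h1).2.2
where
  normal_same_pair {p : ℕ} {P : Subgroup G} {e : Set (IrrCharacter (Cen P))} {a : BrauerPairIdx G}
      (hM : IsPModular p M) (h : Relation.ReflTransGen (NormalSubpairRel p M) a ⟨P, e⟩) (he : a.1 = P)
      (hP : IsBrauerPair p M P e) : a = ⟨P, e⟩ := by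
    obtain ⟨A, fa⟩ := a
    obtain rfl : A = P := he
    rw [subpair_eq hM hP h Relation.ReflTransGen.refl]

theorem eq_of_occurs_iff {H : Subgroup G} {x y : KG M G} (hx : CentralIn H x) (hy : CentralIn H y)
    (hxx : x * x = x) (hyy : y * y = y)
    (h : ∀ i : Blk M H, x * gidem M H i.1 = gidem M H i.1 ↔ y * gidem M H i.1 = gidem M H i.1) :
    x = y := by
  have := Fintype.ofFinite (Blk M H)
  rw [← mul_one x, ← mul_one y, ← sum_gidem (M := M) H, Finset.mul_sum, Finset.mul_sum]
  refine Finset.sum_congr rfl fun i _ => ?_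
  rcases occurs_cases hx hxx i.2 with h1 | h1 <;> rcases occurs_cases hy hyy i.2 with h2 | h2
  · rw [h1, h2]
  · rw [(h i).mp h1, h1]
  · rw [(h i).mpr h2, h2]
  · rw [h1, h2]

section overgroup

variable [hp : Fact p.Prime] {P H : Subgroup G} [Fintype H]
  (hNH : Subgroup.normalizer (P : Set G) ≤ H) {e : Set (IrrCharacter (Cen P))}
  {e' : Set (IrrCharacter (Cen (P.subgroupOf H)))}

include hNH

theorem cen_map_subgroupOf :
    (Cen (P.subgroupOf H)).map H.subtype = Cen P := by
  have h := Subgroup.map_subgroupOf_eq_of_le (Subgroup.le_normalizer.trans hNH : P ≤ H)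
  rw [map_cen_subtype _ (by rw [h]; exact (Subgroup.centralizer_le_normalizer _).trans hNH), h]

/-- Maximality at `P` is the same in `H` and in `G`. -/
theorem maximal_iff_over (hM : IsPModular p M) {B : Set (IrrCharacter G)} {c : Set (IrrCharacter H)}
    (hu : Up (M := M) ⟨P.subgroupOf H, e'⟩ ⟨P, e⟩) (hBe : IsBrauerPairOf p M B P e)
    (hce : IsBrauerPairOf p M c (P.subgroupOf H) e') :
    IsMaximalBrauerPair p M B P e ↔ IsMaximalBrauerPair p M c (P.subgroupOf H) e' := by
  have hPH : P ≤ H := Subgroup.le_normalizer.trans hNH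
  have hmP : (P.subgroupOf H).map H.subtype = P := Subgroup.map_subgroupOf_eq_of_le hPH
  rw [maximal_iff_no_step hM hBe, maximal_iff_no_step hM hce]
  constructor
  · intro h a ha
    obtain ⟨-, hap, hle, hN, hfix, -⟩ := (normalSubpair_iff hM).mp ha
    have hPa : P ≤ a.1.map H.subtype := hmP ▸ Subgroup.map_mono hle
    obtain ⟨g, hg, hu'⟩ := exists_up (M := M) hp
      (map_cen_subtype a.1 ((centralizer_anti hPa).trans
        ((Subgroup.centralizer_le_normalizer _).trans hNH))) hap.2
    have hN' : a.1.map H.subtype ≤ Subgroup.normalizer (P : Set G) := by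
      have h0 := (Subgroup.map_mono (f := H.subtype) hN).trans (Subgroup.le_normalizer_map _)
      rwa [hmP] at h0
    have h1 := normal_up hM ha hu hu' hBe.1 ⟨hap.1.map _, hg⟩ hPa hN' (by
      rintro _ ⟨v, hv, rfl⟩
      rw [hu.pid_eq, Subgroup.coe_subtype, ← emb_cjA, hfix v hv])
    have h2 : a.1.map H.subtype = P := h _ h1
    exact Subgroup.map_injective H.subtype_injective (h2.trans hmP.symm)
  · intro h b hb
    obtain ⟨-, hbp, hle, hN, -, -⟩ := (normalSubpair_iff hM).mp hb
    have hbH : b.1 ≤ H := hN.trans hNH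
    have hmb : (b.1.subgroupOf H).map H.subtype = b.1 := Subgroup.map_subgroupOf_eq_of_le hbH
    obtain ⟨g, hg, hu'⟩ := exists_down (M := M) hp (A := b.1.subgroupOf H) (b := b) (by
      rw [map_cen_subtype _ (by
        rw [hmb]
        exact (centralizer_anti hle).trans ((Subgroup.centralizer_le_normalizer _).trans hNH)), hmb])
      hbp.2
    have h1 := h ⟨_, g⟩ (normal_down hM hb hu hu' hmP hmb hce.1
      ⟨hbp.1.of_equiv (Subgroup.subgroupOfEquivOfLe hbH).symm, hg⟩)
    rw [← hmb, show b.1.subgroupOf H = P.subgroupOf H from h1, hmP]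

/-- Corresponding maximal pairs give equal Brauer images. -/
theorem br_eq_of_up (hM : IsPModular p M) {B : Set (IrrCharacter G)} {c : Set (IrrCharacter H)}
    (hu : Up (M := M) ⟨P.subgroupOf H, e'⟩ ⟨P, e⟩) (hB : IsMaximalBrauerPair p M B P e)
    (hc : IsMaximalBrauerPair p M c (P.subgroupOf H) e') :
    br P (gidemTop M B) = br P (gidem M H c) := by
  have hC := cen_map_subgroupOf hNH
  have hPp := hB.1.1.1
  have hcb := hc.1.2.1
  have hcH : gidem M H c = emb H (gidemTop M c) := by rw [gidem_eq_emb hcb, gidemTop_eq hcb]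
  have hemb : br P (gidem M H c) = emb H (br (P.subgroupOf H) (gidemTop M c)) := by
    rw [hcH, emb_br (fun z => cen_iff_map hC z)]
  have hfixc : IsFixed (Cen P) (gidem M H c) :=
    (centralIn_gidem c).2.mono ((Subgroup.centralizer_le_normalizer _).trans hNH)
  refine eq_of_occurs_iff (centralIn_br (isFixed_gidemTop _ B)) (centralIn_br hfixc)
    (br_top_idem hM hB.1.2.1 hPp) ?_ fun i => ?_
  · rw [← br_mul hM hPp ((centralIn_gidem c).2.mono (Subgroup.le_normalizer.trans hNH))
      ((centralIn_gidem c).2.mono (Subgroup.le_normalizer.trans hNH)), gidem_mul_self hcb]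
  · obtain ⟨g, hg, hu'⟩ := exists_down (M := M) hp (A := P.subgroupOf H) (b := ⟨P, i.1⟩) hC i.2
    rw [occurs_iff_conj hM hB i, hemb,
      show gidem M (Cen P) i.1 = emb H (gidem M (Cen (P.subgroupOf H)) g) from hu'.pid_eq,
      ← map_mul, (emb_injective H).eq_iff, occurs_iff_conj hM hc ⟨g, hg⟩]
    constructor
    · rintro ⟨n, hn, he⟩
      refine ⟨⟨n, hNH hn⟩, ?_, emb_injective H ?_⟩
      · rw [Subgroup.mem_normalizer_iff_map_conj_eq]
        apply Subgroup.map_injective H.subtype_injective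
        have hmP : (P.subgroupOf H).map H.subtype = P :=
          Subgroup.map_subgroupOf_eq_of_le (Subgroup.le_normalizer.trans hNH)
        rw [hmP]
        conv_rhs => rw [← Subgroup.mem_normalizer_iff_map_conj_eq.mp hn]
        conv_rhs => arg 2; rw [← hmP]
        rw [Subgroup.map_map, Subgroup.map_map]
        congr 1
      · rw [he, emb_cjA, show gidem M (Cen P) e = emb H (gidem M (Cen (P.subgroupOf H)) e') from hu.pid_eq]
    · rintro ⟨n, hn, he⟩
      refine ⟨(n : G), ?_, ?_⟩
      · have hmP : (P.subgroupOf H).map H.subtype = P :=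
          Subgroup.map_subgroupOf_eq_of_le (Subgroup.le_normalizer.trans hNH)
        have := Subgroup.le_normalizer_map H.subtype ⟨n, hn, rfl⟩
        rwa [hmP] at this
      · rw [show gidem M (Cen P) e = emb H (gidem M (Cen (P.subgroupOf H)) e') from hu.pid_eq, he,
          emb_cjA]

end overgroup

end CfsgLib.BrauerPairs
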