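import Cfsg.Agent.Lib.BrauerPairs.System

/-!
# Nilpotent blocks and blocks with abelian defect group

* `eq_one_of_orderOf`, `mem_centralizer_of_inner`;
* `stab_le_of_nilpotent`, `exists_inner_of_nilpotent`;
* `nilpotent_iff_inner`;
* `exists_cen_mul_stab` (abelian defect group).
-/

set_option autoImplicit false

noncomputable section

namespace CfsgLib.BrauerPairs

open Cfsg CfsgLib.Blocks

universe u

variable {M : Ideal AlgInt} [M.IsMaximal] {G : Type u} [Group G] [Fintype G] {p : ℕ}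

/-- A nilpotent block: `p`-regular elements of the stabilisers centralise. -/
theorem nilpotent_stab {B : Set (IrrCharacter G)} (hnil : IsNilpotentBlock p M B) {Q : Subgroup G}
    {f : Set (IrrCharacter (Cen Q))} (hQ : IsBrauerPairOf p M B Q f) :
    ∀ y ∈ stab M Q f, IsPRegular p y → y ∈ Cen Q := fun y hy hr => by
  obtain ⟨hn, hs⟩ := (mem_stab_iff hQ.1.2).mp hy
  exact hnil.2 Q f hQ y hn hs hr

/-- A map fixing a pair fixes it after conjugation. -/
theorem cjPair_conj {a : BrauerPairIdx G} (ha : IsBrauerPair p M a.1 a.2) {g x : G}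
    (hx : cjPair x a = a) : cjPair (g * x * g⁻¹) (cjPair g a) = cjPair g a := by
  rw [cjPair_cjPair _ _ ha, inv_mul_cancel_right, ← cjPair_cjPair g x ha, hx]

variable [hp : Fact p.Prime]

/-- Fully normalised maximal subgroup. -/
theorem fullyNormalized_top {P : Subgroup G} (F : FusionSystem P) : F.IsFullyNormalized P := by
  refine ⟨le_rfl, fun Q hQ => ?_⟩
  have h1 : Q = P := Subgroup.eq_of_le_of_card_ge (Fusion.le_right_of_isConj hQ)
    (Fusion.card_eq_of_isConj hQ).le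
  rw [h1]

/-- In a nilpotent block every map of the fusion system is inner. -/
theorem exists_inner_of_nilpotent (hM : IsPModular p M) {B : Set (IrrCharacter G)} {P : Subgroup G}
    {e : Set (IrrCharacter (Cen P))} (hmax : IsMaximalBrauerPair p M B P e)
    (hnil : IsNilpotentBlock p M B) :
    ∀ (Q : Subgroup G) (f : Set (IrrCharacter (Cen Q))), SubpairLE p M Q f P e → ∀ g : G,
      Relation.ReflTransGen (NormalSubpairRel p M) (cjPair g ⟨Q, f⟩) ⟨P, e⟩ →
      ∃ v ∈ P, ∀ q ∈ Q, g * q * g⁻¹ = v * q * v⁻¹ := by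
  classical
  have hF := blockFusion_spec hM hmax
  set F := blockFusion hM hmax with hFdef
  have hP := hmax.1.1
  have hof : ∀ a : BrauerPairIdx G, Relation.ReflTransGen (NormalSubpairRel p M) a ⟨P, e⟩ →
      IsBrauerPairOf p M B a.1 a.2 := fun a ha =>
    (brauerPairOf_iff_of_subpair hM (b := ⟨P, e⟩) ha).mp hmax.1
  suffices h : ∀ (k : ℕ) (Q : Subgroup G) (f : Set (IrrCharacter (Cen Q))),
      Nat.card P - Nat.card Q = k → SubpairLE p M Q f P e → ∀ g : G,
      Relation.ReflTransGen (NormalSubpairRel p M) (cjPair g ⟨Q, f⟩) ⟨P, e⟩ →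
      ∃ v ∈ P, ∀ q ∈ Q, g * q * g⁻¹ = v * q * v⁻¹ from fun Q f => h _ Q f rfl
  intro k
  induction k using Nat.strong_induction_on with
  | _ k ih =>
  -- maps into a fully normalised subgroup
  have key : ∀ (Q : Subgroup G) (f : Set (IrrCharacter (Cen Q))),
      Nat.card P - Nat.card Q = k → SubpairLE p M Q f P e → ∀ g : G,
      Relation.ReflTransGen (NormalSubpairRel p M) (cjPair g ⟨Q, f⟩) ⟨P, e⟩ →
      F.IsFullyNormalized (Q.map (MulAut.conj g).toMonoidHom) →
      ∃ v ∈ P, ∀ q ∈ Q, g * q * g⁻¹ = v * q * v⁻¹ := by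
    intro Q f hk hle g hgf hfn
    have hQP : Q ≤ P := subgroup_le (a := ⟨Q, f⟩) (b := ⟨P, e⟩) hle
    rcases hQP.eq_or_lt with rfl | hlt
    · obtain rfl : f = e := subpair_eq hM hP hle .refl
      have hR : Q.map (MulAut.conj g).toMonoidHom = Q :=
        Subgroup.eq_of_le_of_card_ge (subgroup_le hgf)
          (Subgroup.card_map_of_injective (MulEquiv.injective _)).ge
      have hgs : g ∈ stab M Q f := by
        refine ⟨Subgroup.mem_normalizer_iff_map_conj_eq.mpr hR, ?_⟩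
        have h1 := pair_eq_of_le hM hP hgf (Relation.ReflTransGen.refl) hR
        show cjA g (pid M (⟨Q, f⟩ : BrauerPairIdx G)) = pid M (⟨Q, f⟩ : BrauerPairIdx G)
        rw [← pid_cjPair, h1]
      have h2 := sup_cen_eq_stab hM hF hle (fullyNormalized_top F)
        (nilpotent_stab hnil (hof ⟨Q, f⟩ hle)) hgs
      obtain ⟨v, hv, c, hc, rfl⟩ := exists_mul_of_mem_sup
        (H := Q ⊓ Subgroup.normalizer (Q : Set G)) (K := Cen Q)
        (fun y (hy : y ∈ Q ⊓ Subgroup.normalizer (Q : Set G)) => mem_normalizer_centralizer hy.2) h2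
      refine ⟨v, hv.1, fun q hq => ?_⟩
      calc v * c * q * (v * c)⁻¹ = v * (c * q) * c⁻¹ * v⁻¹ := by group
        _ = v * (q * c) * c⁻¹ * v⁻¹ := by rw [← Subgroup.mem_centralizer_iff.mp hc q hq]
        _ = v * q * v⁻¹ := by group
    · set R := P ⊓ Subgroup.normalizer (Q : Set G) with hR
      have hQR : Q < R := exists_normalizer_gt hP.1 hlt
      obtain ⟨eR, heR, -⟩ := existsUnique_subpair hM (inf_le_left : R ≤ P) hP
      have hRb := isBrauerPair_left (a := ⟨R, eR⟩) heR hP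
      have hn : NormalSubpairRel p M ⟨Q, f⟩ ⟨R, eR⟩ :=
        normal_of_subpair hM hRb (subpair_of_le hM hP hQR.le hle heR) inf_le_right
      have hn' : IsNormalSubpair p M (Q.map (MulAut.conj g).toMonoidHom) (conjBlock Q g f)
          (R.map (MulAut.conj g).toMonoidHom) (conjBlock R g eR) := normal_cjPair hM g hn
      obtain ⟨hb', -, hle'', hRN, hfix, -⟩ := (normalSubpair_iff hM).mp hn'
      have hle' : SubpairLE p M (Q.map (MulAut.conj g).toMonoidHom) (conjBlock Q g f) P e := hgf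
      obtain ⟨F', hF', hgF, -⟩ := exists_stable_block hM hb'.1 hb'.2 (le_stab _) (cen_le_stab _)
        inf_le_left (fun y hy => hy.2)
      have hD := (fullyNormalized_iff hM hF hle' (fun y => mem_stab_iff hb'.2) hF' hgF).mp hfn
      obtain ⟨t, ht, htP⟩ := exists_conj_le hM hP hle' (cen_le_stab _) (le_stab _) inf_le_left
        (fun y hy => hy.2) (fun S hS hST hne => by
          rw [norm_eq_inf_stab hM hP hle']
          have h3 := card_le_defect hM hF' hS hST (by rw [hgF]; exact hne) hD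
          exact h3.trans_eq (card_subgroupOf' (norm_le_stab hM hP hle')))
        hn' (fun y hy => ⟨hRN hy, hfix y hy⟩)
      have htg : Relation.ReflTransGen (NormalSubpairRel p M) (cjPair (t * g) ⟨R, eR⟩) ⟨P, e⟩ := by
        rw [← cjPair_cjPair t g (a := ⟨R, eR⟩) hRb]
        exact htP
      obtain ⟨v, hv, hvq⟩ := ih (Nat.card P - Nat.card R) (by
        have := card_lt_card_of_lt hQR
        have := Subgroup.card_le_of_le (show R ≤ P from inf_le_left)
        omega) R eR rfl heR (t * g) htg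
      have h2 := sup_cen_eq_stab hM hF hle' hfn (nilpotent_stab hnil (hof (cjPair g ⟨Q, f⟩) hgf)) ht
      obtain ⟨s, hs, c, hc, rfl⟩ := exists_mul_of_mem_sup
        (H := P ⊓ Subgroup.normalizer ((Q.map (MulAut.conj g).toMonoidHom : Subgroup G) : Set G))
        (K := Cen (Q.map (MulAut.conj g).toMonoidHom))
        (fun y (hy : y ∈ P ⊓ Subgroup.normalizer
          ((Q.map (MulAut.conj g).toMonoidHom : Subgroup G) : Set G)) =>
            mem_normalizer_centralizer hy.2) h2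
      refine ⟨s⁻¹ * v, P.mul_mem (P.inv_mem hs.1) hv, fun q hq => ?_⟩
      have h3 := Subgroup.mem_centralizer_iff.mp hc (g * q * g⁻¹) ⟨q, hq, rfl⟩
      have h4 := hvq q (hQR.le hq)
      calc g * q * g⁻¹ = g * q * g⁻¹ * c * c⁻¹ := by group
        _ = c * (g * q * g⁻¹) * c⁻¹ := by rw [h3]
        _ = s⁻¹ * (s * c * g * q * (s * c * g)⁻¹) * s := by group
        _ = s⁻¹ * (v * q * v⁻¹) * s := by rw [h4]
        _ = s⁻¹ * v * q * (s⁻¹ * v)⁻¹ := by group
  intro Q f hk hle g hgf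
  have hQP : Q ≤ P := subgroup_le (a := ⟨Q, f⟩) (b := ⟨P, e⟩) hle
  have hb := isBrauerPair_left (a := ⟨Q, f⟩) hle hP
  obtain ⟨R, hQR, hfn⟩ := exists_fullyNormalized F hQP
  obtain ⟨h, rfl, hhf⟩ := (isConj_iff_pair hM hF hle).mp hQR
  obtain ⟨v, hv, hvq⟩ := key Q f hk hle h hhf hfn
  have h1 : cjPair (h * g⁻¹) (cjPair g ⟨Q, f⟩) = cjPair h ⟨Q, f⟩ := by
    rw [cjPair_cjPair _ _ hb, inv_mul_cancel_right]
  have h2 : (Q.map (MulAut.conj g).toMonoidHom).map (MulAut.conj (h * g⁻¹)).toMonoidHom =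
      Q.map (MulAut.conj h).toMonoidHom := by rw [map_conj_map_conj, inv_mul_cancel_right]
  obtain ⟨w, hw, hwq⟩ := key (Q.map (MulAut.conj g).toMonoidHom) (conjBlock Q g f)
    (by rw [Subgroup.card_map_of_injective (MulEquiv.injective _)]; exact hk) hgf (h * g⁻¹)
    (by show Relation.ReflTransGen _ (cjPair (h * g⁻¹) (cjPair g ⟨Q, f⟩)) _; rw [h1]; exact hhf)
    (by rw [h2]; exact hfn)
  refine ⟨w⁻¹ * v, P.mul_mem (P.inv_mem hw) hv, fun q hq => ?_⟩
  have h3 := hwq (g * q * g⁻¹) ⟨q, hq, rfl⟩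
  have h4 := hvq q hq
  calc g * q * g⁻¹ = w⁻¹ * (w * (g * q * g⁻¹) * w⁻¹) * w := by group
    _ = w⁻¹ * (h * g⁻¹ * (g * q * g⁻¹) * (h * g⁻¹)⁻¹) * w := by rw [h3]
    _ = w⁻¹ * (h * q * h⁻¹) * w := by group
    _ = w⁻¹ * (v * q * v⁻¹) * w := by rw [h4]
    _ = w⁻¹ * v * q * (w⁻¹ * v)⁻¹ := by group

/-- Acting as an element of a `p`-group and being `p`-regular means centralising. -/
theorem mem_centralizer_of_inner {Q P : Subgroup G} (hP : IsPGroup p P) {x v : G}
    (hx : x ∈ Subgroup.normalizer (Q : Set G)) (hxr : IsPRegular p x) (hv : v ∈ P)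
    (h : ∀ q ∈ Q, x * q * x⁻¹ = v * q * v⁻¹) : x ∈ Cen Q := by
  have hvn : v ∈ Subgroup.normalizer (Q : Set G) := by
    rw [Subgroup.mem_normalizer_iff_map_conj_eq]
    ext y
    constructor
    · rintro ⟨q, hq, rfl⟩
      show v * q * v⁻¹ ∈ Q
      rw [← h q hq]
      exact (Subgroup.mem_set_normalizer_iff.mp hx q).mp hq
    · intro hy
      refine ⟨x⁻¹ * y * x, (mem_normalizer_iff''.mp hx y).mp hy, ?_⟩
      show v * (x⁻¹ * y * x) * v⁻¹ = y
      rw [← h _ ((mem_normalizer_iff''.mp hx y).mp hy)]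
      group
  set ρ := Q.normalizerMonoidHom with hρ
  have he : ρ ⟨x, hx⟩ = ρ ⟨v, hvn⟩ := MulEquiv.ext fun q => Subtype.ext (h q q.2)
  have h1 : orderOf (ρ ⟨x, hx⟩) ∣ orderOf x := by
    rw [show orderOf x = orderOf (⟨x, hx⟩ : Subgroup.normalizer (Q : Set G)) from
      (orderOf_submonoid (⟨x, hx⟩ : Subgroup.normalizer (Q : Set G))).symm ▸ rfl]
    exact orderOf_map_dvd ρ _
  obtain ⟨k, hk⟩ := hP ⟨v, hv⟩
  have h2 : orderOf (ρ ⟨x, hx⟩) ∣ p ^ k := by
    rw [he]
    apply orderOf_dvd_of_pow_eq_one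
    rw [← map_pow]
    have h0 : (⟨v, hvn⟩ : Subgroup.normalizer (Q : Set G)) ^ p ^ k = 1 :=
      Subtype.ext (by simpa using congrArg Subtype.val hk)
    rw [h0, map_one]
  have hcop : Nat.Coprime (orderOf x) (p ^ k) :=
    Nat.Coprime.pow_right k (hp.out.coprime_iff_not_dvd.mpr hxr).symm
  have h3 : ρ ⟨x, hx⟩ = 1 :=
    orderOf_eq_one_iff.mp (Nat.eq_one_of_dvd_coprimes hcop h1 h2)
  have h4 : (⟨x, hx⟩ : Subgroup.normalizer (Q : Set G)) ∈ ρ.ker := h3
  rw [hρ, Subgroup.normalizerMonoidHom_ker] at h4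
  exact h4

/-- A block is nilpotent iff its fusion system is inner. -/
theorem nilpotent_iff_inner (hM : IsPModular p M) {B : Set (IrrCharacter G)} {P : Subgroup G}
    {e : Set (IrrCharacter (Cen P))} {F : FusionSystem P} (hF : IsBlockFusionSystemOn p M B P e F) :
    IsNilpotentBlock p M B ↔ ∀ Q : Subgroup G, F.Hom Q = (innerFusionSystem P).Hom Q := by
  have hmax := hF.1
  constructor
  · intro hnil Q
    ext φ
    constructor
    · intro hφ
      have hQ := (F.le_of_mem hφ).1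
      obtain ⟨f, hle, -⟩ := existsUnique_subpair hM hQ hmax.1.1
      obtain ⟨g, hg, hgf⟩ := (mem_hom_iff hM hF hle φ).mp hφ
      obtain ⟨v, hv, hvq⟩ := exists_inner_of_nilpotent hM hmax hnil Q f hle g hgf
      exact ⟨hQ, v, hv, fun u => (hg u).trans (hvq u u.2)⟩
    · rintro ⟨hQ, v, hv, hφ⟩
      rw [eq_conjHom hφ]
      exact F.conj_mem hQ hv
  · intro hin
    refine ⟨hmax.1.2.1, fun Q' f' hQ' x hxn hxs hxr => ?_⟩
    obtain ⟨g, hg⟩ := exists_conj_le_maximal hM (a := ⟨Q', f'⟩) (b := ⟨P, e⟩) hmax hQ'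
    set a : BrauerPairIdx G := cjPair g ⟨Q', f'⟩ with ha
    have hab := isBrauerPair_left hg hmax.1.1
    have hx : cjPair x (⟨Q', f'⟩ : BrauerPairIdx G) = ⟨Q', f'⟩ :=
      pair_ext (M := M) (isBrauerPair_cjPair x (a := ⟨Q', f'⟩) hQ'.1).2 hQ'.1.2
        (map_conj_eq_self hxn)
        (by rw [pid_cjPair]; exact ((stabilizesBlock_iff hQ'.1.2).mp hxs).2)
    have hy : cjPair (g * x * g⁻¹) a = a := cjPair_conj hQ'.1 hx
    have hyn : g * x * g⁻¹ ∈ Subgroup.normalizer ((a.1 : Subgroup G) : Set G) :=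
      Subgroup.mem_normalizer_iff_map_conj_eq.mpr (congrArg Sigma.fst hy)
    have hle : SubpairLE p M a.1 a.2 P e := hg
    have h1 : conjHom a.1 (g * x * g⁻¹) ∈ F.Hom a.1 := by
      refine (mem_hom_iff hM hF hle _).mpr ⟨_, fun u => rfl, ?_⟩
      show Relation.ReflTransGen _ (cjPair (g * x * g⁻¹) a) _
      rw [hy]
      exact hg
    rw [hin] at h1
    obtain ⟨-, v, hv, hvq⟩ := h1
    have hyr : IsPRegular p (g * x * g⁻¹) := by
      show ¬ p ∣ orderOf (g * x * g⁻¹)
      rwa [show g * x * g⁻¹ = MulAut.conj g x by simp, MulEquiv.orderOf_eq]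
    have h2 := mem_centralizer_of_inner hmax.1.1.1 hyn hyr hv (fun q hq => hvq ⟨q, hq⟩)
    have h3 := mem_centralizer_map_conj.mp h2
    simpa [mul_assoc] using h3

/-- Abelian defect group: the stabiliser of a subpair is `C(Q)` times that of `(P, e)`. -/
theorem exists_cen_mul_stab (hM : IsPModular p M) {B : Set (IrrCharacter G)} {P : Subgroup G}
    {e : Set (IrrCharacter (Cen P))} (hmax : IsMaximalBrauerPair p M B P e)
    (hab : ∀ x ∈ P, ∀ y ∈ P, x * y = y * x) {Q : Subgroup G} {f : Set (IrrCharacter (Cen Q))}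
    (hle : SubpairLE p M Q f P e) {x : G} (hx : x ∈ stab M Q f) :
    ∃ t ∈ Cen Q, t * x ∈ stab M P e := by
  classical
  have hP := hmax.1.1
  have hF := blockFusion_spec hM hmax
  have hQP : Q ≤ P := subgroup_le (a := ⟨Q, f⟩) (b := ⟨P, e⟩) hle
  have hb := isBrauerPair_left (a := ⟨Q, f⟩) hle hP
  have hPC : P ≤ Cen Q := fun y hy =>
    Subgroup.mem_centralizer_iff.mpr fun q hq => hab q (hQP hq) y hy
  have hfc : (blockFusion hM hmax).IsFullyCentralized Q := by
    refine ⟨hQP, fun Q' _ => Subgroup.card_le_of_le ?_⟩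
    exact le_inf inf_le_left (inf_le_left.trans hPC)
  have hD := (fullyCentralized_iff hM hF hle).mp hfc
  have hPN : P ≤ Subgroup.normalizer (Q : Set G) := hPC.trans (Subgroup.centralizer_le_normalizer _)
  have hn : NormalSubpairRel p M ⟨Q, f⟩ ⟨P, e⟩ := normal_of_subpair hM hP hle hPN
  have hxa : cjPair x (⟨Q, f⟩ : BrauerPairIdx G) = ⟨Q, f⟩ :=
    pair_ext (M := M) (isBrauerPair_cjPair x (a := ⟨Q, f⟩) hb).2 hb.2 (map_conj_eq_self hx.1)
      (by rw [pid_cjPair]; exact hx.2)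
  have hn' : IsNormalSubpair p M Q f (P.map (MulAut.conj x).toMonoidHom) (conjBlock P x e) := by
    have h1 := normal_cjPair hM x hn
    rw [hxa] at h1
    exact h1
  obtain ⟨t, ht, htP⟩ := exists_conj_le hM hP hle le_rfl (hQP.trans hPC)
    (Subgroup.centralizer_le_normalizer _) (centralIn_gidem f).2
    (fun R hR hRC hne => (card_le_defect hM hb.2 hR hRC hne hD).trans_eq
      (card_subgroupOf' inf_le_right))
    hn' (by
      rintro _ ⟨y, hy, rfl⟩
      exact conj_mem_centralizer hx.1 (hPC hy))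
  refine ⟨t, ht, ?_⟩
  have htx : Relation.ReflTransGen (NormalSubpairRel p M) (cjPair (t * x) ⟨P, e⟩) ⟨P, e⟩ := by
    rw [← cjPair_cjPair t x (a := ⟨P, e⟩) hP]; exact htP
  have hR : P.map (MulAut.conj (t * x)).toMonoidHom = P :=
    Subgroup.eq_of_le_of_card_ge (subgroup_le htx)
      (Subgroup.card_map_of_injective (MulEquiv.injective _)).ge
  refine ⟨Subgroup.mem_normalizer_iff_map_conj_eq.mpr hR, ?_⟩
  show cjA (t * x) (pid M (⟨P, e⟩ : BrauerPairIdx G)) = pid M (⟨P, e⟩ : BrauerPairIdx G)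
  rw [← pid_cjPair, pair_eq_of_le hM hP htx Relation.ReflTransGen.refl hR]

end CfsgLib.BrauerPairs
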