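import Cfsg.Agent.Lib.Blocks.FirstMain
import Cfsg.Agent.Lib.Blocks.Covering

/-!
# Block idempotents modulo `M`, embedded in the group algebra of an overgroup

* `idem_mul_eq_or_eq_zero`: a central idempotent modulo `M` contains a block idempotent or kills it;
* `exists_occurs`, `idem_eq_of_congr`, `idem_mem_subring`;
* `tblock`: transport of a set of characters along an isomorphism, `isPBlock_tblock`,
  `blockCoeff_tblock`.
-/

set_option autoImplicit false

noncomputable section

namespace CfsgLib.BrauerPairs

open Cfsg CfsgLib.Blocks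
open scoped ComplexConjugate

variable {M : Ideal AlgInt} [M.IsMaximal] {H : Type*} [Group H] [Fintype H]

/-- The reduction of a block idempotent. -/
abbrev ridem {B : Set (IrrCharacter H)} (hB : IsPBlock M B) : MonoidAlgebra (Res M) H :=
  red (idem hB)

/-- Every central element modulo `M` lifts to the integral centre. -/
theorem exists_lift {x : MonoidAlgebra (Res M) H}
    (hx : ∀ g h : H, x.coeff (h * g * h⁻¹) = x.coeff g) : ∃ a : Zint M H, red a = x := by
  classical
  choose s hs using res_surjective M
  refine ⟨⟨ofFun fun g => ((s (x.coeff g) : locRing M) : ℂ), mem_Zint_iff.mpr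
    ⟨fun g => (s (x.coeff g)).2, fun g h => ?_⟩⟩, ?_⟩
  · simp only [coeff_ofFun, hx g h]
  · refine MonoidAlgebra.coeff_injective (Finsupp.ext fun g => ?_)
    rw [coeff_red]
    exact (congrArg (res M) (Subtype.ext (coeff_ofFun _ g))).trans (hs _)

theorem bomega_idem_self {B : Set (IrrCharacter H)} (hB : IsPBlock M B) {ξ : IrrCharacter H}
    (hξ : ξ ∈ B) : bomega ξ (idem hB) = 1 := by
  classical
  rw [bomega_idem, if_pos hξ]

theorem ridem_mul_self {B : Set (IrrCharacter H)} (hB : IsPBlock M B) :
    ridem hB * ridem hB = ridem hB := by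
  rw [ridem, ← map_mul, idem_mul_self]

theorem ridem_mul_of_ne {B B' : Set (IrrCharacter H)} (hB : IsPBlock M B) (hB' : IsPBlock M B')
    (hne : B ≠ B') : ridem hB * ridem hB' = 0 := by
  rw [ridem, ← map_mul, idem_mul_of_ne hB hB' hne, map_zero]

theorem ridem_ne_zero {B : Set (IrrCharacter H)} (hB : IsPBlock M B) : ridem hB ≠ 0 := fun h => by
  obtain ⟨ξ, hξ⟩ := IsPBlock.nonempty hB
  have h1 := bomega_eq_of_red_eq ξ (a := idem hB) (b := 0) (by rw [map_zero]; exact h)
  rw [bomega_idem_self hB hξ, map_zero] at h1
  exact one_ne_zero h1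

theorem ridem_inj {B B' : Set (IrrCharacter H)} (hB : IsPBlock M B) (hB' : IsPBlock M B')
    (h : ridem hB = ridem hB') : B = B' := by
  by_contra hne
  exact ridem_ne_zero hB (by rw [← ridem_mul_self hB]; nth_rw 2 [h]; exact ridem_mul_of_ne hB hB' hne)

theorem bomega_eq_one_iff {a : Zint M H} (ha : red (a * a) = red a) {B : Set (IrrCharacter H)}
    (hB : IsPBlock M B) {ξ : IrrCharacter H} (hξ : ξ ∈ B) :
    bomega ξ a = 1 ↔ red a * ridem hB = ridem hB := by
  classical
  refine ⟨fun h => ?_, fun h => ?_⟩
  · by_contra hne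
    have hd : red (idem hB - a * idem hB) ≠ 0 := by
      rw [map_sub, map_mul, sub_ne_zero]
      exact fun h' => hne h'.symm
    obtain ⟨η, hη⟩ := exists_bomega_ne_zero (a := idem hB - a * idem hB) (by
      simp only [map_mul, map_sub]
      have h1 : red (idem hB) * red (idem hB) = red (idem hB) := ridem_mul_self hB
      have hc : red (idem hB) * red a = red a * red (idem hB) := by
        rw [← map_mul, ← map_mul, mul_comm]
      rw [map_mul] at ha
      have h2 : red a * red (idem hB) * (red a * red (idem hB)) = red a * red (idem hB) := by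
        rw [mul_assoc, ← mul_assoc (red (idem hB)) (red a), hc, mul_assoc, h1, ← mul_assoc, ha]
      have h3 : red (idem hB) * (red a * red (idem hB)) = red a * red (idem hB) := by
        rw [← mul_assoc, hc, mul_assoc, h1]
      have h4 : red a * red (idem hB) * red (idem hB) = red a * red (idem hB) := by
        rw [mul_assoc, h1]
      rw [mul_sub, sub_mul, sub_mul, h1, h2, h3, h4, sub_self, sub_zero]) hd
    apply hη
    rw [map_sub, map_mul, bomega_idem]
    split_ifs with hmem
    · rw [bomega_eq_of_mem hB hmem hξ, h, one_mul, sub_self]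
    · rw [mul_zero, sub_self]
  · have h1 := bomega_eq_of_red_eq ξ (a := a * idem hB) (b := idem hB) (by rw [map_mul]; exact h)
    rwa [map_mul, bomega_idem_self hB hξ, mul_one] at h1

/-- A central idempotent modulo `M` contains a block idempotent or kills it. -/
theorem idem_mul_eq_or_eq_zero {x : MonoidAlgebra (Res M) H}
    (hx : ∀ g h : H, x.coeff (h * g * h⁻¹) = x.coeff g) (hid : x * x = x)
    {B : Set (IrrCharacter H)} (hB : IsPBlock M B) :
    x * ridem hB = ridem hB ∨ x * ridem hB = 0 := by
  obtain ⟨a, rfl⟩ := exists_lift hx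
  obtain ⟨ξ, hξ⟩ := IsPBlock.nonempty hB
  have ha : red (a * a) = red a := by rw [map_mul, hid]
  have hv : bomega ξ a * bomega ξ a = bomega ξ a := by
    rw [← map_mul]; exact bomega_eq_of_red_eq ξ ha
  have : IsDomain (Res M) := Ideal.Quotient.isDomain M
  rcases eq_or_ne (bomega ξ a) 0 with h0 | h0
  · right
    have h1 := (bomega_eq_one_iff (a := 1 - a) (by
      simp only [map_mul, map_sub, map_one]
      rw [sub_mul, one_mul, mul_sub, mul_one, hid, sub_self, sub_zero]) hB hξ).mp
      (by rw [map_sub, map_one, h0, sub_zero])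
    rwa [map_sub, map_one, sub_mul, one_mul, sub_eq_self] at h1
  · exact .inl ((bomega_eq_one_iff ha hB hξ).mp (mul_left_cancel₀ h0 (hv.trans (mul_one _).symm)))

/-- A nonzero central idempotent modulo `M` contains some block. -/
theorem exists_occurs {x : MonoidAlgebra (Res M) H}
    (hx : ∀ g h : H, x.coeff (h * g * h⁻¹) = x.coeff g) (hid : x * x = x) (hne : x ≠ 0) :
    ∃ (B : Set (IrrCharacter H)) (hB : IsPBlock M B), x * ridem hB = ridem hB := by
  obtain ⟨a, rfl⟩ := exists_lift hx
  obtain ⟨ξ, hξ⟩ := exists_bomega_ne_zero (a := a) (by rw [map_mul, hid]) hne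
  refine ⟨_, isPBlock_blockOf ξ, (idem_mul_eq_or_eq_zero hx hid _).resolve_right fun h => hξ ?_⟩
  have h1 := bomega_eq_of_red_eq ξ (a := a * idem (isPBlock_blockOf ξ)) (b := 0) (by
    rw [map_mul, map_zero]; exact h)
  rwa [map_mul, bomega_idem_self _ (mem_blockOf_self ξ), mul_one, map_zero] at h1

/-- Idempotents of the integral centre with the same reduction are equal. -/
theorem idem_eq_of_congr {a b : Zint M H} (ha : a * a = a) (hb : b * b = b) (h : red a = red b) :
    a = b := by
  refine Zint_ext fun η => ?_
  have hval : ∀ c : Zint M H, c * c = c → zomega η c = 0 ∨ zomega η c = 1 := fun c hc => by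
    have h1 : (zomega η c : ℂ) * (zomega η c : ℂ) = (zomega η c : ℂ) := by
      rw [← Subring.coe_mul, ← map_mul, hc]
    rcases eq_or_ne (zomega η c : ℂ) 0 with h0 | h0
    · exact .inl (Subtype.ext h0)
    · exact .inr (Subtype.ext (mul_left_cancel₀ h0 (h1.trans (mul_one _).symm)))
  have h2 := bomega_eq_of_red_eq η h
  rw [bomega_apply, bomega_apply] at h2
  rcases hval a ha with ea | ea <;> rcases hval b hb with eb | eb <;> rw [ea, eb] at h2 ⊢
  · simp at h2
  · simp at h2

/-- The block idempotent lies in every subring with the scalars and a lift of its reduction. -/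
theorem idem_mem_subring {B : Set (IrrCharacter H)} (hB : IsPBlock M B) (S : Subring (Zint M H))
    (hS : ∀ c, scal M c ∈ S) {x : Zint M H} (hx : x ∈ S)
    (h : ∀ η : IrrCharacter H, bomega η x = bomega η (idem hB)) : idem hB ∈ S := by
  classical
  set w := ∏ η : IrrCharacter H, if η ∈ B then 1 else x - scal M (zomega η x) with hw
  have hwS : w ∈ S := Subring.prod_mem _ fun η _ => by
    split_ifs
    · exact S.one_mem
    · exact S.sub_mem hx (hS _)
  set c : IrrCharacter H → locRing M := fun η => zomega η w with hc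
  have hout : ∀ η, η ∉ B → c η = 0 := fun η hη => by
    simp only [hc, hw, map_prod]
    refine Finset.prod_eq_zero (Finset.mem_univ η) ?_
    rw [if_neg hη, map_sub, zomega_scal, sub_self]
  have hin : ∀ η ∈ B, res M (c η) = 1 := fun η hη => by
    simp only [hc, hw, map_prod]
    refine Finset.prod_eq_one fun ν _ => ?_
    split_ifs with hν
    · simp
    · rw [map_sub, zomega_scal, map_sub, ← bomega_apply, ← bomega_apply, h, h, bomega_idem,
        bomega_idem, if_pos hη, if_neg hν, sub_zero]
  set C := ∏ η : IrrCharacter H, if η ∈ B then c η else 1 with hC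
  have hu : IsUnit C := by
    rw [isUnit_iff_res_ne_zero, hC, map_prod, Finset.prod_eq_one fun η _ => ?_]
    · exact one_ne_zero
    · split_ifs with hη
      · exact hin η hη
      · exact map_one _
  obtain ⟨u, hu⟩ := hu
  set r := ∏ η : IrrCharacter H, if η ∈ B then scal M (c η) - w else 1 with hr
  have hrS : r ∈ S := Subring.prod_mem _ fun η _ => by
    split_ifs
    · exact S.sub_mem (hS _) hwS
    · exact S.one_mem
  have key : idem hB = 1 - scal M ((u⁻¹ : (locRing M)ˣ) : locRing M) * r := by
    refine Zint_ext fun η => ?_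
    rw [map_sub, map_one, map_mul, zomega_scal, zomega_idem]
    split_ifs with hη
    · rw [show zomega η r = 0 from by
        rw [hr, map_prod]
        refine Finset.prod_eq_zero (Finset.mem_univ η) ?_
        rw [if_pos hη, map_sub, zomega_scal]
        exact sub_self _, mul_zero, sub_zero]
    · rw [show zomega η r = C from by
        rw [hr, hC, map_prod]
        refine Finset.prod_congr rfl fun ν _ => ?_
        split_ifs
        · rw [map_sub, zomega_scal, show zomega η w = 0 from hout η hη, sub_zero]
        · rw [map_one], ← hu, Units.inv_mul, sub_self]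
  rw [key]
  exact S.sub_mem S.one_mem (S.mul_mem (hS _) hrS)

section transport

variable {H' : Type*} [Group H'] [Fintype H'] (e : H ≃* H')

/-- Transport of a set of characters along an isomorphism. -/
def tblock (f : Set (IrrCharacter H)) : Set (IrrCharacter H') :=
  {χ' | ∃ χ ∈ f, (χ' : H' → ℂ) ∘ e = (χ : H → ℂ)}

/-- Transport of an irreducible character along an isomorphism. -/
def tirr (χ : IrrCharacter H) : IrrCharacter H' :=
  ⟨(χ : H → ℂ) ∘ e.symm, CfsgLib.CharNormal.isIrr_comp_mulEquiv χ.2 e.symm⟩

omit [M.IsMaximal] in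
theorem mem_tblock {f : Set (IrrCharacter H)} {χ' : IrrCharacter H'} :
    χ' ∈ tblock e f ↔ tirr e.symm χ' ∈ f := by
  refine ⟨fun ⟨χ, hχ, h⟩ => ?_, fun h => ⟨_, h, rfl⟩⟩
  convert hχ
  exact Subtype.ext h

omit [M.IsMaximal] in
theorem isPBlock_tblock {f : Set (IrrCharacter H)} (hf : IsPBlock M f) :
    IsPBlock M (tblock e f) := by
  obtain ⟨χ, rfl⟩ := hf
  refine ⟨tirr e χ, Set.ext fun χ' => ?_⟩
  rw [mem_tblock]
  refine ⟨fun h => ?_, fun h => ?_⟩
  · have h1 := sameBlock_comp_mulEquiv M e.symm h
    show SameBlock M ((χ : H → ℂ) ∘ e.symm) (χ' : H' → ℂ)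
    convert h1 using 1
    funext y
    show (χ' : H' → ℂ) y = (χ' : H' → ℂ) (e (e.symm y))
    rw [MulEquiv.apply_symm_apply]
  · have h1 := sameBlock_comp_mulEquiv M e h
    show SameBlock M (χ : H → ℂ) ((χ' : H' → ℂ) ∘ e)
    convert h1 using 1
    funext y
    show (χ : H → ℂ) y = (χ : H → ℂ) (e.symm (e y))
    rw [MulEquiv.symm_apply_apply]

omit [M.IsMaximal] in
theorem blockCoeff_tblock (f : Set (IrrCharacter H)) (h : H) :
    blockCoeff (tblock e f) (e h) = blockCoeff f h := by
  classical
  rw [blockCoeff_eq, blockCoeff_eq, Nat.card_congr e.symm.toEquiv]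
  congr 1
  refine Fintype.sum_equiv
    { toFun := tirr e.symm
      invFun := tirr e
      left_inv := fun χ' => Subtype.ext (funext fun y => congrArg (χ' : H' → ℂ) (e.apply_symm_apply y))
      right_inv := fun χ => Subtype.ext (funext fun y => congrArg (χ : H → ℂ) (e.symm_apply_apply y)) }
    _ _ fun χ' => ?_
  simp only [Equiv.coe_fn_mk, mem_tblock, tirr, Function.comp_apply, MulEquiv.symm_symm, map_one]

end transport

end CfsgLib.BrauerPairs
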