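import Cfsg.Agent.Lib.BrauerPairs.LocalDefect

/-!
# Brauer pairs of a subgroup read in the ambient group

* `emb_cjA`, `emb_br`, `gidem_of_coeff`: the embedding of group algebras commutes with everything;
* `Up`: a pair of `H` and a pair of `G` with the same centraliser and the same idempotent;
* `exists_up`, `exists_down`, `normal_up`;
* `card_le_defect`, `card_defect_conj_le`;
* `exists_conj_le`: a pair normal over `(Q, f)` inside `T` is carried below `(P, e)` by an element
  of `T`, when `P ⊓ T` is as large as a defect group of the block of `T` over `f`.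
-/

set_option autoImplicit false

noncomputable section

namespace CfsgLib.BrauerPairs

open Cfsg CfsgLib.Blocks

universe u

variable {M : Ideal AlgInt} [M.IsMaximal] {G : Type u} [Group G] [Fintype G] {p : ℕ}

section Emb

variable {H : Subgroup G} [Fintype H]

omit [Fintype G] [Fintype H] in
theorem emb_cjA (x : H) (z : KG M H) : emb H (cjA x z) = cjA (x : G) (emb H z) := by
  refine ext_coeff fun g => ?_
  by_cases hg : g ∈ H
  · rw [coeff_cjA, show (emb H (cjA x z)).coeff g = _ from coeff_emb H _ ⟨g, hg⟩, coeff_cjA,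
      ← coeff_emb H z (x⁻¹ * ⟨g, hg⟩ * x)]
    rfl
  · rw [coeff_emb_of_notMem H _ hg, coeff_cjA, coeff_emb_of_notMem H]
    intro h
    exact hg (by simpa [mul_assoc] using H.mul_mem (H.mul_mem x.2 h) (H.inv_mem x.2))

theorem emb_br {A : Subgroup H} {A' : Subgroup G}
    (hA : ∀ z : H, z ∈ Cen A ↔ (z : G) ∈ Cen A') (z : KG M H) :
    emb H (br A z) = br A' (emb H z) := by
  classical
  refine ext_coeff fun g => ?_
  by_cases hg : g ∈ H
  · rw [coeff_br, show (emb H (br A z)).coeff g = _ from coeff_emb H _ ⟨g, hg⟩, coeff_br,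
      show (emb H z).coeff g = _ from coeff_emb H z ⟨g, hg⟩]
    exact if_congr (hA ⟨g, hg⟩) rfl rfl
  · rw [coeff_br, coeff_emb_of_notMem H _ hg, coeff_emb_of_notMem H _ hg, ite_self]

/-- Equal coefficients along an isomorphism of subgroups give equal idempotents. -/
theorem gidem_of_coeff (K : Subgroup H) (K' : Subgroup G) (hK : K.map H.subtype = K')
    (f : Set (IrrCharacter K)) (f' : Set (IrrCharacter K'))
    (hcoef : ∀ (k : K) (hk : ((k : H) : G) ∈ K'), blockCoeff f' ⟨((k : H) : G), hk⟩ = blockCoeff f k) :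
    gidem M K' f' = emb H (gidem M K f) := by
  classical
  subst hK
  refine ext_coeff fun g => ?_
  by_cases hg : g ∈ H
  · rw [show (emb H (gidem M K f)).coeff g = _ from coeff_emb H _ ⟨g, hg⟩]
    simp only [gidem, coeff_ofFun]
    congr 1
    by_cases hk : (⟨g, hg⟩ : H) ∈ K
    · have hk' : g ∈ K.map H.subtype := ⟨⟨g, hg⟩, hk, rfl⟩
      rw [subgroupBlockCoeff, subgroupBlockCoeff, dif_pos hk, dif_pos hk']
      exact hcoef ⟨⟨g, hg⟩, hk⟩ hk'
    · have hk' : g ∉ K.map H.subtype := fun ⟨y, hy, hye⟩ => hk ((Subtype.ext hye : y = ⟨g, hg⟩) ▸ hy)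
      rw [subgroupBlockCoeff, subgroupBlockCoeff, dif_neg hk, dif_neg hk']
  · rw [coeff_emb_of_notMem H _ hg, gidem, coeff_ofFun, subgroupBlockCoeff,
      dif_neg fun h => hg (Subgroup.map_subtype_le K h)]
    exact resD_zero

/-- A pair of `H` and a pair of `G` with the same centraliser and the same idempotent. -/
structure Up (a : BrauerPairIdx H) (b : BrauerPairIdx G) : Prop where
  cen : (Cen a.1).map H.subtype = Cen b.1
  pid_eq : pid M b = emb H (pid M a)

omit [Fintype G] [Fintype H] in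
theorem cen_iff_map {A : Subgroup H} {A' : Subgroup G} (hC : (Cen A).map H.subtype = Cen A')
    (z : H) : z ∈ Cen A ↔ (z : G) ∈ Cen A' := by
  rw [← hC]
  exact (Subgroup.mem_map_iff_mem H.subtype_injective).symm

omit [Fintype G] [Fintype H] in
theorem map_cen_subtype (A : Subgroup H) (h : Cen (A.map H.subtype) ≤ H) :
    (Cen A).map H.subtype = Cen (A.map H.subtype) := by
  ext g
  constructor
  · rintro ⟨z, hz, rfl⟩
    refine Subgroup.mem_centralizer_iff.mpr ?_
    rintro _ ⟨a, ha, rfl⟩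
    exact congrArg Subtype.val (Subgroup.mem_centralizer_iff.mp hz a ha)
  · intro hg
    exact ⟨⟨g, h hg⟩, Subgroup.mem_centralizer_iff.mpr fun a ha =>
      Subtype.ext (Subgroup.mem_centralizer_iff.mp hg (a : G) ⟨a, ha, rfl⟩), rfl⟩

theorem exists_up (hp : Fact p.Prime) {a : BrauerPairIdx H} {A' : Subgroup G}
    (hC : (Cen a.1).map H.subtype = Cen A') (ha : IsPBlock M a.2) :
    ∃ g : Set (IrrCharacter (Cen A')), IsPBlock M g ∧ Up (M := M) a ⟨A', g⟩ := by
  have := hp
  let e : Cen a.1 ≃* Cen A' :=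
    ((Cen a.1).equivMapOfInjective H.subtype H.subtype_injective).trans (MulEquiv.subgroupCongr hC)
  have := Fintype.ofFinite (Cen a.1)
  have := Fintype.ofFinite (Cen A')
  refine ⟨tblock e a.2, isPBlock_tblock e ha, hC, gidem_of_coeff _ _ hC _ _ fun k hk => ?_⟩
  rw [← blockCoeff_tblock e a.2 k]
  rfl

theorem exists_down (hp : Fact p.Prime) {b : BrauerPairIdx G} {A : Subgroup H}
    (hC : (Cen A).map H.subtype = Cen b.1) (hb : IsPBlock M b.2) :
    ∃ g : Set (IrrCharacter (Cen A)), IsPBlock M g ∧ Up (M := M) ⟨A, g⟩ b := by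
  have := hp
  let e : Cen A ≃* Cen b.1 :=
    ((Cen A).equivMapOfInjective H.subtype H.subtype_injective).trans (MulEquiv.subgroupCongr hC)
  have := Fintype.ofFinite (Cen A)
  have := Fintype.ofFinite (Cen b.1)
  refine ⟨tblock e.symm b.2, isPBlock_tblock e.symm hb, hC, gidem_of_coeff _ _ hC _ _ fun k hk => ?_⟩
  show blockCoeff b.2 ⟨((k : H) : G), hk⟩ = blockCoeff (tblock e.symm b.2) k
  conv_rhs => rw [show k = e.symm ⟨((k : H) : G), hk⟩ from (e.eq_symm_apply).mpr (Subtype.ext rfl)]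
  rw [blockCoeff_tblock]

theorem normal_up (hM : IsPModular p M) {a a' : BrauerPairIdx H} {b b' : BrauerPairIdx G}
    (h : NormalSubpairRel p M a a') (hu : Up (M := M) a b) (hu' : Up (M := M) a' b')
    (hb : IsBrauerPair p M b.1 b.2) (hb' : IsBrauerPair p M b'.1 b'.2) (hle : b.1 ≤ b'.1)
    (hN : b'.1 ≤ Subgroup.normalizer (b.1 : Set G)) (hfix : IsFixed b'.1 (pid M b)) :
    NormalSubpairRel p M b b' := by
  obtain ⟨-, -, -, -, -, hocc⟩ := (normalSubpair_iff hM).mp h
  refine (normalSubpair_iff hM).mpr ⟨hb, hb', hle, hN, hfix, ?_⟩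
  show br b'.1 (pid M b) * pid M b' = pid M b'
  rw [hu.pid_eq, hu'.pid_eq, ← emb_br (fun z => cen_iff_map hu'.cen z), ← map_mul]
  exact congrArg (emb H) hocc

theorem up_cjPair {a : BrauerPairIdx H} {b : BrauerPairIdx G} (hu : Up (M := M) a b) (x : H)
    (hA : a.1.map H.subtype = b.1) (h : Cen (b.1.map (MulAut.conj (x : G)).toMonoidHom) ≤ H) :
    Up (M := M) (cjPair x a) (cjPair (x : G) b) ∧
      (cjPair x a).1.map H.subtype = (cjPair (x : G) b).1 := by
  have h1 : (cjPair x a).1.map H.subtype = (cjPair (x : G) b).1 := by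
    rw [cjPair_fst, cjPair_fst, ← hA, Subgroup.map_map, Subgroup.map_map]
    congr 1
  refine ⟨⟨?_, ?_⟩, h1⟩
  · rw [map_cen_subtype _ (by rw [h1]; exact h), h1]
  · rw [pid_cjPair, pid_cjPair, emb_cjA, hu.pid_eq]

end Emb

/-- A subgroup at which the idempotent survives is no bigger than a defect group. -/
theorem card_le_defect [Fact p.Prime] (hM : IsPModular p M) {H : Subgroup G}
    {f : Set (IrrCharacter H)} (hf : IsPBlock M f) {R : Subgroup G} (hR : IsPGroup p R) (hRH : R ≤ H)
    (hne : br R (gidem M H f) ≠ 0) {D : Subgroup H} (hD : IsDefectGroup p M f D) :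
    Nat.card R ≤ Nat.card D := by
  have := Fintype.ofFinite H
  obtain ⟨E, hE, hRE⟩ := exists_defect_ge hM hf hR hRH hne
  rw [← card_subgroupOf' hRH, card_defectGroup hM hf hD, ← card_defectGroup hM hf hE]
  exact Subgroup.card_le_of_le hRE

/-- Defect groups of conjugate blocks. -/
theorem card_defect_conj_le [Fact p.Prime] (hM : IsPModular p M) {H H' : Subgroup G} (x : G)
    {f : Set (IrrCharacter H)} {f' : Set (IrrCharacter H')} (hf : IsPBlock M f) (hf' : IsPBlock M f')
    (heq : gidem M H' f' = cjA x (gidem M H f)) (hH : ∀ y ∈ H, x * y * x⁻¹ ∈ H') {D : Subgroup H}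
    (hD : IsDefectGroup p M f D) {D' : Subgroup H'} (hD' : IsDefectGroup p M f' D') :
    Nat.card D ≤ Nat.card D' := by
  set R := (D.map H.subtype).map (MulAut.conj x).toMonoidHom with hR
  have hc : Nat.card R = Nat.card D := by
    rw [hR, Subgroup.card_map_of_injective (MulEquiv.injective _),
      Subgroup.card_map_of_injective (Subgroup.subtype_injective _)]
  rw [← hc]
  refine card_le_defect hM hf' (((IsDefectGroup.isPGroup hD).map _).map _) ?_ ?_ hD'
  · rintro _ ⟨_, ⟨d, -, rfl⟩, rfl⟩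
    exact hH d d.2
  · rw [heq, ← cjA_br]
    intro h0
    exact br_ne_zero_of_defect hf hD (by simpa using congrArg (cjA x).symm h0)

/-- A maximal pair is fixed by its own subgroup. -/
theorem cjPair_self {a : BrauerPairIdx G} (h : IsBrauerPair p M a.1 a.2) {u : G} (hu : u ∈ a.1) :
    cjPair u a = a :=
  pair_ext (M := M) (isBrauerPair_cjPair u h).2 h.2
    (map_conj_eq_self (Subgroup.le_normalizer hu)) (by rw [pid_cjPair]; exact isFixed_self a.2 u hu)

/-- Conjugacy inside `T` over `(Q, f)`. -/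
theorem exists_conj_le [hp : Fact p.Prime] (hM : IsPModular p M) {Q P T : Subgroup G}
    {f : Set (IrrCharacter (Cen Q))} {e : Set (IrrCharacter (Cen P))} (hP : IsBrauerPair p M P e)
    (hle : SubpairLE p M Q f P e) (hCT : Cen Q ≤ T) (hQT : Q ≤ T)
    (hTN : T ≤ Subgroup.normalizer (Q : Set G)) (hTf : IsFixed T (gidem M (Cen Q) f))
    (hmax : ∀ R : Subgroup G, IsPGroup p R → R ≤ T → br R (gidem M (Cen Q) f) ≠ 0 →
      Nat.card R ≤ Nat.card (P ⊓ T : Subgroup G))
    {R : Subgroup G} {g : Set (IrrCharacter (Cen R))} (h : IsNormalSubpair p M Q f R g) (hR : R ≤ T) :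
    ∃ t ∈ T, Relation.ReflTransGen (NormalSubpairRel p M) (cjPair t ⟨R, g⟩) ⟨P, e⟩ := by
  classical
  have := Fintype.ofFinite T
  have hf := isBrauerPair_left (a := ⟨Q, f⟩) hle hP
  obtain ⟨F, hF, hgF, -⟩ := exists_stable_block hM hf.1 hf.2 hQT hCT hTN hTf
  set D := P ⊓ T with hD
  have hQD : Q ≤ D := le_inf (subgroup_le hle) hQT
  obtain ⟨eD, heD, -⟩ := existsUnique_subpair hM (inf_le_left : D ≤ P) hP
  have hDp : IsBrauerPair p M D eD := isBrauerPair_left (a := ⟨D, eD⟩) heD hP
  have hQD' : IsNormalSubpair p M Q f D eD :=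
    normal_of_subpair hM hDp (subpair_of_le hM hP hQD hle heD) (inf_le_right.trans hTN)
  -- pairs of `F`
  have hpair : ∀ (A : Subgroup G) (gA : Set (IrrCharacter (Cen A))), A ≤ T →
      IsNormalSubpair p M Q f A gA →
      ∃ g' : Set (IrrCharacter (Cen (A.subgroupOf T))),
        Up (M := M) ⟨A.subgroupOf T, g'⟩ ⟨A, gA⟩ ∧
          IsBrauerPairOf p M F (A.subgroupOf T) g' := by
    intro A gA hAT hn
    obtain ⟨-, hA, hQA, -, -, hocc⟩ := (normalSubpair_iff hM).mp hn
    have hmap : (A.subgroupOf T).map T.subtype = A := Subgroup.map_subgroupOf_eq_of_le hAT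
    have hC : (Cen (A.subgroupOf T)).map T.subtype = Cen A := by
      rw [map_cen_subtype _ (by rw [hmap]; exact (centralizer_anti hQA).trans hCT), hmap]
    obtain ⟨g', hg', hu⟩ := exists_down (M := M) hp (b := ⟨A, gA⟩) hC hA.2
    refine ⟨g', hu, (brauerPairOf_iff hM).mpr
      ⟨⟨hA.1.of_equiv (Subgroup.subgroupOfEquivOfLe hAT).symm, hg'⟩, hF, emb_injective T ?_⟩⟩
    rw [map_mul, emb_br (A' := A) (fun z => cen_iff_map hC z), ← hu.pid_eq, gidemTop_eq hF,
      ← gidem_eq_emb hF, hgF]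
    exact hocc
  obtain ⟨g', hgu, hgB⟩ := hpair R g hR h
  obtain ⟨d', hdu, hdB⟩ := hpair D eD inf_le_right hQD'
  have hmaxD : IsMaximalBrauerPair p M F (D.subgroupOf T) d' := by
    obtain ⟨E, hE⟩ := exists_isDefectGroup (p := p) hF
    refine isMaximal_of_card hM hdB ?_
    rw [← card_defectGroup hM hF hE, card_subgroupOf' inf_le_right,
      ← Subgroup.card_map_of_injective T.subtype_injective (K := E)]
    exact hmax _ ((IsDefectGroup.isPGroup hE).map _) (Subgroup.map_subtype_le E)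
      (by rw [← hgF]; exact br_ne_zero_of_defect hF hE)
  obtain ⟨x, hx⟩ := exists_conj_le_maximal hM (a := ⟨R.subgroupOf T, g'⟩)
    (b := ⟨D.subgroupOf T, d'⟩) hmaxD hgB
  -- lifting of chains
  have hlift : ∀ c : BrauerPairIdx T,
      Relation.ReflTransGen (NormalSubpairRel p M) c ⟨D.subgroupOf T, d'⟩ →
      Q.subgroupOf T ≤ c.1 → ∀ b : BrauerPairIdx G, Up (M := M) c b → c.1.map T.subtype = b.1 →
      IsBrauerPair p M b.1 b.2 → Relation.ReflTransGen (NormalSubpairRel p M) b ⟨D, eD⟩ := by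
    intro c hc
    induction hc using Relation.ReflTransGen.head_induction_on with
    | refl =>
      intro _ b hu hb hbp
      rw [show b = ⟨D, eD⟩ from pair_ext (M := M) hbp.2 hDp.2
        (by rw [← hb]; exact Subgroup.map_subgroupOf_eq_of_le inf_le_right)
        (by rw [hu.pid_eq, hdu.pid_eq])]
    | @head c c' hcc' _ ih =>
      intro hQc b hu hb hbp
      obtain ⟨-, hc'p, hle', hN', hfix', -⟩ := (normalSubpair_iff hM).mp hcc'
      have hQc' : Q.subgroupOf T ≤ c'.1 := hQc.trans hle'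
      have hC : (Cen c'.1).map T.subtype = Cen (c'.1.map T.subtype) := by
        refine map_cen_subtype _ ((centralizer_anti ?_).trans hCT)
        rw [← Subgroup.map_subgroupOf_eq_of_le hQT]
        exact Subgroup.map_mono hQc'
      obtain ⟨b', hb', hu'⟩ := exists_up (M := M) hp hC hc'p.2
      have hb'p : IsBrauerPair p M (c'.1.map T.subtype) b' := ⟨hc'p.1.map _, hb'⟩
      refine Relation.ReflTransGen.head ?_ (ih hQc' ⟨_, b'⟩ hu' rfl hb'p)
      refine normal_up hM hcc' hu hu' hbp hb'p (by rw [← hb]; exact Subgroup.map_mono hle') ?_ ?_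
      · rw [← hb]
        exact (Subgroup.map_mono hN').trans (Subgroup.le_normalizer_map _)
      · rintro _ ⟨v, hv, rfl⟩
        rw [hu.pid_eq, Subgroup.coe_subtype, ← emb_cjA, hfix' v hv]
  have hQR : Q ≤ R := h.2.2.1
  have hQx : Q ≤ R.map (MulAut.conj (x : G)).toMonoidHom :=
    (map_conj_eq_self (hTN x.2)).ge.trans (Subgroup.map_mono hQR)
  obtain ⟨hux, hmx⟩ := up_cjPair hgu x (Subgroup.map_subgroupOf_eq_of_le hR)
    ((centralizer_anti hQx).trans hCT)
  refine ⟨x, x.2, (hlift _ hx ?_ _ hux hmx (isBrauerPair_cjPair _ h.2.1)).trans heD⟩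
  intro q hq
  have h2 : (q : G) ∈ (cjPair (x : G) (⟨R, g⟩ : BrauerPairIdx G)).1 := hQx hq
  rw [← hmx] at h2
  exact (Subgroup.mem_map_iff_mem T.subtype_injective).mp h2

end CfsgLib.BrauerPairs
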