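import Cfsg.Agent.Lib.BrauerPairs.InducedIn

/-!
# The inertial quotient of a block with cyclic defect group

* `eq_one_of_coprime_fix`: on a cyclic `p`-group an automorphism of order prime to `p` fixing a
  non-identity element is trivial;
* `cyclic_free`, `cyclic_quotient`: the quotient acts freely, is cyclic and has order dividing `p - 1`.
-/

set_option autoImplicit false

noncomputable section

namespace CfsgLib.BrauerPairs

open Cfsg CfsgLib.Blocks

universe u

variable {G : Type u} [Group G] [Fintype G] {p : ℕ} [hp : Fact p.Prime] {M : Ideal AlgInt} [M.IsMaximal]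

omit [Fintype G] in
/-- A power of order prime to `p` trivial on `P`, and one fixed point: trivial on `P`. -/
theorem eq_one_of_coprime_fix {P : Subgroup G} (hP : IsPGroup p P) (hcyc : IsCyclic P) {g : G} {m : ℕ}
    (hm : ¬ p ∣ m) (hgP : ∀ u ∈ P, g * u * g⁻¹ ∈ P) (hgm : g ^ m ∈ Cen P) {x : G} (hx : x ∈ P)
    (hx1 : x ≠ 1) (hfix : g * x * g⁻¹ = x) : g ∈ Cen P := by
  obtain ⟨⟨u, hu⟩, hgen⟩ := hcyc.exists_generator
  have hmem : ∀ y ∈ P, ∃ i : ℤ, u ^ i = y := fun y hy => by
    obtain ⟨i, hi⟩ := Subgroup.mem_zpowers_iff.mp (hgen ⟨y, hy⟩)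
    exact ⟨i, congrArg Subtype.val hi⟩
  obtain ⟨k, hk⟩ := hmem _ (hgP u hu)
  obtain ⟨a, ha⟩ := IsPGroup.iff_orderOf.mp hP ⟨u, hu⟩
  rw [Subgroup.orderOf_mk] at ha
  have hpow : ∀ (n : ℕ) (i : ℤ), g ^ n * u ^ i * (g ^ n)⁻¹ = u ^ (k ^ n * i) := by
    intro n
    induction n with
    | zero => intro i; simp
    | succ n ih =>
      intro i
      calc g ^ (n + 1) * u ^ i * (g ^ (n + 1))⁻¹ = g ^ n * (g * u ^ i * g⁻¹) * (g ^ n)⁻¹ := by
            rw [pow_succ]; group
        _ = g ^ n * u ^ (k * i) * (g ^ n)⁻¹ := by rw [← conj_zpow, ← hk, ← zpow_mul]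
        _ = u ^ (k ^ (n + 1) * i) := by rw [ih, pow_succ, mul_assoc]
  -- `k ≡ 1 (mod p)`
  obtain ⟨i, hi⟩ := hmem x hx
  have h1 : ((p ^ a : ℕ) : ℤ) ∣ (k - 1) * i := by
    rw [← ha, orderOf_dvd_iff_zpow_eq_one, sub_mul, one_mul, zpow_sub, zpow_mul, hk, conj_zpow, hi,
      hfix, mul_inv_cancel]
  have hkp : ((p : ℤ)) ∣ k - 1 := by
    by_contra hc
    have hcop : IsCoprime ((p ^ a : ℕ) : ℤ) (k - 1) := by
      push_cast
      exact ((Nat.prime_iff_prime_int.mp hp.out).coprime_iff_not_dvd.mpr hc).pow_left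
    apply hx1
    rw [← hi, ← orderOf_dvd_iff_zpow_eq_one, ha]
    exact hcop.dvd_of_dvd_mul_left h1
  -- `k ^ m ≡ 1 (mod p ^ a)`
  have h2 : ((p ^ a : ℕ) : ℤ) ∣ k ^ m - 1 := by
    rw [← ha, orderOf_dvd_iff_zpow_eq_one, zpow_sub, zpow_one]
    have h3 := hpow m 1
    rw [mul_one, zpow_one] at h3
    rw [← h3, ← Subgroup.mem_centralizer_iff.mp hgm u hu, mul_inv_cancel_right, mul_inv_cancel]
  have h4 : ((p ^ a : ℕ) : ℤ) ∣ k - 1 := by
    refine IsCoprime.dvd_of_dvd_mul_left (y := ∑ j ∈ Finset.range m, k ^ j) ?_ (by rwa [geom_sum_mul])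
    push_cast
    refine ((Nat.prime_iff_prime_int.mp hp.out).coprime_iff_not_dvd.mpr fun hd => hm ?_).pow_left
    have hd' : (p : ℤ) ∣ ∑ j ∈ Finset.range m, (k ^ j - 1) :=
      Finset.dvd_sum fun j _ => hkp.trans (by simpa using sub_dvd_pow_sub_pow k 1 j)
    rw [Finset.sum_sub_distrib] at hd'
    have h5 : (p : ℤ) ∣ ((m : ℕ) : ℤ) := by
      have h6 := dvd_sub hd hd'
      simpa using h6
    exact_mod_cast h5
  rw [← ha, orderOf_dvd_iff_zpow_eq_one, zpow_sub, zpow_one, hk, mul_inv_eq_one] at h4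
  refine Subgroup.mem_centralizer_iff.mpr fun y hy => ?_
  obtain ⟨j, rfl⟩ := hmem y hy
  exact ((show Commute g u from mul_inv_eq_iff_eq_mul.mp h4).zpow_right j).symm

/-- The inertial quotient of a cyclic defect group acts freely. -/
theorem cyclic_free (hM : IsPModular p M) {B : Set (IrrCharacter G)} {P : Subgroup G}
    {c : Set (IrrCharacter (Cen P))} (hmax : IsMaximalBrauerPair p M B P c) (hcyc : IsCyclic P) :
    ∀ g ∈ stab M P c, ∀ x ∈ P, x ≠ 1 → g * x * g⁻¹ = x → g ∈ Cen P := by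
  intro g hg x hx hx1 hfix
  have hab : ∀ x ∈ P, ∀ y ∈ P, x * y = y * x := fun a ha b hb => by
    have := hcyc.commutative
    exact congrArg Subtype.val (mul_comm' (⟨a, ha⟩ : P) ⟨b, hb⟩)
  have hn : ((Cen P).subgroupOf (stab M P c)).Normal :=
    (Subgroup.normal_subgroupOf_iff_le_normalizer (cen_le_stab c)).mpr fun t ht =>
      mem_normalizer_centralizer ht.1
  refine eq_one_of_coprime_fix hmax.1.1.1 hcyc (not_dvd_relIndex_stab hM hmax hab)
    (fun u hu => (Subgroup.mem_set_normalizer_iff.mp hg.1 u).mp hu)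
    ?_ hx hx1 hfix
  exact Subgroup.pow_index_mem ((Cen P).subgroupOf (stab M P c)) ⟨g, hg⟩

/-- The inertial quotient of a cyclic defect group is cyclic of order dividing `p - 1`. -/
theorem cyclic_quotient (hM : IsPModular p M) {B : Set (IrrCharacter G)} {P : Subgroup G}
    {c : Set (IrrCharacter (Cen P))} (hmax : IsMaximalBrauerPair p M B P c) (hcyc : IsCyclic P)
    (hP1 : P ≠ ⊥) [hn : ((Cen P).subgroupOf (stab M P c)).Normal] :
    IsCyclic (stab M P c ⧸ (Cen P).subgroupOf (stab M P c)) ∧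
      (Cen P).relIndex (stab M P c) ∣ p - 1 := by
  classical
  have hfree := cyclic_free hM hmax hcyc
  obtain ⟨n, hn0, hcard⟩ := IsPGroup.nontrivial_iff_card (p := p) hmax.1.1.1 |>.mp
    (Subgroup.nontrivial_iff_ne_bot _ |>.mpr hP1)
  obtain ⟨z, hz⟩ := exists_prime_orderOf_dvd_card' (G := P) p (hcard ▸ dvd_pow_self p hn0.ne')
  set Z := Subgroup.zpowers (z : G) with hZ
  have hZc : Nat.card Z = p := by rw [Nat.card_zpowers, Subgroup.orderOf_coe, hz]
  have hTN : stab M P c ≤ Subgroup.normalizer (Z : Set G) := fun g hg => by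
    obtain ⟨⟨u, hu⟩, hgen⟩ := hcyc.exists_generator
    obtain ⟨k, hk⟩ := Subgroup.mem_zpowers_iff.mp
      (hgen ⟨g * u * g⁻¹, (Subgroup.mem_set_normalizer_iff.mp hg.1 u).mp hu⟩)
    obtain ⟨i, hi⟩ := Subgroup.mem_zpowers_iff.mp (hgen z)
    have hk' : u ^ k = g * u * g⁻¹ := congrArg Subtype.val hk
    have hi' : u ^ i = (z : G) := congrArg Subtype.val hi
    refine Subgroup.mem_normalizer_iff_map_conj_eq.mpr (Subgroup.eq_of_le_of_card_ge ?_
      (Subgroup.card_map_of_injective (MulEquiv.injective _)).ge)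
    rw [MonoidHom.map_zpowers, Subgroup.zpowers_le]
    refine Subgroup.mem_zpowers_iff.mpr ⟨k, ?_⟩
    show (z : G) ^ k = g * (z : G) * g⁻¹
    rw [← hi', ← zpow_mul, mul_comm, zpow_mul, hk', conj_zpow]
  let φ : stab M P c →* MulAut Z := Z.normalizerMonoidHom.comp (Subgroup.inclusion hTN)
  have hker : φ.ker = (Cen P).subgroupOf (stab M P c) := by
    ext g
    rw [MonoidHom.mem_ker, MonoidHom.comp_apply, ← MonoidHom.mem_ker, Subgroup.normalizerMonoidHom_ker,
      Subgroup.mem_subgroupOf, Subgroup.mem_subgroupOf]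
    constructor
    · intro h
      refine hfree g g.2 z z.2 (fun h1 => ?_) ?_
      · rw [← Subgroup.orderOf_coe, h1, orderOf_one] at hz
        exact hp.out.ne_one hz.symm
      · have h2 := Subgroup.mem_centralizer_iff.mp h (z : G) (Subgroup.mem_zpowers (z : G))
        show (g : G) * (z : G) * (g : G)⁻¹ = z
        rw [← show (z : G) * (g : G) = (g : G) * (z : G) from h2, mul_inv_cancel_right]
    · intro h
      exact Subgroup.mem_centralizer_iff.mpr fun y hy =>
        Subgroup.mem_centralizer_iff.mp h y (Subgroup.zpowers_le.mpr z.2 hy)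
  have : IsCyclic (ZMod (Nat.card Z))ˣ := by rw [hZc]; infer_instance
  have : IsCyclic (MulAut Z) := isCyclic_of_surjective (IsCyclic.mulAutMulEquiv Z).symm.toMonoidHom
    (IsCyclic.mulAutMulEquiv Z).symm.surjective
  refine ⟨?_, ?_⟩
  · exact isCyclic_of_injective
      ((QuotientGroup.kerLift φ).comp (QuotientGroup.quotientMulEquivOfEq hker.symm).toMonoidHom)
      ((QuotientGroup.kerLift_injective φ).comp (MulEquiv.injective _))
  · have h := Subgroup.card_subgroup_dvd_card φ.range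
    rwa [← Subgroup.index_ker, hker, IsCyclic.card_mulAut, hZc, Nat.totient_prime hp.out] at h

end CfsgLib.BrauerPairs
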