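import Cfsg.Agent.Lib.BrauerPairs.Idem
import Cfsg.Prelude.Def_BrauerPairs

/-!
# The Brauer map on the group algebra modulo `M`, and Brauer pairs as idempotent equations

* `gidem M H f`: the idempotent of a set of characters of a subgroup, in the ambient algebra;
* `cjA`, `br`, `IsFixed`, `CentralIn`;
* `br_mul`, `sum_br_fixed`, `occurs_cases`, `exists_occurs'`;
* `normalSubpair_iff`, `brauerPairOf_iff`, `stabilizesBlock_iff`.
-/

set_option autoImplicit false

noncomputable section

namespace CfsgLib.BrauerPairs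

open Cfsg CfsgLib.Blocks
open scoped ComplexConjugate

variable (M : Ideal AlgInt) [M.IsMaximal] {G : Type*} [Group G]

/-- The group algebra modulo `M`. -/
abbrev KG (G : Type*) : Type _ := MonoidAlgebra (Res M) G

open Classical in
/-- Total reduction: zero outside the local ring. -/
def resD (z : ℂ) : Res M := if h : z ∈ locRing M then res M ⟨z, h⟩ else 0

variable {M}

theorem resD_eq {z : ℂ} (h : z ∈ locRing M) : resD M z = res M ⟨z, h⟩ := dif_pos h

theorem resD_zero : resD M (0 : ℂ) = 0 := by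
  rw [resD_eq (Subring.zero_mem _)]; exact map_zero _

variable (M) in
/-- The idempotent of a set of characters of `H`, read in the group algebra of `G`. -/
def gidem [Fintype G] (H : Subgroup G) (f : Set (IrrCharacter H)) : KG M G :=
  ofFun fun g => resD M (subgroupBlockCoeff H f g)

variable (M) in
/-- The idempotent of a set of characters of `G`. -/
def gidemTop [Fintype G] (B : Set (IrrCharacter G)) : KG M G :=
  ofFun fun g => resD M (blockCoeff B g)

/-- Conjugation on the group algebra. -/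
def cjA (g : G) : KG M G ≃+* KG M G := MonoidAlgebra.mapDomainRingEquiv (Res M) (MulAut.conj g)

theorem coeff_cjA (g : G) (x : KG M G) (y : G) :
    (cjA g x).coeff y = x.coeff (g⁻¹ * y * g) := by
  rw [cjA, MonoidAlgebra.coeff_mapDomainRingEquiv, Finsupp.equivMapDomain_apply]
  simp [MulAut.conj_symm_apply]

theorem ext_coeff {x y : KG M G} (h : ∀ g : G, x.coeff g = y.coeff g) : x = y :=
  MonoidAlgebra.coeff_injective (Finsupp.ext h)

theorem cjA_cjA (g h : G) (x : KG M G) : cjA g (cjA h x) = cjA (g * h) x :=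
  ext_coeff fun y => by simp [coeff_cjA, mul_assoc]

theorem cjA_one (x : KG M G) : cjA 1 x = x := ext_coeff fun y => by simp [coeff_cjA]

theorem cjA_inv_cjA (g : G) (x : KG M G) : cjA g⁻¹ (cjA g x) = x := by
  rw [cjA_cjA, inv_mul_cancel, cjA_one]

theorem cjA_cjA_inv (g : G) (x : KG M G) : cjA g (cjA g⁻¹ x) = x := by
  rw [cjA_cjA, mul_inv_cancel, cjA_one]

/-- Invariance under conjugation by the elements of `P`. -/
def IsFixed (P : Subgroup G) (x : KG M G) : Prop := ∀ u ∈ P, cjA u x = x

theorem isFixed_iff {P : Subgroup G} {x : KG M G} :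
    IsFixed P x ↔ ∀ u ∈ P, ∀ y : G, x.coeff (u * y * u⁻¹) = x.coeff y := by
  refine ⟨fun h u hu y => ?_, fun h u hu => ext_coeff fun y => ?_⟩
  · conv_lhs => rw [← h u hu, coeff_cjA]
    simp [mul_assoc]
  · rw [coeff_cjA]
    simpa [mul_assoc] using h u⁻¹ (inv_mem hu) y

theorem IsFixed.mono {P R : Subgroup G} {x : KG M G} (h : IsFixed P x) (hR : R ≤ P) : IsFixed R x :=
  fun u hu => h u (hR hu)

theorem IsFixed.mul {P : Subgroup G} {x y : KG M G} (hx : IsFixed P x) (hy : IsFixed P y) :
    IsFixed P (x * y) := fun u hu => by rw [map_mul, hx u hu, hy u hu]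

/-- Central in the group algebra of `H`. -/
def CentralIn (H : Subgroup G) (x : KG M G) : Prop :=
  (∀ g, g ∉ H → x.coeff g = 0) ∧ IsFixed H x

theorem CentralIn.mul [Fintype G] {H : Subgroup G} {x y : KG M G} (hx : CentralIn H x)
    (hy : CentralIn H y) : CentralIn H (x * y) := by
  refine ⟨fun g hg => ?_, hx.2.mul hy.2⟩
  rw [coeff_mul_eq_sum]
  refine Finset.sum_eq_zero fun h _ => ?_
  by_cases hh : h ∈ H
  · rw [hy.1 _ (fun h2 => hg (by simpa using H.mul_mem hh h2)), mul_zero]
  · rw [hx.1 h hh, zero_mul]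

theorem CentralIn.commute_of_supp [Fintype G] {H : Subgroup G} {x y : KG M G} (hx : CentralIn H x)
    (hy : ∀ g, g ∉ H → y.coeff g = 0) : x * y = y * x := by
  refine ext_coeff fun g => ?_
  rw [coeff_mul_eq_sum, coeff_mul_eq_sum]
  refine Fintype.sum_equiv ((Equiv.inv G).trans (Equiv.mulRight g)) _ _ fun h => ?_
  show x.coeff h * y.coeff (h⁻¹ * g) = y.coeff (h⁻¹ * g) * x.coeff ((h⁻¹ * g)⁻¹ * g)
  by_cases hh : h⁻¹ * g ∈ H
  · rw [mul_comm]
    congr 1
    have := (isFixed_iff.mp hx.2) _ (inv_mem hh) h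
    rw [← this]
    simp [mul_assoc]
  · rw [hy _ hh, mul_zero, zero_mul]

variable [Fintype G]

open Classical in
/-- The Brauer map. -/
def br (P : Subgroup G) (x : KG M G) : KG M G :=
  ofFun fun g => if g ∈ Subgroup.centralizer (P : Set G) then x.coeff g else 0

open Classical in
theorem coeff_br (P : Subgroup G) (x : KG M G) (g : G) :
    (br P x).coeff g = if g ∈ Subgroup.centralizer (P : Set G) then x.coeff g else 0 :=
  coeff_ofFun _ g

theorem centralizer_anti {P R : Subgroup G} (h : R ≤ P) :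
    Subgroup.centralizer (P : Set G) ≤ Subgroup.centralizer (R : Set G) :=
  Subgroup.centralizer_le (SetLike.coe_subset_coe.mpr h)

theorem br_br {P R : Subgroup G} (h : R ≤ P) (x : KG M G) : br P (br R x) = br P x := by
  refine ext_coeff fun g => ?_
  simp only [coeff_br]
  by_cases hg : g ∈ Subgroup.centralizer (P : Set G)
  · rw [if_pos hg, if_pos hg, if_pos (centralizer_anti h hg)]
  · rw [if_neg hg, if_neg hg]

theorem br_eq_self {P : Subgroup G} {x : KG M G}
    (h : ∀ g, g ∉ Subgroup.centralizer (P : Set G) → x.coeff g = 0) : br P x = x := by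
  refine ext_coeff fun g => ?_
  rw [coeff_br]
  split_ifs with hg
  · rfl
  · exact (h g hg).symm

theorem br_zero (P : Subgroup G) : br (M := M) P 0 = 0 := ext_coeff fun g => by simp [coeff_br]

theorem br_one (P : Subgroup G) : br (M := M) P 1 = 1 := by
  classical
  refine br_eq_self fun g hg => ?_
  rw [MonoidAlgebra.one_def, MonoidAlgebra.coeff_single, Finsupp.single_apply, if_neg]
  rintro rfl
  exact hg (Subgroup.one_mem _)

theorem br_sum {ι : Type*} (P : Subgroup G) (s : Finset ι) (x : ι → KG M G) :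
    br P (∑ i ∈ s, x i) = ∑ i ∈ s, br P (x i) := by
  refine ext_coeff fun g => ?_
  simp only [coeff_br, MonoidAlgebra.coeff_sum, Finsupp.finsetSum_apply]
  split_ifs <;> simp

omit [Fintype G] in
theorem map_conj_eq_self {P : Subgroup G} {n : G} (hn : n ∈ Subgroup.normalizer (P : Set G)) :
    P.map (MulAut.conj n).toMonoidHom = P := by
  ext y
  rw [Subgroup.mem_map]
  refine ⟨?_, fun hy => ⟨n⁻¹ * y * n, ?_, by simp [mul_assoc]⟩⟩
  · rintro ⟨z, hz, rfl⟩
    exact (Subgroup.mem_set_normalizer_iff.mp hn z).mp hz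
  · have := (Subgroup.mem_set_normalizer_iff.mp (Subgroup.inv_mem _ hn) y).mp hy
    rwa [inv_inv] at this

omit [Fintype G] in
theorem mem_centralizer_map_conj {P : Subgroup G} {g y : G} :
    y ∈ Subgroup.centralizer ((P.map (MulAut.conj g).toMonoidHom : Subgroup G) : Set G) ↔
      g⁻¹ * y * g ∈ Subgroup.centralizer (P : Set G) := by
  simp only [Subgroup.mem_centralizer_iff, SetLike.mem_coe, Subgroup.mem_map]
  refine ⟨fun h z hz => ?_, ?_⟩
  · have := h (g * z * g⁻¹) ⟨z, hz, rfl⟩
    calc z * (g⁻¹ * y * g) = g⁻¹ * ((g * z * g⁻¹) * y) * g := by group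
      _ = g⁻¹ * (y * (g * z * g⁻¹)) * g := by rw [this]
      _ = g⁻¹ * y * g * z := by group
  · rintro h _ ⟨z, hz, rfl⟩
    calc g * z * g⁻¹ * y = g * (z * (g⁻¹ * y * g)) * g⁻¹ := by group
      _ = g * ((g⁻¹ * y * g) * z) * g⁻¹ := by rw [h z hz]
      _ = y * (g * z * g⁻¹) := by group

theorem cjA_br (g : G) (P : Subgroup G) (x : KG M G) :
    cjA g (br P x) = br (P.map (MulAut.conj g).toMonoidHom) (cjA g x) := by
  classical
  refine ext_coeff fun y => ?_
  rw [coeff_cjA, coeff_br, coeff_br, coeff_cjA]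
  exact if_congr mem_centralizer_map_conj.symm rfl rfl

theorem IsFixed.br {S P : Subgroup G} {x : KG M G} (h : IsFixed S x)
    (hS : S ≤ Subgroup.normalizer (P : Set G)) : IsFixed S (br P x) := fun u hu => by
  rw [cjA_br, map_conj_eq_self (hS hu), h u hu]

theorem centralIn_br {P : Subgroup G} {x : KG M G}
    (h : IsFixed (Subgroup.centralizer (P : Set G)) x) :
    CentralIn (Subgroup.centralizer (P : Set G)) (br P x) :=
  ⟨fun g hg => by rw [coeff_br, if_neg hg], h.br (Subgroup.centralizer_le_normalizer _)⟩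

variable {p : ℕ}

/-- The Brauer map is multiplicative on fixed elements. -/
theorem br_mul (hM : IsPModular p M) {P : Subgroup G} (hP : IsPGroup p P) {x y : KG M G}
    (hx : IsFixed P x) (hy : IsFixed P y) : br P (x * y) = br P x * br P y := by
  classical
  have : Fact p.Prime := ⟨hM.1⟩
  have : CharP (Res M) p := res_charP M hM
  refine ext_coeff fun c => ?_
  rw [coeff_br, coeff_mul_eq_sum, coeff_mul_eq_sum]
  simp only [coeff_br]
  split_ifs with hc
  · let _ : MulAction P G := MulAction.compHom G (MulAut.conj.comp P.subtype)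
    have hsm : ∀ (u : P) (g : G), u • g = (u : G) * g * (u : G)⁻¹ := fun _ _ => rfl
    rw [sum_eq_sum_fixedPoints (p := p) hP _ fun u g => ?_, Finset.sum_filter]
    · refine Finset.sum_congr rfl fun g _ => ?_
      by_cases hg : g ∈ Subgroup.centralizer (P : Set G)
      · rw [if_pos (show g ∈ MulAction.fixedPoints P G from MulAction.mem_fixedPoints.mpr fun u => by
          rw [hsm]; exact mul_inv_eq_iff_eq_mul.mpr (Subgroup.mem_centralizer_iff.mp hg u u.2)),
          if_pos hg, if_pos (Subgroup.mul_mem _ (Subgroup.inv_mem _ hg) hc)]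
      · rw [if_neg (show g ∉ MulAction.fixedPoints P G from fun h =>
          hg (Subgroup.mem_centralizer_iff.mpr fun u hu =>
            mul_inv_eq_iff_eq_mul.mp (MulAction.mem_fixedPoints.mp h ⟨u, hu⟩))), if_neg hg, zero_mul]
    · rw [hsm, (isFixed_iff.mp hx) u u.2 g]
      congr 1
      rw [← (isFixed_iff.mp hy) u u.2 (g⁻¹ * c)]
      congr 1
      have h1 : c * (u : G)⁻¹ = (u : G)⁻¹ * c :=
        (Subgroup.mem_centralizer_iff.mp hc _ (inv_mem u.2)).symm
      calc ((u : G) * g * (u : G)⁻¹)⁻¹ * c = (u : G) * g⁻¹ * ((u : G)⁻¹ * c) := by group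
        _ = (u : G) * (g⁻¹ * c) * (u : G)⁻¹ := by rw [← h1]; group
  · refine (Finset.sum_eq_zero fun g _ => ?_).symm
    by_cases hg : g ∈ Subgroup.centralizer (P : Set G)
    · rw [if_pos hg, if_neg fun h2 => hc (by simpa using Subgroup.mul_mem _ hg h2), mul_zero]
    · rw [if_neg hg, zero_mul]

/-- Only the fixed members of a permuted family survive the Brauer map. -/
theorem sum_br_fixed (hM : IsPModular p M) {P : Subgroup G} (hP : IsPGroup p P) {ι : Type*}
    [Fintype ι] [MulAction P ι] (x : ι → KG M G) (hx : ∀ (u : P) (i : ι), cjA (u : G) (x i) = x (u • i))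
    [DecidablePred (· ∈ MulAction.fixedPoints P ι)] :
    br P (∑ i, x i) = ∑ i with i ∈ MulAction.fixedPoints P ι, br P (x i) := by
  have : Fact p.Prime := ⟨hM.1⟩
  have : CharP (Res M) p := res_charP M hM
  refine ext_coeff fun g => ?_
  simp only [coeff_br, MonoidAlgebra.coeff_sum, Finsupp.finsetSum_apply]
  split_ifs with hg
  · refine sum_eq_sum_fixedPoints hP _ fun u i => ?_
    rw [← hx, coeff_cjA]
    congr 1
    have h1 := Subgroup.mem_centralizer_iff.mp hg u u.2
    calc (u : G)⁻¹ * g * u = (u : G)⁻¹ * (g * u) := by group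
      _ = (u : G)⁻¹ * ((u : G) * g) := by rw [h1]
      _ = g := by group
  · simp

/-! ## Subgroup algebras -/

variable (H : Subgroup G)

/-- The group algebra of a subgroup inside that of the group. -/
def emb : KG M H →+* KG M G := MonoidAlgebra.mapDomainRingHom (Res M) H.subtype

omit [Fintype G] in
theorem emb_injective : Function.Injective (emb (M := M) H) :=
  MonoidAlgebra.mapDomain_injective H.subtype_injective

omit [Fintype G] in
theorem coeff_emb (x : KG M H) (h : H) : (emb H x).coeff (h : G) = x.coeff h := by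
  show (MonoidAlgebra.mapDomain H.subtype x).coeff (H.subtype h) = _
  rw [MonoidAlgebra.coeff_mapDomain, Finsupp.mapDomain_apply H.subtype_injective]

omit [Fintype G] in
theorem coeff_emb_of_notMem (x : KG M H) {g : G} (hg : g ∉ H) : (emb H x).coeff g = 0 := by
  show (MonoidAlgebra.mapDomain H.subtype x).coeff g = _
  rw [MonoidAlgebra.coeff_mapDomain, Finsupp.mapDomain_notin_range]
  rintro ⟨h, rfl⟩
  exact hg h.2

variable {H}

theorem gidem_eq_emb [Fintype H] {f : Set (IrrCharacter H)} (hf : IsPBlock M f) :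
    gidem M H f = emb H (ridem hf) := by
  refine ext_coeff fun g => ?_
  rw [gidem, coeff_ofFun]
  by_cases hg : g ∈ H
  · have h1 : subgroupBlockCoeff H f g = blockCoeff f ⟨g, hg⟩ := by simp [subgroupBlockCoeff, hg]
    rw [h1, resD_eq (blockCoeff_mem_locRing hf _)]
    exact (coeff_emb H (ridem hf) ⟨g, hg⟩).symm
  · rw [show subgroupBlockCoeff H f g = 0 by simp [subgroupBlockCoeff, hg], resD_zero,
      coeff_emb_of_notMem H _ hg]

theorem gidemTop_eq {B : Set (IrrCharacter G)} (hB : IsPBlock M B) : gidemTop M B = ridem hB :=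
  ext_coeff fun g => by
    rw [gidemTop, coeff_ofFun, resD_eq (blockCoeff_mem_locRing hB g)]; rfl

theorem coeff_gidemTop_conj {B : Set (IrrCharacter G)} (g h : G) :
    (gidemTop M B).coeff (h * g * h⁻¹) = (gidemTop M B).coeff g := by
  rw [gidemTop, coeff_ofFun, coeff_ofFun, blockCoeff_conj]

theorem cjA_gidemTop (g : G) (B : Set (IrrCharacter G)) : cjA g (gidemTop M B) = gidemTop M B :=
  ext_coeff fun y => by
    rw [coeff_cjA]
    simpa using coeff_gidemTop_conj (M := M) (B := B) y g⁻¹

theorem isFixed_gidemTop (S : Subgroup G) (B : Set (IrrCharacter G)) : IsFixed S (gidemTop M B) :=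
  fun u _ => cjA_gidemTop u B

theorem gidemTop_mul_self {B : Set (IrrCharacter G)} (hB : IsPBlock M B) :
    gidemTop M B * gidemTop M B = gidemTop M B := by rw [gidemTop_eq hB, ridem_mul_self]

theorem gidem_mul_self {f : Set (IrrCharacter H)} (hf : IsPBlock M f) :
    gidem M H f * gidem M H f = gidem M H f := by
  have := Fintype.ofFinite H
  rw [gidem_eq_emb hf, ← map_mul, ridem_mul_self]

theorem gidem_mul_of_ne {f f' : Set (IrrCharacter H)} (hf : IsPBlock M f) (hf' : IsPBlock M f')
    (hne : f ≠ f') : gidem M H f * gidem M H f' = 0 := by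
  have := Fintype.ofFinite H
  rw [gidem_eq_emb hf, gidem_eq_emb hf', ← map_mul, ridem_mul_of_ne hf hf' hne, map_zero]

theorem gidem_ne_zero {f : Set (IrrCharacter H)} (hf : IsPBlock M f) : gidem M H f ≠ 0 := by
  have := Fintype.ofFinite H
  rw [gidem_eq_emb hf]
  exact fun h => ridem_ne_zero hf (emb_injective H (h.trans (map_zero _).symm))

theorem gidem_inj {f f' : Set (IrrCharacter H)} (hf : IsPBlock M f) (hf' : IsPBlock M f')
    (h : gidem M H f = gidem M H f') : f = f' := by
  have := Fintype.ofFinite H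
  rw [gidem_eq_emb hf, gidem_eq_emb hf'] at h
  exact ridem_inj hf hf' (emb_injective H h)

theorem centralIn_gidem (f : Set (IrrCharacter H)) : CentralIn H (gidem M H f) := by
  refine ⟨fun g hg => ?_, isFixed_iff.mpr fun u hu y => ?_⟩
  · rw [gidem, coeff_ofFun, show subgroupBlockCoeff H f g = 0 by simp [subgroupBlockCoeff, hg],
      resD_zero]
  · have := Fintype.ofFinite H
    rw [gidem, coeff_ofFun, coeff_ofFun]
    congr 1
    by_cases hy : y ∈ H
    · have hy' : u * y * u⁻¹ ∈ H := H.mul_mem (H.mul_mem hu hy) (inv_mem hu)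
      simp only [subgroupBlockCoeff, dif_pos hy, dif_pos hy']
      exact blockCoeff_conj f ⟨y, hy⟩ ⟨u, hu⟩
    · have hy' : u * y * u⁻¹ ∉ H := fun h => hy (by
        simpa [mul_assoc] using H.mul_mem (H.mul_mem (inv_mem hu) h) hu)
      simp only [subgroupBlockCoeff, dif_neg hy, dif_neg hy']

theorem CentralIn.exists_eq_emb {x : KG M G} (hx : CentralIn H x) [Fintype H] :
    ∃ y : KG M H, emb H y = x ∧ ∀ g h : H, y.coeff (h * g * h⁻¹) = y.coeff g := by
  refine ⟨ofFun fun h : H => x.coeff (h : G), ext_coeff fun g => ?_, fun g h => ?_⟩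
  · by_cases hg : g ∈ H
    · rw [show (emb H (ofFun fun h : H => x.coeff (h : G))).coeff g = _ from coeff_emb H _ ⟨g, hg⟩,
        coeff_ofFun]
    · rw [coeff_emb_of_notMem H _ hg, hx.1 g hg]
  · simp only [coeff_ofFun, Subgroup.coe_mul, Subgroup.coe_inv]
    exact (isFixed_iff.mp hx.2) h h.2 g

/-- A central idempotent of `kH` contains a block idempotent or kills it. -/
theorem occurs_cases {x : KG M G} (hx : CentralIn H x) (hid : x * x = x)
    {f : Set (IrrCharacter H)} (hf : IsPBlock M f) :
    x * gidem M H f = gidem M H f ∨ x * gidem M H f = 0 := by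
  have := Fintype.ofFinite H
  obtain ⟨y, rfl, hy⟩ := hx.exists_eq_emb
  rw [← map_mul] at hid
  rw [gidem_eq_emb hf, ← map_mul]
  rcases idem_mul_eq_or_eq_zero hy (emb_injective H hid) hf with h | h
  · exact .inl (congrArg _ h)
  · exact .inr (by rw [h, map_zero])

theorem exists_occurs' {x : KG M G} (hx : CentralIn H x) (hid : x * x = x) (hne : x ≠ 0) :
    ∃ f : Set (IrrCharacter H), IsPBlock M f ∧ x * gidem M H f = gidem M H f := by
  have := Fintype.ofFinite H
  obtain ⟨y, rfl, hy⟩ := hx.exists_eq_emb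
  rw [← map_mul] at hid
  obtain ⟨f, hf, h⟩ := exists_occurs hy (emb_injective H hid) (fun h0 => hne (by rw [h0, map_zero]))
  exact ⟨f, hf, by rw [gidem_eq_emb hf, ← map_mul, h]⟩

/-! ## Translation of the definitions -/

/-- The Brauer image of `β` contains `e`, in both forms. -/
theorem brauerOmega_iff (P : Subgroup G) {β : G → ℂ} (hβ : ∀ g, β g ∈ locRing M)
    (hconj : ∀ c ∈ Subgroup.centralizer (P : Set G), ∀ y ∈ Subgroup.centralizer (P : Set G),
      β (c * y * c⁻¹) = β y)
    (hid : br P (ofFun fun g => resD M (β g)) * br P (ofFun fun g => resD M (β g)) =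
      br P (ofFun fun g => resD M (β g)))
    {e : Set (IrrCharacter (Subgroup.centralizer (P : Set G)))} (he : IsPBlock M e) :
    (∀ ξ ∈ e, MemLocalIdeal M
      (brauerOmega P β (ξ : Subgroup.centralizer (P : Set G) → ℂ) - 1)) ↔
    br P (ofFun fun g => resD M (β g)) * gidem M (Subgroup.centralizer (P : Set G)) e =
      gidem M (Subgroup.centralizer (P : Set G)) e := by
  classical
  set C := Subgroup.centralizer (P : Set G)
  have := Fintype.ofFinite C
  let a : Zint M C := ⟨ofFun fun c : C => β c, mem_Zint_iff.mpr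
    ⟨fun c => hβ c, fun g h => hconj h h.2 g g.2⟩⟩
  have hx : emb C (red a) = br P (ofFun fun g => resD M (β g)) := by
    refine ext_coeff fun g => ?_
    rw [coeff_br]
    by_cases hg : g ∈ C
    · rw [if_pos hg, coeff_ofFun, resD_eq (hβ g)]
      exact (coeff_emb C (red a) ⟨g, hg⟩).trans rfl
    · rw [if_neg hg, coeff_emb_of_notMem C _ hg]
  rw [← hx] at hid ⊢
  rw [← map_mul] at hid
  have ha : red (a * a) = red a := by rw [map_mul]; exact emb_injective C hid
  have hom : ∀ ξ : IrrCharacter C, MemLocalIdeal M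
      (brauerOmega P β (ξ : C → ℂ) - 1) ↔ bomega ξ a = 1 := fun ξ => by
    have h1 : brauerOmega P β (ξ : C → ℂ) = (zomega ξ a : ℂ) := by
      rw [brauerOmega, finsum_eq_sum_of_fintype, coe_zomega, omega, charLin_apply, Finset.sum_div]
      exact Finset.sum_congr rfl fun c _ => by simp [a]
    rw [h1, ← Subring.coe_one (locRing M), memLocalIdeal_sub_iff, map_one]
    rfl
  rw [gidem_eq_emb he, ← map_mul, (emb_injective C).eq_iff]
  obtain ⟨ξ, hξ⟩ := IsPBlock.nonempty he
  exact ⟨fun h => (bomega_eq_one_iff ha he hξ).mp ((hom ξ).mp (h ξ hξ)),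
    fun h η hη => (hom η).mpr ((bomega_eq_one_iff ha he hη).mpr h)⟩

/-- A Brauer pair of `B`, as an equation. -/
theorem brauerPairOf_iff (hM : IsPModular p M) {B : Set (IrrCharacter G)} {Q : Subgroup G}
    {e : Set (IrrCharacter (Subgroup.centralizer (Q : Set G)))} :
    IsBrauerPairOf p M B Q e ↔ IsBrauerPair p M Q e ∧ IsPBlock M B ∧
      br Q (gidemTop M B) * gidem M (Subgroup.centralizer (Q : Set G)) e =
        gidem M (Subgroup.centralizer (Q : Set G)) e := by
  refine and_congr_right fun hQe => and_congr_right fun hB => ?_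
  refine brauerOmega_iff Q (blockCoeff_mem_locRing hB) (fun c _ y _ => blockCoeff_conj B y c) ?_ hQe.2
  show br Q (gidemTop M B) * br Q (gidemTop M B) = br Q (gidemTop M B)
  rw [← br_mul hM hQe.1 (isFixed_gidemTop Q B) (isFixed_gidemTop Q B), gidemTop_mul_self hB]

/-- Conjugation of subgroups as an isomorphism onto a given image. -/
def conjEquiv (g : G) (H H' : Subgroup G) (h : ∀ y, y ∈ H' ↔ g⁻¹ * y * g ∈ H) : H ≃* H' where
  toFun a := ⟨g * a * g⁻¹, (h _).mpr (by simp [mul_assoc])⟩
  invFun a := ⟨g⁻¹ * a * g, (h _).mp a.2⟩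
  left_inv a := Subtype.ext (by simp [mul_assoc])
  right_inv a := Subtype.ext (by simp [mul_assoc])
  map_mul' a b := Subtype.ext (by simp [mul_assoc])

/-- The idempotent of a transported block. -/
theorem gidem_tblock (g : G) {H H' : Subgroup G} (h : ∀ y, y ∈ H' ↔ g⁻¹ * y * g ∈ H)
    (f : Set (IrrCharacter H)) :
    gidem M H' (tblock (conjEquiv g H H' h) f) = cjA g (gidem M H f) := by
  have := Fintype.ofFinite H
  have := Fintype.ofFinite H'
  refine ext_coeff fun y => ?_
  rw [coeff_cjA, gidem, gidem, coeff_ofFun, coeff_ofFun]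
  congr 1
  by_cases hy : y ∈ H'
  · simp only [subgroupBlockCoeff, dif_pos hy, dif_pos ((h y).mp hy)]
    rw [← blockCoeff_tblock (conjEquiv g H H' h) f]
    congr 1
    exact ((conjEquiv g H H' h).apply_symm_apply ⟨y, hy⟩).symm
  · simp only [subgroupBlockCoeff, dif_neg hy, dif_neg (fun h' => hy ((h y).mpr h'))]

theorem mem_normalizer_iff'' {g : G} :
    g ∈ Subgroup.normalizer (H : Set G) ↔ ∀ y, y ∈ H ↔ g⁻¹ * y * g ∈ H := by
  rw [Subgroup.mem_set_normalizer_iff'']
  rfl

omit [M.IsMaximal] in
theorem stabilizes_iff_tblock {f : Set (IrrCharacter H)} {g : G}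
    (hg : ∀ y, y ∈ H ↔ g⁻¹ * y * g ∈ H) :
    (∀ χ ∈ f, ∃ χ' ∈ f, IsConjCharOf H g (χ : H → ℂ) (χ' : H → ℂ)) ↔
      tblock (conjEquiv g H H hg) f ⊆ f := by
  have := Fintype.ofFinite H
  refine ⟨fun h χ' hχ' => ?_, fun h χ hχ => ?_⟩
  · obtain ⟨χ, hχ, he⟩ := hχ'
    obtain ⟨χ'', hχ'', hc⟩ := h χ hχ
    rwa [show χ' = χ'' from Subtype.ext (funext fun y => ?_)]
    obtain ⟨z, rfl⟩ := (conjEquiv g H H hg).surjective y
    rw [hc z _ rfl]
    exact congrFun he z
  · refine ⟨tirr (conjEquiv g H H hg) χ, h ⟨χ, hχ, funext fun y =>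
      congrArg (χ : H → ℂ) ((conjEquiv g H H hg).symm_apply_apply y)⟩, fun k k' hk => ?_⟩
    have : k' = conjEquiv g H H hg k := Subtype.ext hk
    subst this
    exact congrArg (χ : H → ℂ) ((conjEquiv g H H hg).symm_apply_apply k)

/-- Stabilising a block, as an equation. -/
theorem stabilizesBlock_iff {f : Set (IrrCharacter H)} (hf : IsPBlock M f) {g : G} :
    StabilizesBlock H f g ↔ g ∈ Subgroup.normalizer (H : Set G) ∧
      cjA g (gidem M H f) = gidem M H f := by
  have := Fintype.ofFinite H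
  refine and_congr_right fun hgN => ?_
  have hg := mem_normalizer_iff''.mp hgN
  rw [stabilizes_iff_tblock hg, ← gidem_tblock g hg f]
  refine ⟨fun h => ?_, fun h => (gidem_inj (isPBlock_tblock _ hf) hf h).le⟩
  obtain ⟨ξ, hξ⟩ := IsPBlock.nonempty (isPBlock_tblock (conjEquiv g H H hg) hf)
  rw [isPBlock_eq_of_mem (isPBlock_tblock _ hf) hf hξ (h hξ)]

theorem isFixed_centralizer_gidem (Q : Subgroup G)
    (f : Set (IrrCharacter (Subgroup.centralizer (Q : Set G)))) :
    IsFixed (Subgroup.centralizer (Q : Set G)) (gidem M (Subgroup.centralizer (Q : Set G)) f) :=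
  (centralIn_gidem f).2

omit [Fintype G] in
theorem mem_normalizer_centralizer {Q : Subgroup G} {x : G}
    (hx : x ∈ Subgroup.normalizer (Q : Set G)) :
    x ∈ Subgroup.normalizer (Subgroup.centralizer (Q : Set G) : Set G) := by
  rw [Subgroup.mem_set_normalizer_iff]
  refine fun y => ⟨conj_mem_centralizer hx, fun h => ?_⟩
  simpa [mul_assoc] using conj_mem_centralizer (Subgroup.inv_mem _ hx) h

/-- A normal inclusion of Brauer pairs, as equations. -/
theorem normalSubpair_iff (hM : IsPModular p M) {Q P : Subgroup G}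
    {f : Set (IrrCharacter (Subgroup.centralizer (Q : Set G)))}
    {e : Set (IrrCharacter (Subgroup.centralizer (P : Set G)))} :
    IsNormalSubpair p M Q f P e ↔ IsBrauerPair p M Q f ∧ IsBrauerPair p M P e ∧ Q ≤ P ∧
      P ≤ Subgroup.normalizer (Q : Set G) ∧
      IsFixed P (gidem M (Subgroup.centralizer (Q : Set G)) f) ∧
      br P (gidem M (Subgroup.centralizer (Q : Set G)) f) *
        gidem M (Subgroup.centralizer (P : Set G)) e =
        gidem M (Subgroup.centralizer (P : Set G)) e := by
  refine and_congr_right fun hQ => and_congr_right fun hP => and_congr_right fun hle =>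
    and_congr_right fun hN => ?_
  refine (and_congr_left' ?_).trans (and_congr_right fun hfix => ?_)
  · exact ⟨fun h u hu => ((stabilizesBlock_iff hQ.2).mp (h u hu)).2,
      fun h u hu => (stabilizesBlock_iff hQ.2).mpr ⟨mem_normalizer_centralizer (hN hu), h u hu⟩⟩
  · have := Fintype.ofFinite (Subgroup.centralizer (Q : Set G))
    refine brauerOmega_iff P (fun g => ?_) (fun c hc y hy => ?_) ?_ hP.2
    · unfold subgroupBlockCoeff
      split_ifs
      · exact blockCoeff_mem_locRing hQ.2 _
      · exact Subring.zero_mem _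
    · have hc' := centralizer_anti hle hc
      have hy' := centralizer_anti hle hy
      have h3 : c * y * c⁻¹ ∈ Subgroup.centralizer (Q : Set G) :=
        mul_mem (mul_mem hc' hy') (inv_mem hc')
      simp only [subgroupBlockCoeff, dif_pos hy', dif_pos h3]
      exact blockCoeff_conj f ⟨y, hy'⟩ ⟨c, hc'⟩
    · show br P (gidem M _ f) * br P (gidem M _ f) = br P (gidem M _ f)
      rw [← br_mul hM hP.1 hfix hfix, gidem_mul_self hQ.2]

end CfsgLib.BrauerPairs
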