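import Cfsg.Agent.Lib.BrauerPairs.Word

/-!
# Blocks covering blocks of a normal subgroup, through idempotents

* `conjN`, `gidem_conjN`, `orbN`, `sigN`;
* `mul_sigN_eq`: `B σ = B` for the orbit of the block of any constituent;
* `covers_iff`: `B` covers `c` iff the product of the idempotents is nonzero;
* `br_ne_zero_of_cover`: the Brauer map at a defect group of `c` does not kill the idempotent of `B`;
* `exists_covered_stable`, `exists_defect_inf_eq`.
-/

set_option autoImplicit false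

noncomputable section

namespace CfsgLib.BrauerPairs

open Cfsg CfsgLib.Blocks CfsgLib.CharNormal

universe u

variable {M : Ideal AlgInt} [M.IsMaximal] {G : Type u} [Group G] [Fintype G] {p : ℕ}
  {N : Subgroup G} [hN : N.Normal]

omit [Fintype G] in
theorem normal_conj_iff (x : G) : ∀ y, y ∈ N ↔ x⁻¹ * y * x ∈ N := fun y => by
  refine ⟨fun hy => by simpa using hN.conj_mem y hy x⁻¹, fun hy => ?_⟩
  simpa [mul_assoc] using hN.conj_mem _ hy x

/-- The conjugate of a block of a normal subgroup. -/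
def conjN (x : G) (i : Blk M N) : Blk M N :=
  ⟨tblock (conjEquiv x N N (normal_conj_iff x)) i.1,
    have := Fintype.ofFinite N
    isPBlock_tblock _ i.2⟩

theorem gidem_conjN (x : G) (i : Blk M N) :
    gidem M N (conjN x i).1 = cjA x (gidem M N i.1) :=
  gidem_tblock _ _ _

theorem conjN_conjN (x y : G) (i : Blk M N) : conjN x (conjN y i) = conjN (x * y) i := by
  have := Fintype.ofFinite N
  exact Subtype.ext (gidem_inj (conjN x (conjN y i)).2 (conjN (x * y) i).2
    (by rw [gidem_conjN, gidem_conjN, gidem_conjN, cjA_cjA]))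

theorem conjN_one (i : Blk M N) : conjN 1 i = i := by
  have := Fintype.ofFinite N
  exact Subtype.ext (gidem_inj (conjN 1 i).2 i.2 (by rw [gidem_conjN, cjA_one]))

open Classical in
/-- The orbit of a block. -/
def orbN (i : Blk M N) : Finset (Blk M N) := Finset.univ.image fun x : G => conjN x i

omit [Fintype G] hN in
theorem mem_orbN [Fintype G] [N.Normal] {i j : Blk M N} :
    j ∈ orbN i ↔ ∃ x : G, conjN x i = j := by
  classical
  simp [orbN]

theorem self_mem_orbN (i : Blk M N) : i ∈ orbN i := mem_orbN.mpr ⟨1, conjN_one i⟩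

theorem conjN_mem_orbN {i j : Blk M N} (x : G) (h : j ∈ orbN i) : conjN x j ∈ orbN i := by
  obtain ⟨y, rfl⟩ := mem_orbN.mp h
  exact mem_orbN.mpr ⟨x * y, (conjN_conjN x y i).symm⟩

variable (M) in
/-- The sum of the idempotents of an orbit. -/
def sigN (i : Blk M N) : KG M G := ∑ j ∈ orbN i, gidem M N j.1

theorem sigN_mul_of_mem {i j : Blk M N} (h : j ∈ orbN i) :
    sigN M i * gidem M N j.1 = gidem M N j.1 := by
  rw [sigN, Finset.sum_mul, Finset.sum_eq_single j
    (fun b _ hb => gidem_mul_of_ne b.2 j.2 fun h' => hb (Subtype.ext h'))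
    (fun h' => absurd h h'), gidem_mul_self j.2]

theorem sigN_mul_of_notMem {i j : Blk M N} (h : j ∉ orbN i) : sigN M i * gidem M N j.1 = 0 := by
  rw [sigN, Finset.sum_mul]
  exact Finset.sum_eq_zero fun b hb =>
    gidem_mul_of_ne b.2 j.2 fun h' => h (Subtype.ext h' ▸ hb)

theorem subgroupBlockCoeff_conjN (x : G) (i : Blk M N) (g : G) :
    subgroupBlockCoeff N (conjN x i).1 g = subgroupBlockCoeff N i.1 (x⁻¹ * g * x) :=
  subgroupBlockCoeff_tblock x _ i.1 g

open Classical in
theorem sum_orbN_conj (i : Blk M N) (y g : G) :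
    (∑ j ∈ orbN i, subgroupBlockCoeff N j.1 (y * g * y⁻¹)) =
      ∑ j ∈ orbN i, subgroupBlockCoeff N j.1 g := by
  refine Finset.sum_bij' (fun j _ => conjN y⁻¹ j) (fun j _ => conjN y j)
    (fun j hj => conjN_mem_orbN _ hj) (fun j hj => conjN_mem_orbN _ hj) (fun j _ => ?_) (fun j _ => ?_)
    (fun j _ => ?_)
  · show conjN y (conjN y⁻¹ j) = j
    rw [conjN_conjN, mul_inv_cancel, conjN_one]
  · show conjN y⁻¹ (conjN y j) = j
    rw [conjN_conjN, inv_mul_cancel, conjN_one]
  · rw [subgroupBlockCoeff_conjN, inv_inv]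

/-- An exact lift of `sigN`. -/
def sigZ (i : Blk M N) : Zint M G :=
  ⟨ofFun fun g => ∑ j ∈ orbN i, subgroupBlockCoeff N j.1 g, mem_Zint_iff.mpr
    ⟨fun g => by rw [coeff_ofFun]; exact Subring.sum_mem _ fun j _ => subgroupBlockCoeff_mem j.2 g,
      fun g h => by simp only [coeff_ofFun]; exact sum_orbN_conj i h g⟩⟩

theorem red_sigZ (i : Blk M N) : red (sigZ i) = sigN M i := by
  refine ext_coeff fun g => ?_
  rw [coeff_red, sigN, MonoidAlgebra.coeff_sum, Finsupp.finsetSum_apply]
  simp only [gidem, coeff_ofFun]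
  rw [Finset.sum_congr rfl (fun j _ => resD_eq (subgroupBlockCoeff_mem j.2 g)), ← map_sum]
  exact congrArg (res M) (Subtype.ext (by
    simp only [sigZ, coeff_ofFun, AddSubmonoidClass.coe_finsetSum]))

theorem sigN_mul_self (i : Blk M N) : sigN M i * sigN M i = sigN M i := by
  conv_lhs => arg 2; rw [sigN]
  rw [Finset.mul_sum]
  exact Finset.sum_congr rfl fun j hj => sigN_mul_of_mem hj

variable [Fintype N]

theorem resZ_sigZ (i : Blk M N) : resZ N M (sigZ i) = ∑ j ∈ orbN i, idem j.2 := by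
  classical
  refine Subtype.ext (MonoidAlgebra.coeff_injective (Finsupp.ext fun n => ?_))
  rw [AddSubmonoidClass.coe_finsetSum, MonoidAlgebra.coeff_sum, Finsupp.finsetSum_apply, coe_resZ,
    coeff_resCA]
  simp only [sigZ, idem, blockElt, coeff_ofFun]
  refine Finset.sum_congr rfl fun j _ => ?_
  rw [subgroupBlockCoeff, dif_pos n.2]

open Classical in
theorem bomega_sigZ {χ : IrrCharacter G} {θ : IrrCharacter N}
    (h : classInner (fun n : N => (χ : G → ℂ) n) (θ : N → ℂ) ≠ 0) {c₀ : Blk M N} (hθ : θ ∈ c₀.1)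
    (i : Blk M N) : bomega χ (sigZ i) = if c₀ ∈ orbN i then 1 else 0 := by
  have hz : zomega χ (sigZ i) = zomega θ (resZ N M (sigZ i)) := by
    refine Subtype.ext ?_
    rw [coe_zomega, coe_zomega, coe_resZ]
    refine omega_eq_omega_resCA_of_over χ.2 h ?_ fun g hg => ?_
    · exact (mem_center_iff _).mpr (mem_Zint_iff.mp (sigZ i).2).2
    · simp only [sigZ, coeff_ofFun]
      exact Finset.sum_eq_zero fun j _ => by rw [subgroupBlockCoeff, dif_neg hg]
  rw [bomega_apply, hz, resZ_sigZ, ← bomega_apply, map_sum]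
  rw [← Finset.sum_ite_eq' (orbN i) c₀ (fun _ => (1 : Res M))]
  refine Finset.sum_congr rfl fun j _ => ?_
  rw [bomega_idem]
  refine if_congr ⟨fun hj => ?_, fun hj => hj ▸ hθ⟩ rfl rfl
  exact Subtype.ext (isPBlock_eq_of_mem j.2 c₀.2 hj hθ)

/-- `B σ = B` for the orbit of the block of a constituent. -/
theorem mul_sigN_eq {B : Set (IrrCharacter G)} (hB : IsPBlock M B) {χ : IrrCharacter G} (hχ : χ ∈ B)
    {θ : IrrCharacter N} (h : classInner (fun n : N => (χ : G → ℂ) n) (θ : N → ℂ) ≠ 0)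
    {i : Blk M N} (hθ : θ ∈ i.1) : gidemTop M B * sigN M i = gidemTop M B := by
  classical
  have h1 := (bomega_eq_one_iff (a := sigZ i) (by rw [map_mul, red_sigZ, sigN_mul_self]) hB hχ).mp
    (by rw [bomega_sigZ h hθ, if_pos (self_mem_orbN i)])
  rw [red_sigZ, ← gidemTop_eq hB] at h1
  conv_rhs => rw [← h1]
  rw [← red_sigZ, gidemTop_eq hB]
  show red (idem hB) * red (sigZ i) = red (sigZ i) * red (idem hB)
  rw [← map_mul, ← map_mul, mul_comm]

/-- `B` covers `c` iff the product of the idempotents is nonzero. -/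
theorem covers_iff {B : Set (IrrCharacter G)} (hB : IsPBlock M B) {c : Set (IrrCharacter N)}
    (hc : IsPBlock M c) :
    (∃ χ ∈ B, ∃ θ ∈ c, classInner (fun n : N => (χ : G → ℂ) n) (θ : N → ℂ) ≠ 0) ↔
      gidemTop M B * gidem M N c ≠ 0 := by
  classical
  constructor
  · rintro ⟨χ, hχ, θ, hθ, h⟩ h0
    have h1 := mul_sigN_eq hB hχ h (i := ⟨c, hc⟩) hθ
    rw [sigN, Finset.mul_sum, Finset.sum_eq_zero fun j hj => ?_] at h1
    · exact ridem_ne_zero hB (by rw [← gidemTop_eq hB, ← h1])
    · obtain ⟨x, rfl⟩ := mem_orbN.mp hj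
      rw [gidem_conjN, ← cjA_gidemTop x B, ← map_mul, h0, map_zero]
  · intro hne
    obtain ⟨χ, hχ⟩ := IsPBlock.nonempty hB
    obtain ⟨θ, h⟩ := exists_over (N := N) χ.2
    set i : Blk M N := ⟨_, isPBlock_blockOf θ⟩ with hi
    have hθ : θ ∈ i.1 := mem_blockOf_self θ
    have hmem : (⟨c, hc⟩ : Blk M N) ∈ orbN i := by
      by_contra hn
      apply hne
      rw [← mul_sigN_eq hB hχ h hθ, mul_assoc, sigN_mul_of_notMem hn, mul_zero]
    obtain ⟨x, hx⟩ := mem_orbN.mp hmem
    have hc' : c = (conjN x i).1 := by rw [hx]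
    subst hc'
    refine ⟨χ, hχ, tirr (conjEquiv x N N (normal_conj_iff x)) θ, ?_, ?_⟩
    · show tirr _ θ ∈ tblock _ i.1
      exact ⟨θ, hθ, funext fun m => congrArg (θ : N → ℂ)
        ((conjEquiv x N N (normal_conj_iff x)).symm_apply_apply m)⟩
    · have he : ((tirr (conjEquiv x N N (normal_conj_iff x)) θ : IrrCharacter N) : N → ℂ) =
          conjFun N x⁻¹ (θ : N → ℂ) := by
        funext n
        rw [conjFun_apply]
        show (θ : N → ℂ) ((conjEquiv x N N (normal_conj_iff x)).symm n) = _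
        refine congrArg (θ : N → ℂ) ?_
        refine (conjEquiv x N N (normal_conj_iff x)).injective ?_
        rw [MulEquiv.apply_symm_apply]
        refine Subtype.ext ?_
        show (n : G) = x * (x⁻¹ * (n : G) * x⁻¹⁻¹) * x⁻¹
        group
      rw [he, classInner_res_conjFun N (CfsgLib.Char.isClassFunction_of_isIrr χ.2)]
      exact h

/-- The Brauer map at a defect group of a covered block does not kill the covering idempotent. -/
theorem br_ne_zero_of_cover (hM : IsPModular p M) {B : Set (IrrCharacter G)} (hB : IsPBlock M B)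
    {c : Set (IrrCharacter N)} (hc : IsPBlock M c) (hne : gidemTop M B * gidem M N c ≠ 0)
    {D : Subgroup N} (hD : IsDefectGroup p M c D) :
    br (D.map N.subtype) (gidemTop M B) ≠ 0 := by
  have : Fact p.Prime := ⟨hM.1⟩
  exact br_ne_zero_of_word hM hc (gidemTop_mul_self hB) (isFixed_gidemTop N B) hne
    ((IsDefectGroup.isPGroup hD).map _) (Subgroup.map_subtype_le D) (br_ne_zero_of_defect hc hD)

/-- A covered block stable under a given `p`-group surviving in `B`. -/
theorem exists_covered_stable (hM : IsPModular p M) {B : Set (IrrCharacter G)} (hB : IsPBlock M B)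
    {c : Set (IrrCharacter N)} (hc : IsPBlock M c) (hne : gidemTop M B * gidem M N c ≠ 0)
    {P : Subgroup G} (hP : IsPGroup p P) (hbr : br P (gidemTop M B) ≠ 0) :
    ∃ j ∈ orbN (⟨c, hc⟩ : Blk M N), IsFixed P (gidem M N j.1) ∧
      gidemTop M B * gidem M N j.1 ≠ 0 ∧ br P (gidem M N j.1) ≠ 0 := by
  classical
  obtain ⟨χ, hχ, θ, hθ, h⟩ := (covers_iff hB hc).mpr hne
  have hσ := mul_sigN_eq hB hχ h (i := ⟨c, hc⟩) hθ
  set O := orbN (⟨c, hc⟩ : Blk M N) with hO
  let _ : MulAction P O :=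
    { smul := fun v j => ⟨conjN (v : G) j.1, conjN_mem_orbN _ j.2⟩
      one_smul := fun j => Subtype.ext (by show conjN ((1 : P) : G) j.1 = j.1; simp [conjN_one])
      mul_smul := fun v w j => Subtype.ext (by
        show conjN ((v * w : P) : G) j.1 = conjN (v : G) (conjN (w : G) j.1)
        rw [conjN_conjN, Subgroup.coe_mul]) }
  have h2 := sum_br_fixed (ι := O) hM hP (fun j : O => gidemTop M B * gidem M N j.1.1)
    (fun v (j : O) => by
      show cjA (v : G) (gidemTop M B * gidem M N j.1.1) =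
        gidemTop M B * gidem M N (conjN (v : G) j.1).1
      rw [map_mul, cjA_gidemTop, gidem_conjN])
  rw [← Finset.mul_sum, show (∑ j : O, gidem M N j.1.1) = sigN M (⟨c, hc⟩ : Blk M N) from
    Finset.sum_coe_sort O (fun j : Blk M N => gidem M N j.1), hσ] at h2
  obtain ⟨j, hj, hj0⟩ := Finset.exists_ne_zero_of_sum_ne_zero (h2 ▸ hbr)
  have hjfix : IsFixed P (gidem M N j.1.1) := fun v hv => by
    have h3 := congrArg Subtype.val ((MulAction.mem_fixedPoints.mp (Finset.mem_filter.mp hj).2) ⟨v, hv⟩)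
    have h4 : conjN v j.1 = j.1 := h3
    rw [← gidem_conjN, h4]
  rw [br_mul hM hP (isFixed_gidemTop P B) hjfix] at hj0
  refine ⟨j.1, j.2, hjfix, ?_, right_ne_zero_of_mul hj0⟩
  obtain ⟨x, hx⟩ := mem_orbN.mp j.2
  rw [← hx, gidem_conjN, ← cjA_gidemTop x B, ← map_mul]
  exact fun h0 => hne (by simpa using congrArg (cjA x).symm h0)

/-- A defect group of `B` meets `N` in a defect group of some covered block. -/
theorem exists_stable_covered_defect [Fact p.Prime] (hM : IsPModular p M)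
    {B : Set (IrrCharacter G)} (hB : IsPBlock M B) {c : Set (IrrCharacter N)} (hc : IsPBlock M c)
    (hne : gidemTop M B * gidem M N c ≠ 0) {P : Subgroup G} (hP : IsDefectGroup p M B P) :
    ∃ j ∈ orbN (⟨c, hc⟩ : Blk M N), IsFixed P (gidem M N j.1) ∧
      gidemTop M B * gidem M N j.1 ≠ 0 ∧ IsDefectGroup p M j.1 ((P ⊓ N).subgroupOf N) := by
  have hPp := IsDefectGroup.isPGroup hP
  obtain ⟨j, hj, hfix, hjne, hbr⟩ :=
    exists_covered_stable hM hB hc hne hPp (br_gidemTop_ne_zero hB hP)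
  refine ⟨j, hj, hfix, hjne, ?_⟩
  obtain ⟨D, hD, hPD⟩ := exists_defect_ge hM j.2 (hPp.to_le (inf_le_left : P ⊓ N ≤ P)) inf_le_right
    (br_ne_zero_mono inf_le_left hbr)
  obtain ⟨x, hx⟩ := exists_conj_le_defect hM hB hP ((IsDefectGroup.isPGroup hD).map N.subtype)
    (br_ne_zero_of_cover hM hB j.2 hjne hD)
  have h1 : (D.map N.subtype).map (MulAut.conj x).toMonoidHom ≤ P ⊓ N := le_inf hx (by
    rintro _ ⟨_, ⟨d, -, rfl⟩, rfl⟩
    exact hN.conj_mem _ d.2 x)
  have h2 := Subgroup.card_le_of_le h1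
  rw [Subgroup.card_map_of_injective (MulEquiv.injective _),
    Subgroup.card_map_of_injective (Subgroup.subtype_injective _),
    ← card_subgroupOf' (inf_le_right : P ⊓ N ≤ N)] at h2
  rwa [Subgroup.eq_of_le_of_card_ge hPD h2]

/-- Every defect group of a covered block is the trace on `N` of a defect group of `B`. -/
theorem exists_defect_inf_eq [Fact p.Prime] (hM : IsPModular p M) {B : Set (IrrCharacter G)}
    (hB : IsPBlock M B) {c : Set (IrrCharacter N)} (hc : IsPBlock M c)
    (hne : gidemTop M B * gidem M N c ≠ 0) {Q : Subgroup G} (hQN : Q ≤ N)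
    (hQ : IsDefectGroup p M c (Q.subgroupOf N)) :
    ∃ P : Subgroup G, IsDefectGroup p M B P ∧ P ⊓ N = Q := by
  obtain ⟨P, hP⟩ := exists_isDefectGroup (p := p) hB
  have hbrQ := br_ne_zero_of_cover hM hB hc hne hQ
  rw [Subgroup.map_subgroupOf_eq_of_le hQN] at hbrQ
  have hQp : IsPGroup p Q :=
    (IsDefectGroup.isPGroup hQ).of_equiv (Subgroup.subgroupOfEquivOfLe hQN)
  obtain ⟨x, hx⟩ := exists_conj_le_defect hM hB hP hQp hbrQ
  obtain ⟨j, hj, -, -, hjD⟩ := exists_stable_covered_defect hM hB hc hne hP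
  obtain ⟨z, hz⟩ := mem_orbN.mp hj
  have h1 : Q.map (MulAut.conj x).toMonoidHom ≤ P ⊓ N := le_inf hx (by
    rintro _ ⟨q, hq, rfl⟩
    exact hN.conj_mem _ (hQN hq) x)
  have h2 := card_defect_conj_le hM z⁻¹ j.2 hc
    (by rw [← hz, gidem_conjN, cjA_inv_cjA]) (fun y hy => hN.conj_mem y hy _) hjD hQ
  rw [card_subgroupOf' hQN] at h2
  replace h2 := (card_subgroupOf' (inf_le_right : P ⊓ N ≤ N)).symm.trans_le h2
  have h3 : Q.map (MulAut.conj x).toMonoidHom = P ⊓ N :=
    Subgroup.eq_of_le_of_card_ge h1 (h2.trans_eq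
      (Subgroup.card_map_of_injective (MulEquiv.injective _)).symm)
  refine ⟨cj x⁻¹ P, IsDefectGroup.conj hB hP x⁻¹, ?_⟩
  have h4 := congrArg (Subgroup.map (MulAut.conj x⁻¹).toMonoidHom) h3
  rw [map_conj_inv_map, Subgroup.map_inf _ _ _ (MulEquiv.injective _),
    map_conj_eq_self (P := N) (Subgroup.le_normalizer_of_normal (Subgroup.mem_top x⁻¹))] at h4
  exact h4.symm

end CfsgLib.BrauerPairs
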