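import Cfsg.Agent.Lib.BrauerPairs.LocalDefect

/-!
# A defect group covers a Sylow subgroup of the quotient by a normal subgroup with a stable block

* `isNilpotent_red`: all reduced central characters zero implies nilpotent modulo `M`;
* `not_dvd_index_sup`: if the idempotent of `B` is that of a stable block of `N ⊴ G`, then
  `p ∤ [G : D N]`;
* `not_dvd_index_stable`: the same inside a subgroup `T` for `N = C(Q)`.
-/

set_option autoImplicit false

noncomputable section

namespace CfsgLib.BrauerPairs

open Cfsg CfsgLib.Blocks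

attribute [local instance] Ideal.Quotient.field

universe u

variable {M : Ideal AlgInt} [M.IsMaximal] {G : Type u} [Group G] [Fintype G] {p : ℕ}

theorem isNilpotent_red {H : Type*} [Group H] [Fintype H] {x : Zint M H}
    (h : ∀ η : IrrCharacter H, bomega η x = 0) : IsNilpotent (red x) := by
  refine ⟨Fintype.card (IrrCharacter H), ?_⟩
  have h2 : ∀ η : IrrCharacter H,
      red (evalZ x (Polynomial.X - Polynomial.C (zomega η x))) = red x := by
    intro η
    rw [evalZ, Polynomial.coe_eval₂RingHom, Polynomial.eval₂_sub, Polynomial.eval₂_X,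
      Polynomial.eval₂_C, map_sub, sub_eq_self]
    refine ext_coeff fun g => ?_
    rw [coeff_red, MonoidAlgebra.coeff_zero, Finsupp.zero_apply,
      ← mul_one (scal M (zomega η x)), rcoeff_scal_mul, ← bomega_apply, h η, zero_mul]
  have h3 : ∀ s : Finset (IrrCharacter H),
      red (evalZ x (∏ η ∈ s, (Polynomial.X - Polynomial.C (zomega η x)))) = red x ^ s.card := by
    intro s
    induction s using Finset.cons_induction with
    | empty => simp
    | cons η s hη ih =>
      rw [Finset.prod_cons, map_mul, map_mul, ih, h2, Finset.card_cons, pow_succ']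
  have h1 := h3 Finset.univ
  rw [← rootsPoly, evalZ_rootsPoly, map_zero] at h1
  exact h1.symm

theorem bomega_zclass_eq_of_stable {N : Subgroup G} [hN : N.Normal] [Fintype N]
    {c : Set (IrrCharacter N)} (hc : IsPBlock M c)
    (hst : ∀ x : G, cjA x (gidem M N c) = gidem M N c) (x : G) (w : N)
    {ξ : IrrCharacter N} (hξ : ξ ∈ c) :
    bomega (M := M) ξ (zclass M (MulAut.conjNormal x w)) = bomega ξ (zclass M w) := by
  have hx : ∀ z, z ∈ N ↔ x⁻¹ * z * x ∈ N := mem_normalizer_iff''.mp (by
    rw [Subgroup.normalizer_eq_top_iff.mpr hN]; exact Subgroup.mem_top x)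
  set e := conjEquiv x N N hx with he
  have hcs : tblock e c = c := gidem_inj (isPBlock_tblock _ hc) hc (by rw [gidem_tblock, hst x])
  have hmem : tirr e.symm ξ ∈ c := (mem_tblock e).mp (by rw [hcs]; exact hξ)
  have hv : MulAut.conjNormal x w = e w :=
    Subtype.ext (by rw [MulAut.conjNormal_apply]; rfl)
  rw [hv]
  have h1 : bomega (M := M) (tirr e.symm ξ) (zclass M w) = bomega ξ (zclass M (e w)) := by
    rw [bomega_apply, bomega_apply]
    refine congrArg (res M) (Subtype.ext ?_)
    rw [coe_zomega_zclass, coe_zomega_zclass]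
    exact centralChar_comp_mulEquiv e (ξ : N → ℂ) w
  rw [← h1, bomega_eq_of_mem hc hmem hξ]

/-- A defect group covers a Sylow subgroup of the quotient. -/
theorem not_dvd_index_sup [hp : Fact p.Prime] (hM : IsPModular p M) {N : Subgroup G} [hN : N.Normal]
    {c : Set (IrrCharacter N)} (hc : IsPBlock M c)
    (hst : ∀ x : G, cjA x (gidem M N c) = gidem M N c) {B : Set (IrrCharacter G)}
    (hB : IsPBlock M B) (heq : gidemTop M B = gidem M N c) {D : Subgroup G}
    (hD : IsDefectGroup p M B D) : ¬ p ∣ (N ⊔ D).index := by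
  classical
  have : CharP (Res M) p := res_charP M hM
  have := Fintype.ofFinite N
  obtain ⟨χ, hχ⟩ := IsPBlock.nonempty hB
  obtain ⟨y, hy, hyD⟩ := isDefectGroup_iff.mp hD
  obtain ⟨hyr, hyχ⟩ := (isDefectClass_iff hB hχ y).mp hy
  have hyN : y ∈ N := by
    by_contra h
    apply hyr
    have h1 := (centralIn_gidem (M := M) c).1 y h
    rwa [← heq, gidemTop_eq hB, coeff_red] at h1
  set C := Subgroup.centralizer ({y} : Set G) with hC
  have hstep : (N ⊔ D).relIndex (N ⊔ C) ∣ D.relIndex C := by
    have h1 := Subgroup.relIndex_map_map (QuotientGroup.mk' N) D C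
    rw [QuotientGroup.ker_mk'] at h1
    rw [sup_comm N D, sup_comm N C, ← h1]
    let f := (QuotientGroup.mk' N).comp C.subtype
    have h2 : ((D.subgroupOf C).map f.rangeRestrict).index ∣ (D.subgroupOf C).index :=
      Subgroup.index_map_dvd (D.subgroupOf C) f.rangeRestrict_surjective
    refine dvd_trans ?_ h2
    rw [Subgroup.relIndex]
    refine dvd_of_eq ?_
    have hr : f.range = C.map (QuotientGroup.mk' N) := by
      rw [MonoidHom.range_comp, Subgroup.range_subtype]
    have h3 : ((D.subgroupOf C).map f.rangeRestrict).index =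
        ((D.map (QuotientGroup.mk' N)).subgroupOf f.range).index := by
      congr 1
      ext ⟨q, hq⟩
      simp only [Subgroup.mem_map, Subgroup.mem_subgroupOf]
      constructor
      · rintro ⟨a, ha, he⟩
        exact ⟨a, ha, congrArg Subtype.val he⟩
      · rintro ⟨d, hd, hde⟩
        have hdC : d ∈ C := hyD.le_centralizer hd
        exact ⟨⟨d, hdC⟩, hd, Subtype.ext hde⟩
    rw [h3, hr]
  have hDC : ¬ p ∣ D.relIndex C := by
    have hcard := hyD.card
    rw [Subgroup.relIndex]
    have h1 := (D.subgroupOf C).index_mul_card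
    rw [card_subgroupOf' hyD.le_centralizer, hcard] at h1
    intro hdvd
    have h2 : p ^ ((Nat.card C).factorization p + 1) ∣ Nat.card C := by
      refine dvd_trans (dvd_trans (dvd_of_eq ?_) (mul_dvd_mul hdvd dvd_rfl)) (dvd_of_eq h1)
      rw [pow_succ']
    exact Nat.pow_succ_factorization_not_dvd Nat.card_pos.ne' hp.out h2
  intro hdvd
  rw [← Subgroup.relIndex_mul_index (sup_le_sup_left hyD.le_centralizer N)] at hdvd
  rcases hp.out.dvd_mul.mp hdvd with h | h
  · exact hDC (h.trans hstep)
  -- the orbit of the class of `y` has size divisible by `p`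
  have : Finite (ConjClasses N) := Finite.of_surjective _ ConjClasses.mk_surjective
  have := Fintype.ofFinite (ConjClasses N)
  let _ : MulAction G (ConjClasses N) :=
    { smul := fun x K => ConjClasses.map (MulAut.conjNormal x : MulAut N).toMonoidHom K
      one_smul := fun K => by
        induction K using Quotient.inductionOn with
        | h a => exact congrArg ConjClasses.mk (Subtype.ext (by simp))
      mul_smul := fun x z K => by
        induction K using Quotient.inductionOn with
        | h a => exact congrArg ConjClasses.mk (Subtype.ext (by simp [mul_assoc])) }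
  have hsm : ∀ (x : G) (a : N), x • ConjClasses.mk a = ConjClasses.mk (MulAut.conjNormal x a) :=
    fun _ _ => rfl
  set K₀ := ConjClasses.mk (⟨y, hyN⟩ : N) with hK₀
  have hstab : MulAction.stabilizer G K₀ = N ⊔ C := by
    ext g
    rw [MulAction.mem_stabilizer_iff, hK₀, hsm, ConjClasses.mk_eq_mk_iff_isConj, isConj_iff,
      Subgroup.mem_sup_of_normal_left]
    constructor
    · rintro ⟨n, hn⟩
      have hn' : (n : G) * (g * y * g⁻¹) * (n : G)⁻¹ = y := by
        simpa [mul_assoc] using congrArg Subtype.val hn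
      refine ⟨(n : G)⁻¹, inv_mem n.2, (n : G) * g, ?_, by group⟩
      rw [hC, Subgroup.mem_centralizer_singleton_iff]
      exact Eq.symm <|
      calc y * ((n : G) * g) = ((n : G) * (g * y * g⁻¹) * (n : G)⁻¹) * ((n : G) * g) := by rw [hn']
        _ = (n : G) * g * y := by group
    · rintro ⟨n, hn, z, hz, rfl⟩
      refine ⟨⟨n, hn⟩⁻¹, Subtype.ext ?_⟩
      rw [hC, Subgroup.mem_centralizer_singleton_iff] at hz
      simp only [Subgroup.coe_mul, Subgroup.coe_inv, MulAut.conjNormal_apply, inv_inv]
      calc n⁻¹ * (n * z * y * (n * z)⁻¹) * n = z * y * z⁻¹ := by group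
        _ = y * z * z⁻¹ := by rw [hz]
        _ = y := by group
  have horb : ∀ K : ConjClasses N, K ∈ MulAction.orbit G K₀ ↔ IsConj y (K.out : G) := by
    intro K
    constructor
    · rintro ⟨g, rfl⟩
      obtain ⟨n, hn⟩ := isConj_iff.mp (ConjClasses.mk_eq_mk_iff_isConj.mp
        (Quotient.out_eq (g • K₀)).symm : IsConj (MulAut.conjNormal g (⟨y, hyN⟩ : N)) (g • K₀).out)
      refine isConj_iff.mpr ⟨(n : G) * g, ?_⟩
      show _ = ((g • K₀).out : G)
      rw [← hn]
      simp [mul_assoc]
    · intro hK
      obtain ⟨g, hg⟩ := isConj_iff.mp hK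
      refine ⟨g, ?_⟩
      show g • K₀ = K
      rw [hK₀, hsm]
      conv_rhs => rw [← Quotient.out_eq K]
      exact congrArg ConjClasses.mk (Subtype.ext (by simpa using hg))
  obtain ⟨ξ, hξ⟩ := IsPBlock.nonempty hc
  have hlam : bomega ξ (resIn N (zclass M y)) = 0 := by
    rw [bomega_eq_sum]
    simp only [rcoeff_resIn, rcoeff_zclass, ite_mul, one_mul, zero_mul]
    rw [← Finset.sum_filter, Finset.sum_congr rfl (g := fun _ => bomega ξ (zclass M (⟨y, hyN⟩ : N)))
      fun K hK => ?_, Finset.sum_const, nsmul_eq_mul]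
    · refine mul_eq_zero_of_left ?_ _
      rw [CharP.cast_eq_zero_iff (Res M) p, ← Fintype.card_subtype, ← Nat.card_eq_fintype_card]
      rw [← Nat.card_congr (Equiv.subtypeEquivRight horb)]
      show p ∣ Nat.card (MulAction.orbit G K₀)
      rw [Nat.card_coe_set_eq, ← MulAction.index_stabilizer, hstab]
      exact h
    · obtain ⟨g, hg⟩ := (horb K).mpr (Finset.mem_filter.mp hK).2
      have hKe : IsConj (MulAut.conjNormal g (⟨y, hyN⟩ : N)) K.out :=
        ConjClasses.mk_eq_mk_iff_isConj.mp (hg.trans (Quotient.out_eq K).symm)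
      have h1 : zclass M K.out = zclass M (MulAut.conjNormal g (⟨y, hyN⟩ : N)) :=
        Subtype.ext (MonoidAlgebra.coeff_injective (Finsupp.ext fun z => by
          rw [coe_zclass, coe_zclass, classSum_coeff, classSum_coeff]
          exact if_congr ⟨hKe.trans, hKe.symm.trans⟩ rfl rfl))
      rw [h1, bomega_zclass_eq_of_stable hc hst g _ hξ]
  have hnil : IsNilpotent (red (resIn N (zclass M y) * idem hc)) := by
    refine isNilpotent_red fun η => ?_
    rw [map_mul, bomega_idem]
    split_ifs with hη
    · rw [bomega_eq_of_mem hc hη hξ, hlam, zero_mul]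
    · rw [mul_zero]
  apply hyχ
  have h1 : IsNilpotent (red (zclass M y * idem hB)) := by
    have h2 := hnil.map (emb (M := M) N)
    rw [map_mul, map_mul] at h2
    rw [map_mul]
    have e1 : red (zclass M y) = emb N (red (resIn N (zclass M y))) := by
      refine ext_coeff fun z => ?_
      by_cases hz : z ∈ N
      · rw [show (emb N (red (resIn N (zclass M y)))).coeff z = _ from coeff_emb N _ ⟨z, hz⟩]
        rfl
      · rw [coeff_emb_of_notMem N _ hz, coeff_red, rcoeff_zclass, if_neg]
        intro hyz
        obtain ⟨g, rfl⟩ := isConj_iff.mp hyz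
        exact hz (hN.conj_mem y hyN g)
    rwa [e1, show red (idem hB) = emb N (red (idem hc)) from
      (gidemTop_eq hB).symm.trans (heq.trans (gidem_eq_emb hc))]
  have h3 := bomega_eq_zero_of_isNilpotent χ h1
  rwa [map_mul, bomega_idem_self hB hχ, mul_one] at h3

/-- The same inside a subgroup `T` containing `C(Q)` as a normal subgroup. -/
theorem not_dvd_index_stable [Fact p.Prime] (hM : IsPModular p M) {Q T : Subgroup G} (hCT : Cen Q ≤ T)
    (hTN : T ≤ Subgroup.normalizer (Q : Set G)) {f : Set (IrrCharacter (Cen Q))} (hf : IsPBlock M f)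
    (hfix : IsFixed T (gidem M (Cen Q) f)) {F : Set (IrrCharacter T)} (hF : IsPBlock M F)
    (heq : gidem M T F = gidem M (Cen Q) f) {D : Subgroup T} (hD : IsDefectGroup p M F D) :
    ¬ p ∣ ((Cen Q).subgroupOf T ⊔ D).index := by
  classical
  have := Fintype.ofFinite T
  have hN : ((Cen Q).subgroupOf T).Normal :=
    (Subgroup.normal_subgroupOf_iff_le_normalizer hCT).mpr fun t ht =>
      mem_normalizer_centralizer (hTN ht)
  have := Fintype.ofFinite ((Cen Q).subgroupOf T)
  have := Fintype.ofFinite (Cen Q)
  set e := Subgroup.subgroupOfEquivOfLe hCT with he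
  set c := tblock e.symm f with hcdef
  have hc : IsPBlock M c := isPBlock_tblock _ hf
  have hcoe : ∀ t : T, (gidem M ((Cen Q).subgroupOf T) c).coeff t = (gidem M (Cen Q) f).coeff t := by
    intro t
    simp only [gidem, coeff_ofFun]
    congr 1
    by_cases ht : (t : G) ∈ Cen Q
    · rw [subgroupBlockCoeff, subgroupBlockCoeff, dif_pos ht,
        dif_pos (show t ∈ (Cen Q).subgroupOf T from ht), hcdef]
      have h1 := blockCoeff_tblock e.symm f ⟨(t : G), ht⟩
      exact h1
    · rw [subgroupBlockCoeff, subgroupBlockCoeff, dif_neg ht,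
        dif_neg (show t ∉ (Cen Q).subgroupOf T from ht)]
  refine not_dvd_index_sup hM hc (fun x => ext_coeff fun t => ?_) hF (ext_coeff fun t => ?_) hD
  · rw [coeff_cjA, hcoe, hcoe]
    simpa [coeff_cjA] using congrArg (fun z => z.coeff (t : G)) (hfix x x.2)
  · rw [hcoe, ← heq, gidemTop_eq hF, gidem_eq_emb hF, coeff_emb]

end CfsgLib.BrauerPairs
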