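import Cfsg.Agent.Lib.BrauerPairs.Transfer
import Cfsg.Agent.Lib.BrauerPairs.NormalIndex
import Cfsg.Prelude.Def_BlockFusion

/-!
# The fusion system of a block: conjugacy, centralisers and normalisers

* `mem_hom_iff`, `isConj_iff_pair`, `subpair_cjPair_trans`;
* `stab`, `mem_stab_iff`;
* `card_cen_le`, `card_norm_le`;
* `fullyCentralized_iff`, `fullyNormalized_iff`, `fullyCentralized_of_fullyNormalized`;
* `hmax_sup_cen`: the hypothesis of `exists_conj_le` for `S ⊔ C(Q)`;
* `sup_cen_eq_stab`: a fully normalised `Q` with `T/C(Q)` a `p`-group has `T = N_P(Q) C(Q)`.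
-/

set_option autoImplicit false

noncomputable section

namespace CfsgLib.BrauerPairs

open Cfsg CfsgLib.Blocks

universe u

variable {M : Ideal AlgInt} [M.IsMaximal] {G : Type u} [Group G] [Fintype G] {p : ℕ}

omit [Fintype G] in
theorem conjHom_range (Q : Subgroup G) (g : G) :
    (conjHom Q g).range = Q.map (MulAut.conj g).toMonoidHom := by
  rw [conjHom, MonoidHom.range_comp, Subgroup.range_subtype]

omit [Fintype G] in
theorem eq_conjHom {Q : Subgroup G} {φ : Q →* G} {g : G}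
    (h : ∀ u : Q, φ u = g * (u : G) * g⁻¹) : φ = conjHom Q g :=
  MonoidHom.ext fun u => (h u).trans (by simp [conjHom])

/-- Maps of the fusion system of a block. -/
theorem mem_hom_iff (hM : IsPModular p M) {B : Set (IrrCharacter G)} {P : Subgroup G}
    {e : Set (IrrCharacter (Cen P))} {F : FusionSystem P} (hF : IsBlockFusionSystemOn p M B P e F)
    {Q : Subgroup G} {f : Set (IrrCharacter (Cen Q))} (hle : SubpairLE p M Q f P e) (φ : Q →* G) :
    φ ∈ F.Hom Q ↔ ∃ g : G, (∀ u : Q, φ u = g * (u : G) * g⁻¹) ∧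
      Relation.ReflTransGen (NormalSubpairRel p M) (cjPair g ⟨Q, f⟩) ⟨P, e⟩ := by
  rw [hF.2]
  constructor
  · rintro ⟨-, g, hg, -, f', hf', hgf⟩
    rw [subpair_eq hM hF.1.1.1 hf' hle] at hgf
    exact ⟨g, hg, hgf⟩
  · rintro ⟨g, hg, hgf⟩
    exact ⟨subgroup_le (a := ⟨Q, f⟩) (b := ⟨P, e⟩) hle, g, hg,
      subgroup_le (b := ⟨P, e⟩) hgf, f, hle, hgf⟩

theorem isConj_iff_pair (hM : IsPModular p M) {B : Set (IrrCharacter G)} {P : Subgroup G}
    {e : Set (IrrCharacter (Cen P))} {F : FusionSystem P} (hF : IsBlockFusionSystemOn p M B P e F)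
    {Q Q' : Subgroup G} {f : Set (IrrCharacter (Cen Q))} (hle : SubpairLE p M Q f P e) :
    F.IsConj Q Q' ↔ ∃ g : G, Q.map (MulAut.conj g).toMonoidHom = Q' ∧
      Relation.ReflTransGen (NormalSubpairRel p M) (cjPair g ⟨Q, f⟩) ⟨P, e⟩ := by
  constructor
  · rintro ⟨φ, hφ, hr⟩
    obtain ⟨g, hg, hgf⟩ := (mem_hom_iff hM hF hle φ).mp hφ
    rw [eq_conjHom hg, conjHom_range] at hr
    exact ⟨g, hr, hgf⟩
  · rintro ⟨g, hg, hgf⟩
    exact ⟨conjHom Q g, (mem_hom_iff hM hF hle _).mpr ⟨g, fun u => by simp [conjHom], hgf⟩,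
      by rw [conjHom_range, hg]⟩

theorem subpair_cjPair_trans (hM : IsPModular p M) {P Q : Subgroup G}
    {e : Set (IrrCharacter (Cen P))} {f : Set (IrrCharacter (Cen Q))}
    {g : G} (hP : IsBrauerPair p M P e) (hle : SubpairLE p M Q f P e) {h : G}
    {f' : Set (IrrCharacter (Cen (Q.map (MulAut.conj g).toMonoidHom)))}
    (hgf : Relation.ReflTransGen (NormalSubpairRel p M) (cjPair g ⟨Q, f⟩) ⟨P, e⟩)
    (hf' : SubpairLE p M (Q.map (MulAut.conj g).toMonoidHom) f' P e)
    (hhf : Relation.ReflTransGen (NormalSubpairRel p M)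
      (cjPair h ⟨Q.map (MulAut.conj g).toMonoidHom, f'⟩) ⟨P, e⟩) :
    Relation.ReflTransGen (NormalSubpairRel p M) (cjPair (h * g) ⟨Q, f⟩) ⟨P, e⟩ := by
  have h1 : conjBlock Q g f = f' := subpair_eq hM hP hgf hf'
  rw [← cjPair_cjPair h g (isBrauerPair_left (a := ⟨Q, f⟩) hle hP)]
  show Relation.ReflTransGen _ (cjPair h ⟨_, conjBlock Q g f⟩) _
  rw [h1]
  exact hhf

/-- The stabiliser of a pair. -/
def stab (M : Ideal AlgInt) [M.IsMaximal] (Q : Subgroup G) (f : Set (IrrCharacter (Cen Q))) :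
    Subgroup G :=
  Subgroup.normalizer (Q : Set G) ⊓ fixer (gidem M (Cen Q) f)

theorem mem_stab_iff {Q : Subgroup G} {f : Set (IrrCharacter (Cen Q))} (hf : IsPBlock M f) {y : G} :
    y ∈ stab M Q f ↔ y ∈ Subgroup.normalizer (Q : Set G) ∧ StabilizesBlock (Cen Q) f y := by
  rw [stab, Subgroup.mem_inf, stabilizesBlock_iff hf]
  exact ⟨fun h => ⟨h.1, mem_normalizer_centralizer h.1, h.2⟩, fun h => ⟨h.1, h.2.2⟩⟩

theorem cen_le_stab {Q : Subgroup G} (f : Set (IrrCharacter (Cen Q))) : Cen Q ≤ stab M Q f :=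
  fun y hy => ⟨Subgroup.centralizer_le_normalizer _ hy, (centralIn_gidem f).2 y hy⟩

theorem le_stab {Q : Subgroup G} (f : Set (IrrCharacter (Cen Q))) : Q ≤ stab M Q f :=
  fun y hy => ⟨Subgroup.le_normalizer hy, isFixed_self f y hy⟩

theorem norm_le_stab (hM : IsPModular p M) {Q P : Subgroup G} {f : Set (IrrCharacter (Cen Q))}
    {e : Set (IrrCharacter (Cen P))} (hP : IsBrauerPair p M P e) (hle : SubpairLE p M Q f P e) :
    P ⊓ Subgroup.normalizer (Q : Set G) ≤ stab M Q f := fun y hy =>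
  ⟨hy.2, (normal_between hM hP hle (le_inf (subgroup_le hle) Subgroup.le_normalizer) inf_le_left
    inf_le_right).1 y hy⟩

theorem norm_eq_inf_stab (hM : IsPModular p M) {Q P : Subgroup G} {f : Set (IrrCharacter (Cen Q))}
    {e : Set (IrrCharacter (Cen P))} (hP : IsBrauerPair p M P e) (hle : SubpairLE p M Q f P e) :
    P ⊓ stab M Q f = P ⊓ Subgroup.normalizer (Q : Set G) :=
  le_antisymm (inf_le_inf_left _ inf_le_left) (le_inf inf_le_left (norm_le_stab hM hP hle))

theorem map_conj_normalizer {Q : Subgroup G} {g y : G}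
    (hy : y ∈ Subgroup.normalizer ((Q.map (MulAut.conj g).toMonoidHom : Subgroup G) : Set G)) :
    g⁻¹ * y * g ∈ Subgroup.normalizer (Q : Set G) := by
  have h1 := mem_normalizer_iff''.mp hy
  rw [mem_normalizer_iff'']
  intro z
  have h2 := h1 (g * z * g⁻¹)
  simp only [Subgroup.mem_map, MulEquiv.coe_toMonoidHom, MulAut.conj_apply] at h2 ⊢
  constructor
  · intro hz
    obtain ⟨w, hw, he⟩ := h2.mp ⟨z, hz, rfl⟩
    convert hw using 1
    calc (g⁻¹ * y * g)⁻¹ * z * (g⁻¹ * y * g) = g⁻¹ * (y⁻¹ * (g * z * g⁻¹) * y) * g := by group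
      _ = w := by rw [← he]; group
  · intro hz
    obtain ⟨w, hw, he⟩ := h2.mpr ⟨_, hz, by group⟩
    exact (mul_left_cancel (mul_right_cancel he) : w = z) ▸ hw

variable [hp : Fact p.Prime]

/-- Centralisers of the conjugates are bounded by the defect group of `f`. -/
theorem card_cen_le (hM : IsPModular p M) {Q P : Subgroup G} {f : Set (IrrCharacter (Cen Q))}
    {e : Set (IrrCharacter (Cen P))} (hP : IsBrauerPair p M P e) (hf : IsPBlock M f) (g : G)
    (hgf : Relation.ReflTransGen (NormalSubpairRel p M) (cjPair g ⟨Q, f⟩) ⟨P, e⟩)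
    {D : Subgroup (Cen Q)} (hD : IsDefectGroup p M f D) :
    Nat.card (P ⊓ Cen (Q.map (MulAut.conj g).toMonoidHom) : Subgroup G) ≤ Nat.card D := by
  have hgp := isBrauerPair_left hgf hP
  have heq : gidem M (Cen (Q.map (MulAut.conj g).toMonoidHom)) (conjBlock Q g f) =
      cjA g (gidem M (Cen Q) f) := pid_cjPair g ⟨Q, f⟩
  obtain ⟨D', hD', hCD'⟩ := exists_local_defect_ge hM hP hgf
  have h1 : Nat.card (P ⊓ Cen (Q.map (MulAut.conj g).toMonoidHom) : Subgroup G) ≤ Nat.card D' := by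
    rw [← card_subgroupOf' (inf_le_right : P ⊓ Cen (Q.map (MulAut.conj g).toMonoidHom) ≤ _)]
    exact Subgroup.card_le_of_le hCD'
  refine h1.trans (card_defect_conj_le hM g⁻¹ hgp.2 hf ?_ ?_ hD' hD)
  · show _ = cjA g⁻¹ (gidem M _ (conjBlock Q g f))
    rw [heq, cjA_inv_cjA]
  · intro y hy
    rw [inv_inv]
    exact mem_centralizer_map_conj.mp hy

/-- Normalisers of the conjugates are bounded by the defect group of the block of the stabiliser. -/
theorem card_norm_le (hM : IsPModular p M) {Q P : Subgroup G} {f : Set (IrrCharacter (Cen Q))}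
    {e : Set (IrrCharacter (Cen P))} (hP : IsBrauerPair p M P e) (g : G)
    (hgf : Relation.ReflTransGen (NormalSubpairRel p M) (cjPair g ⟨Q, f⟩) ⟨P, e⟩)
    {T : Subgroup G} (hT : stab M Q f ≤ T) {F : Set (IrrCharacter T)} (hF : IsPBlock M F)
    (hgF : gidem M T F = gidem M (Cen Q) f) {D : Subgroup T} (hD : IsDefectGroup p M F D) :
    Nat.card (P ⊓ Subgroup.normalizer
      ((Q.map (MulAut.conj g).toMonoidHom : Subgroup G) : Set G) : Subgroup G) ≤ Nat.card D := by
  set Q' := Q.map (MulAut.conj g).toMonoidHom with hQ'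
  set R := (P ⊓ Subgroup.normalizer (Q' : Set G)).map (MulAut.conj g⁻¹).toMonoidHom with hR
  have hQ'P : Q' ≤ P := subgroup_le (a := cjPair g ⟨Q, f⟩) (b := ⟨P, e⟩) hgf
  have heq : gidem M (Cen Q') (conjBlock Q g f) = cjA g (gidem M (Cen Q) f) := pid_cjPair g ⟨Q, f⟩
  obtain ⟨hfix, hne⟩ := normal_between (Q := Q') (f := conjBlock Q g f) hM hP hgf
    (le_inf hQ'P Subgroup.le_normalizer) inf_le_left inf_le_right
  rw [heq] at hfix hne
  have hc : Nat.card R = Nat.card (P ⊓ Subgroup.normalizer (Q' : Set G) : Subgroup G) :=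
    Subgroup.card_map_of_injective (MulEquiv.injective _)
  rw [← hc]
  refine card_le_defect hM hF ((hP.1.to_le inf_le_left).map _) ?_ ?_ hD
  · rintro _ ⟨y, hy, rfl⟩
    refine hT ⟨?_, ?_⟩
    · show g⁻¹ * y * g⁻¹⁻¹ ∈ _
      rw [inv_inv]
      exact map_conj_normalizer hy.2
    · show cjA (g⁻¹ * y * g⁻¹⁻¹) (gidem M (Cen Q) f) = gidem M (Cen Q) f
      rw [inv_inv, ← cjA_cjA, ← cjA_cjA, hfix y hy, cjA_inv_cjA]
  · intro h0
    rw [hgF] at h0
    apply hne
    have := congrArg (cjA g) h0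
    rw [cjA_br, map_zero, map_conj_map_conj, mul_inv_cancel,
      map_conj_eq_self (Subgroup.one_mem _)] at this
    exact this

/-- Fully centralised means that `C_P(Q)` is a defect group of `f`. -/
theorem fullyCentralized_iff (hM : IsPModular p M) {B : Set (IrrCharacter G)} {P : Subgroup G}
    {e : Set (IrrCharacter (Cen P))} {F : FusionSystem P} (hF : IsBlockFusionSystemOn p M B P e F)
    {Q : Subgroup G} {f : Set (IrrCharacter (Cen Q))} (hle : SubpairLE p M Q f P e) :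
    F.IsFullyCentralized Q ↔ IsDefectGroup p M f ((P ⊓ Cen Q).subgroupOf (Cen Q)) := by
  have hmax := hF.1
  have hf := isBrauerPair_left (a := ⟨Q, f⟩) hle hmax.1.1
  constructor
  · intro hfc
    obtain ⟨D, hD, hCD⟩ := exists_local_defect_ge hM hmax.1.1 hle
    obtain ⟨x, hx, hxD⟩ := exists_conj_local_defect (Q := Q) (f := f) hM hmax
      ((brauerPairOf_iff_of_subpair hM (a := ⟨Q, f⟩) (b := ⟨P, e⟩) hle).mp hmax.1)
    have h1 := hfc.2 _ ((isConj_iff_pair hM hF hle).mpr ⟨x, rfl, hx⟩)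
    have h2 := card_defect_conj_le hM x hf.2 (isBrauerPair_left (a := cjPair x ⟨Q, f⟩) hx hmax.1.1).2
      (pid_cjPair x ⟨Q, f⟩) (fun y hy => mem_centralizer_map_conj.mpr (by simpa [mul_assoc] using hy))
      hD hxD
    replace h2 := h2.trans_eq (card_subgroupOf' inf_le_right)
    have h3 : Nat.card D ≤ Nat.card ((P ⊓ Cen Q).subgroupOf (Cen Q)) := by
      rw [card_subgroupOf' (inf_le_right : P ⊓ Cen Q ≤ Cen Q)]; exact h2.trans h1
    rwa [Subgroup.eq_of_le_of_card_ge hCD h3]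
  · intro hD
    refine ⟨subgroup_le (a := ⟨Q, f⟩) (b := ⟨P, e⟩) hle, fun Q' hQ' => ?_⟩
    obtain ⟨g, rfl, hgf⟩ := (isConj_iff_pair hM hF hle).mp hQ'
    have := card_cen_le hM hmax.1.1 hf.2 g hgf hD
    rwa [card_subgroupOf' (inf_le_right : P ⊓ Cen Q ≤ Cen Q)] at this

/-- Fully normalised means that `N_P(Q)` is a defect group of the block of the stabiliser. -/
theorem fullyNormalized_iff (hM : IsPModular p M) {B : Set (IrrCharacter G)} {P : Subgroup G}
    {e : Set (IrrCharacter (Cen P))} {F : FusionSystem P} (hF : IsBlockFusionSystemOn p M B P e F)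
    {Q : Subgroup G} {f : Set (IrrCharacter (Cen Q))} (hle : SubpairLE p M Q f P e) {T : Subgroup G}
    (hT : ∀ y : G, y ∈ T ↔ y ∈ Subgroup.normalizer (Q : Set G) ∧ StabilizesBlock (Cen Q) f y)
    {F' : Set (IrrCharacter T)} (hF' : IsPBlock M F') (hgF : gidem M T F' = gidem M (Cen Q) f) :
    F.IsFullyNormalized Q ↔
      IsDefectGroup p M F' ((P ⊓ Subgroup.normalizer (Q : Set G)).subgroupOf T) := by
  have hmax := hF.1
  have hf := isBrauerPair_left (a := ⟨Q, f⟩) hle hmax.1.1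
  have hTs : T = stab M Q f := Subgroup.ext fun y => (hT y).trans (mem_stab_iff hf.2).symm
  have hNT : P ⊓ Subgroup.normalizer (Q : Set G) ≤ T := hTs ▸ norm_le_stab hM hmax.1.1 hle
  constructor
  · intro hfn
    obtain ⟨hfix, hne⟩ := normal_between hM hmax.1.1 hle
      (le_inf (subgroup_le (a := ⟨Q, f⟩) (b := ⟨P, e⟩) hle) Subgroup.le_normalizer) inf_le_left
      inf_le_right
    obtain ⟨D, hD, hND⟩ := exists_defect_ge hM hF' (hmax.1.1.1.to_le inf_le_left) hNT
      (by rw [hgF]; exact hne)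
    obtain ⟨x, hx, hxD⟩ := exists_conj_stab_defect (Q := Q) (f := f) hM hmax
      ((brauerPairOf_iff_of_subpair hM (a := ⟨Q, f⟩) (b := ⟨P, e⟩) hle).mp hmax.1)
    have h1 := hfn.2 _ ((isConj_iff_pair hM hF hle).mpr ⟨x, rfl, hx⟩)
    have hxp := isBrauerPair_left (a := cjPair x ⟨Q, f⟩) hx hmax.1.1
    obtain ⟨F'', hF'', hcoe, hxD''⟩ := hxD (stab M _ (conjBlock Q x f))
      (fun y => mem_stab_iff hxp.2)
    have hgF'' : gidem M _ F'' = cjA x (gidem M T F') := by
      rw [hgF, ← pid_cjPair x ⟨Q, f⟩]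
      refine ext_coeff fun y => ?_
      simp only [pid, gidem, coeff_ofFun]
      congr 1
      by_cases hy : y ∈ stab M _ (conjBlock Q x f)
      · exact (dif_pos hy).trans (hcoe ⟨y, hy⟩)
      · rw [subgroupBlockCoeff, dif_neg hy, show subgroupBlockCoeff _ (cjPair x ⟨Q, f⟩).2 y = 0 from
          dif_neg fun h => hy (cen_le_stab _ h)]
    have h2 := card_defect_conj_le hM x hF' hF'' hgF'' (fun y hy => by
      obtain ⟨hyn, hyf⟩ : y ∈ stab M Q f := hTs ▸ hy
      refine ⟨?_, ?_⟩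
      · have h := map_conj_normalizer (Q := Q.map (MulAut.conj x).toMonoidHom) (g := x⁻¹) (y := y)
          (by rwa [map_conj_map_conj, inv_mul_cancel, map_conj_eq_self (Subgroup.one_mem _)])
        rwa [inv_inv] at h
      · show cjA (x * y * x⁻¹) (pid M (cjPair x ⟨Q, f⟩)) = pid M (cjPair x ⟨Q, f⟩)
        rw [pid_cjPair, cjA_cjA, inv_mul_cancel_right, ← cjA_cjA]
        exact congrArg (cjA x) hyf) hD hxD''
    rw [card_subgroupOf' (norm_le_stab hM hmax.1.1 hx)] at h2
    have h3 : Nat.card D ≤ Nat.card ((P ⊓ Subgroup.normalizer (Q : Set G)).subgroupOf T) := by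
      rw [card_subgroupOf' hNT]; exact h2.trans h1
    rwa [Subgroup.eq_of_le_of_card_ge hND h3]
  · intro hD
    refine ⟨subgroup_le (a := ⟨Q, f⟩) (b := ⟨P, e⟩) hle, fun Q' hQ' => ?_⟩
    obtain ⟨g, rfl, hgf⟩ := (isConj_iff_pair hM hF hle).mp hQ'
    have := card_norm_le hM hmax.1.1 g hgf hTs.ge hF' hgF hD
    rwa [card_subgroupOf' hNT] at this

omit [M.IsMaximal] hp in
theorem relIndex_le_of_le {H K L : Subgroup G} (hKL : K ≤ L) : H.relIndex K ≤ H.relIndex L :=
  Subgroup.relIndex_le_of_le_right hKL (by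
    rw [Subgroup.relIndex]; exact Subgroup.index_ne_zero_of_finite)

/-- The hypothesis of `exists_conj_le` for `S ⊔ C(Q)`, when `S ∩ C(Q)` is a defect group of `f`. -/
theorem hmax_sup_cen (hM : IsPModular p M) {Q P S : Subgroup G} {f : Set (IrrCharacter (Cen Q))}
    (hf : IsPBlock M f) (hSP : S ≤ P) (hSN : S ≤ Subgroup.normalizer (Q : Set G))
    {D : Subgroup (Cen Q)} (hD : IsDefectGroup p M f D)
    (hcard : Nat.card D ≤ Nat.card (S ⊓ Cen Q : Subgroup G)) :
    ∀ R : Subgroup G, IsPGroup p R → R ≤ S ⊔ Cen Q → br R (gidem M (Cen Q) f) ≠ 0 →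
      Nat.card R ≤ Nat.card (P ⊓ (S ⊔ Cen Q) : Subgroup G) := by
  intro R hR hRT hne
  refine le_trans ?_ (Subgroup.card_le_of_le (le_inf hSP le_sup_left))
  have h1 : Nat.card (R ⊓ Cen Q : Subgroup G) ≤ Nat.card D :=
    card_le_defect hM hf (hR.to_le inf_le_left) inf_le_right (br_ne_zero_mono inf_le_left hne) hD
  have h2 : (Cen Q).relIndex (S ⊔ Cen Q) = (Cen Q).relIndex S := by
    have hSN' : S ≤ Subgroup.normalizer (Cen Q : Set G) := fun s hs =>
      mem_normalizer_centralizer (hSN hs)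
    have : ((Cen Q).subgroupOf (S ⊔ Cen Q)).Normal :=
      (Subgroup.normal_subgroupOf_iff_le_normalizer le_sup_right).mpr
        (sup_le hSN' Subgroup.le_normalizer)
    rw [Subgroup.relIndex, Subgroup.relIndex, ← Subgroup.relIndex_top_right]
    rw [show (⊤ : Subgroup ↥(S ⊔ Cen Q)) =
        S.subgroupOf (S ⊔ Cen Q) ⊔ (Cen Q).subgroupOf (S ⊔ Cen Q) by
      rw [← Subgroup.subgroupOf_sup le_sup_left le_sup_right, Subgroup.subgroupOf_self],
      Subgroup.relIndex_sup_right]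
    exact Subgroup.relIndex_subgroupOf le_sup_left
  have h3 : ∀ K : Subgroup G, Nat.card K = Nat.card (K ⊓ Cen Q : Subgroup G) * (Cen Q).relIndex K := by
    intro K
    rw [← Subgroup.inf_relIndex_left, Subgroup.relIndex,
      ← card_subgroupOf' (inf_le_left : K ⊓ Cen Q ≤ K)]
    exact (Subgroup.card_mul_index _).symm
  rw [h3 R, h3 S, ← h2]
  exact Nat.mul_le_mul (h1.trans hcard) (relIndex_le_of_le hRT)

/-- Fully normalised implies fully centralised. -/
theorem fullyCentralized_of_fullyNormalized (hM : IsPModular p M) {B : Set (IrrCharacter G)}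
    {P : Subgroup G} {e : Set (IrrCharacter (Cen P))} {F : FusionSystem P}
    (hF : IsBlockFusionSystemOn p M B P e F) {Q : Subgroup G} {f : Set (IrrCharacter (Cen Q))}
    (hle : SubpairLE p M Q f P e) (hfn : F.IsFullyNormalized Q) : F.IsFullyCentralized Q := by
  classical
  have hmax := hF.1
  have hf := isBrauerPair_left (a := ⟨Q, f⟩) hle hmax.1.1
  rw [fullyCentralized_iff hM hF hle]
  set T := stab M Q f with hT
  obtain ⟨F', hF', hgF, -⟩ := exists_stable_block hM hf.1 hf.2 (le_stab f) (cen_le_stab f)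
    inf_le_left (fun y hy => hy.2)
  have hD := (fullyNormalized_iff hM hF hle (fun y => mem_stab_iff hf.2) hF' hgF).mp hfn
  have := Fintype.ofFinite (Cen Q)
  obtain ⟨D₀, hD₀⟩ := exists_isDefectGroup (p := p) hf.2
  set D₁ := D₀.map (Cen Q).subtype with hD₁
  have hD₁C : D₁ ≤ Cen Q := Subgroup.map_subtype_le D₀
  have hD₁p : IsPGroup p D₁ := (IsDefectGroup.isPGroup hD₀).map _
  have hne : br (Q ⊔ D₁) (gidem M (Cen Q) f) ≠ 0 := fun h0 => br_ne_zero_of_defect hf.2 hD₀ <| by
    have h1 : br D₁ (br Q (gidem M (Cen Q) f)) = br D₁ (gidem M (Cen Q) f) := by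
      rw [br_eq_self (fun g hg => (centralIn_gidem f).1 g hg)]
    refine ext_coeff fun g => ?_
    have h2 := congrArg (fun z => z.coeff g) h0
    have h4 : g ∈ Cen Q → g ∈ Cen D₁ → g ∈ Cen (Q ⊔ D₁) := fun hgQ hgD =>
      Subgroup.mem_centralizer_iff.mpr fun y hy =>
        Subgroup.mem_centralizer_singleton_iff.mp ((sup_le
          (fun z hz => Subgroup.mem_centralizer_singleton_iff.mpr
            (Subgroup.mem_centralizer_iff.mp hgQ z hz))
          (fun z hz => Subgroup.mem_centralizer_singleton_iff.mpr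
            (Subgroup.mem_centralizer_iff.mp hgD z hz)) :
            Q ⊔ D₁ ≤ Subgroup.centralizer ({g} : Set G)) hy)
    rw [← h1]
    simp only [coeff_br] at h2 ⊢
    split_ifs with hgD hgQ
    · rwa [if_pos (h4 hgQ hgD)] at h2
    · rfl
    · rfl
  obtain ⟨g, hg⟩ := exists_pair_above hM hf (hf.1.to_sup_of_normal_left' hD₁p
    (hD₁C.trans (Subgroup.centralizer_le_normalizer _))) le_sup_left
    (sup_le Subgroup.le_normalizer (hD₁C.trans (Subgroup.centralizer_le_normalizer _)))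
    (isFixed_iff_le_fixer.mpr (sup_le ((le_stab f).trans inf_le_right)
      (hD₁C.trans ((cen_le_stab f).trans inf_le_right)))) hne
  obtain ⟨t, ht, htP⟩ := exists_conj_le hM hmax.1.1 hle (cen_le_stab f) (le_stab f) inf_le_left
    (fun y hy => hy.2) (fun R hR hRT hne' => by
      rw [norm_eq_inf_stab hM hmax.1.1 hle]
      have := card_le_defect hM hF' hR hRT (by rw [hgF]; exact hne') hD
      rwa [card_subgroupOf' (norm_le_stab hM hmax.1.1 hle)] at this)
    hg (sup_le (le_stab f) (hD₁C.trans (cen_le_stab f)))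
  have hge : D₁.map (MulAut.conj t).toMonoidHom ≤ P ⊓ Cen Q :=
    le_inf ((Subgroup.map_mono le_sup_right).trans
      (subgroup_le (a := cjPair t ⟨Q ⊔ D₁, g⟩) (b := ⟨P, e⟩) htP)) (by
        rintro _ ⟨d, hd, rfl⟩
        exact conj_mem_centralizer ht.1 (hD₁C hd))
  obtain ⟨D, hD', hCD⟩ := exists_local_defect_ge hM hmax.1.1 hle
  have h1 : Nat.card D ≤ Nat.card ((P ⊓ Cen Q).subgroupOf (Cen Q)) := by
    rw [card_subgroupOf' (inf_le_right : P ⊓ Cen Q ≤ Cen Q), card_defectGroup hM hf.2 hD', ← card_defectGroup hM hf.2 hD₀,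
      ← Subgroup.card_map_of_injective (Cen Q).subtype_injective (K := D₀),
      ← Subgroup.card_map_of_injective (f := (MulAut.conj t).toMonoidHom)
        (MulEquiv.injective (MulAut.conj t)) (K := D₀.map (Cen Q).subtype)]
    exact Subgroup.card_le_of_le hge
  rwa [Subgroup.eq_of_le_of_card_ge hCD h1]

/-- A fully normalised `Q` with `T/C(Q)` a `p`-group has `T = N_P(Q) C(Q)`. -/
theorem sup_cen_eq_stab (hM : IsPModular p M) {B : Set (IrrCharacter G)} {P : Subgroup G}
    {e : Set (IrrCharacter (Cen P))} {F : FusionSystem P} (hF : IsBlockFusionSystemOn p M B P e F)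
    {Q : Subgroup G} {f : Set (IrrCharacter (Cen Q))} (hle : SubpairLE p M Q f P e)
    (hfn : F.IsFullyNormalized Q)
    (hpg : ∀ y ∈ stab M Q f, IsPRegular p y → y ∈ Cen Q) :
    stab M Q f ≤ (P ⊓ Subgroup.normalizer (Q : Set G)) ⊔ Cen Q := by
  classical
  have hf := isBrauerPair_left (a := ⟨Q, f⟩) hle hF.1.1.1
  set T := stab M Q f with hT
  obtain ⟨F', hF', hgF, -⟩ := exists_stable_block hM hf.1 hf.2 (le_stab f) (cen_le_stab f)
    inf_le_left (fun y hy => hy.2)
  have hD := (fullyNormalized_iff hM hF hle (fun y => mem_stab_iff hf.2) hF' hgF).mp hfn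
  have h1 := not_dvd_index_stable hM (cen_le_stab f) inf_le_left hf.2 (fun y hy => hy.2) hF' hgF hD
  set K := (Cen Q).subgroupOf T ⊔ (P ⊓ Subgroup.normalizer (Q : Set G)).subgroupOf T with hK
  have hCn : ((Cen Q).subgroupOf T).Normal :=
    (Subgroup.normal_subgroupOf_iff_le_normalizer (cen_le_stab f)).mpr fun t ht =>
      mem_normalizer_centralizer ht.1
  have hpq : IsPGroup p (T ⧸ (Cen Q).subgroupOf T) := by
    intro x
    obtain ⟨t, rfl⟩ := QuotientGroup.mk_surjective x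
    refine ⟨(orderOf (t : G)).factorization p, ?_⟩
    rw [← QuotientGroup.mk_pow, QuotientGroup.eq_one_iff, Subgroup.mem_subgroupOf]
    refine hpg _ (t ^ _).2 ?_
    show ¬ p ∣ orderOf ((t : G) ^ p ^ _)
    rw [orderOf_pow_of_dvd (pow_ne_zero _ hp.out.ne_zero) (Nat.ordProj_dvd _ p)]
    exact Nat.not_dvd_ordCompl hp.out (orderOf_pos _).ne'
  have h2 : K.index ∣ ((Cen Q).subgroupOf T).index := Subgroup.index_dvd_of_le le_sup_left
  obtain ⟨n, hn⟩ := (IsPGroup.iff_card (G := T ⧸ (Cen Q).subgroupOf T)).mp hpq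
  rw [show ((Cen Q).subgroupOf T).index = p ^ n from hn] at h2
  have h3 : K.index = 1 :=
    Nat.Coprime.eq_one_of_dvd (Nat.Coprime.pow_right n (hp.out.coprime_iff_not_dvd.mpr h1).symm) h2
  intro y hy
  have h4 : (⟨y, hy⟩ : T) ∈ K := by rw [Subgroup.index_eq_one.mp h3]; trivial
  rw [hK, ← Subgroup.subgroupOf_sup (cen_le_stab f) (norm_le_stab hM hF.1.1.1 hle),
    Subgroup.mem_subgroupOf, sup_comm] at h4
  exact h4

end CfsgLib.BrauerPairs
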