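import Cfsg.Agent.Lib.BrauerPairs.Cover
import Cfsg.Agent.Lib.BrauerPairs.Correspondence
import Cfsg.Agent.Lib.BrauerPairs.Principal
import Cfsg.Prelude.Def_BlockLocal

/-!
# The theorem of Harris and Knörr

* `induced_iff_br_occurs`: induction from `H` between `C(Q)` and `N(Q)` read on the idempotents;
* `br_defect_idem`: the Brauer image of a block at its defect group is its correspondent;
* `covers_inclusion_iff`: covering inside `H`;
* `hk_forward`, `hk_backward`: the two halves of the correspondence.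
-/

set_option autoImplicit false

noncomputable section

namespace CfsgLib.BrauerPairs

open Cfsg CfsgLib.Blocks CfsgLib.CharNormal

universe u

variable {M : Ideal AlgInt} [M.IsMaximal] {G : Type u} [Group G] [Fintype G] {p : ℕ}

/-- `c` induces `B` iff it occurs in the Brauer image of `B`. -/
theorem induced_iff_br_occurs (hM : IsPModular p M) {Q H : Subgroup G} [Fintype H]
    (hQ : IsPGroup p Q) (hQH : Q ≤ H) (hCH : Cen Q ≤ H)
    (hHN : H ≤ Subgroup.normalizer (Q : Set G)) {c : Set (IrrCharacter H)} (hc : IsPBlock M c)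
    {B : Set (IrrCharacter G)} (hB : IsPBlock M B) :
    IsInducedBlock M H c B ↔ br Q (gidemTop M B) * gidem M H c = gidem M H c := by
  classical
  obtain ⟨ξ, hξ⟩ := IsPBlock.nonempty hc
  obtain ⟨B', hB'⟩ := exists_inducedBlock (H := H) hM hQ hQH hCH hHN hc
  obtain ⟨-, hB'b, hind⟩ := (isInducedBlock_iff _).mp hB'
  obtain ⟨χ', hχ'⟩ := IsPBlock.nonempty hB'b
  set t := truncC Q hHN (resIn H (idem hB)) with ht
  have hid : red (t * t) = red t := by
    rw [ht, ← red_truncC_mul hM hQ hCH hHN, idem_mul_self]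
  have hemb : emb H (red t) = br Q (gidemTop M B) := by
    refine ext_coeff fun g => ?_
    rw [coeff_br, gidemTop_eq hB]
    by_cases hg : g ∈ H
    · rw [show (emb H (red t)).coeff g = _ from coeff_emb H (red t) ⟨g, hg⟩, coeff_red, ht,
        rcoeff_truncC, rcoeff_resIn]
      rfl
    · rw [coeff_emb_of_notMem H _ hg, if_neg fun h => hg (hCH h)]
  have key : br Q (gidemTop M B) * gidem M H c = gidem M H c ↔ red t * ridem hc = ridem hc := by
    rw [← hemb, gidem_eq_emb hc, ← map_mul]
    exact (emb_injective H).eq_iff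
  rw [key, ← bomega_eq_one_iff hid hc hξ, ht, bomega_truncC hM hQ hQH hHN, ← indBomega_apply,
    hind ξ hξ χ' hχ' (idem hB), bomega_idem]
  constructor
  · intro h
    obtain rfl : B = B' := inducedBlock_unique H h hB'
    exact if_pos hχ'
  · intro h
    split_ifs at h with hmem
    · obtain rfl : B = B' := isPBlock_eq_of_mem hB hB'b hmem hχ'
      exact hB'
    · exact absurd h zero_ne_one

/-- The Brauer image of a block at a defect group is the block of the normaliser inducing it. -/
theorem br_defect_idem [Fact p.Prime] (hM : IsPModular p M) {P : Subgroup G}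
    [Fintype ↥(Subgroup.normalizer (P : Set G))] {B : Set (IrrCharacter G)}
    (hD : IsDefectGroup p M B P) {b : Set (IrrCharacter ↥(Subgroup.normalizer (P : Set G)))}
    (hb : IsInducedBlock M (Subgroup.normalizer (P : Set G)) b B) :
    br P (gidemTop M B) = gidem M (Subgroup.normalizer (P : Set G)) b := by
  classical
  have hB := hb.2.1
  have hP := IsDefectGroup.isPGroup hD
  have hPN : P ≤ (Subgroup.normalizer (P : Set G)) := Subgroup.le_normalizer
  have : (P.subgroupOf (Subgroup.normalizer (P : Set G))).Normal := (Subgroup.normal_subgroupOf_iff_le_normalizer hPN).mpr le_rfl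
  have hP' : IsPGroup p (P.subgroupOf (Subgroup.normalizer (P : Set G))) :=
    hP.of_equiv (Subgroup.subgroupOfEquivOfLe hPN).symm
  have hdef : ∀ i : Set (IrrCharacter (Subgroup.normalizer (P : Set G))), IsInducedBlock M (Subgroup.normalizer (P : Set G)) i B →
      IsDefectGroup p M i (P.subgroupOf (Subgroup.normalizer (P : Set G))) := by
    intro i hi
    obtain ⟨F, hF⟩ := exists_isDefectGroup (p := p) hi.1
    obtain ⟨x, hx⟩ := defect_le_of_induced hM hi hF hD
    have h1 := card_le_of_cj_le hx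
    rw [Subgroup.card_map_of_injective (Subgroup.normalizer (P : Set G)).subtype_injective, ← card_subgroupOf' hPN] at h1
    rwa [Subgroup.eq_of_le_of_card_ge (normal_le_defect hM hi.1 hF hP') h1]
  refine eq_of_occurs_iff (H := (Subgroup.normalizer (P : Set G))) ⟨fun g hg => ?_, (isFixed_gidemTop (Subgroup.normalizer (P : Set G)) B).br le_rfl⟩
    (centralIn_gidem b) (br_top_idem hM hB hP) (gidem_mul_self hb.1) fun i => ?_
  · rw [coeff_br, if_neg fun h => hg (Subgroup.centralizer_le_normalizer _ h)]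
  · rw [← induced_iff_br_occurs hM hP hPN (Subgroup.centralizer_le_normalizer _) le_rfl i.2 hB]
    constructor
    · intro hi
      have heq : i.1 = b := (existsUnique_inducing_with_defect hM hP hB hD).unique
        ⟨i.2, hdef _ hi, hi⟩ ⟨hb.1, hdef _ hb, hb⟩
      rw [heq, gidem_mul_self hb.1]
    · intro hi
      have heq : b = i.1 := by
        by_contra hne
        exact gidem_ne_zero i.2 (hi.symm.trans (gidem_mul_of_ne hb.1 i.2 hne))
      exact heq ▸ hb

/-- Induction inside `N` read as induction to the group `N`. -/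
theorem exists_inducedIn_down {N L : Subgroup G} [Fintype N] [Fintype L] {L' : Subgroup N}
    [Fintype L'] (hL : L'.map N.subtype = L) {e : Set (IrrCharacter L)}
    {d : Set (IrrCharacter N)} (h : IsInducedBlockIn M N L e d) :
    ∃ e' : Set (IrrCharacter L'), IsInducedBlock M L' e' d ∧
      gidem M L e = emb N (gidem M L' e') := by
  classical
  let ι : L' ≃* L :=
    (L'.equivMapOfInjective N.subtype N.subtype_injective).trans (MulEquiv.subgroupCongr hL)
  have hcoe : ∀ k : L', ((ι k : L) : G) = ((k : N) : G) := fun k => rfl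
  obtain ⟨he, hd, hind⟩ := h
  refine ⟨tblock ι.symm e, ⟨isPBlock_tblock ι.symm he, hd, fun ξ hξ χ hχ a => ?_⟩,
    gidem_of_coeff _ _ hL _ _ fun k hk => ?_⟩
  · have h2 : inducedCentralChar L' (ξ : L' → ℂ) a =
        inducedCentralCharIn N L (tirr ι.symm.symm ξ : L → ℂ) (a : G) := by
      rw [inducedCentralChar, inducedCentralCharIn]
      refine finsum_mem_eq_of_bijOn ι ⟨fun k hk => ?_, ι.injective.injOn, fun k hk => ?_⟩
        fun k _ => ?_
      · obtain ⟨w, hw⟩ := isConj_iff.mp (IsConj.symm hk)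
        exact ⟨w, by rw [hcoe, ← hw]; rfl⟩
      · obtain ⟨w, hw⟩ := hk
        refine ⟨ι.symm k, IsConj.symm (isConj_iff.mpr ⟨w, Subtype.ext ?_⟩), ι.apply_symm_apply k⟩
        show (w : G) * ((ι.symm k : N) : G) * (w : G)⁻¹ = (a : G)
        rw [← hcoe, ι.apply_symm_apply, hw]
      · show (ξ : L' → ℂ) k / (ξ : L' → ℂ) 1 =
          (ξ : L' → ℂ) (ι.symm (ι k)) / (ξ : L' → ℂ) (ι.symm 1)
        rw [ι.symm_apply_apply, map_one]
    rw [h2]
    exact hind _ ((mem_tblock ι.symm).mp hξ) χ hχ a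
  · show blockCoeff e ⟨((k : N) : G), hk⟩ = blockCoeff (tblock ι.symm e) k
    conv_rhs => rw [show k = ι.symm ⟨((k : N) : G), hk⟩ from (ι.eq_symm_apply).mpr (Subtype.ext rfl)]
    rw [blockCoeff_tblock]

/-- The Brauer image of the idempotent of a block of `N` at its defect group. -/
theorem br_gidem_normal [Fact p.Prime] (hM : IsPModular p M) {N : Subgroup G} [Fintype N]
    {Q : Subgroup G} [Fintype ↥(Subgroup.normalizer (Q : Set G) ⊓ N)] (hQN : Q ≤ N)
    {d : Set (IrrCharacter N)} (hdQ : IsDefectGroup p M d (Q.subgroupOf N))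
    {e : Set (IrrCharacter ↥(Subgroup.normalizer (Q : Set G) ⊓ N))}
    (hed : IsInducedBlockIn M N (Subgroup.normalizer (Q : Set G) ⊓ N) e d) :
    br Q (gidem M N d) = gidem M (Subgroup.normalizer (Q : Set G) ⊓ N) e := by
  classical
  have hd := hed.2.1
  set L' := Subgroup.normalizer ((Q.subgroupOf N : Subgroup N) : Set N) with hL'
  have := Fintype.ofFinite L'
  have hmQ : (Q.subgroupOf N).map N.subtype = Q := Subgroup.map_subgroupOf_eq_of_le hQN
  have hL : L'.map N.subtype = Subgroup.normalizer (Q : Set G) ⊓ N := by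
    ext g
    constructor
    · rintro ⟨x, hx, rfl⟩
      refine ⟨Subgroup.mem_set_normalizer_iff.mpr fun q => ⟨fun hq => ?_, fun hq => ?_⟩, x.2⟩
      · exact ((Subgroup.mem_set_normalizer_iff.mp hx) ⟨q, hQN hq⟩).mp hq
      · have hqN : q ∈ N := by
          have h1 := N.mul_mem (N.mul_mem (N.inv_mem x.2) (hQN hq)) x.2
          simpa [mul_assoc] using h1
        exact ((Subgroup.mem_set_normalizer_iff.mp hx) ⟨q, hqN⟩).mpr hq
    · rintro ⟨hg, hgN⟩
      exact ⟨⟨g, hgN⟩, Subgroup.mem_set_normalizer_iff.mpr fun q =>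
        (Subgroup.mem_set_normalizer_iff.mp hg) (q : G), rfl⟩
  have hcen : ∀ z : N, z ∈ Cen (Q.subgroupOf N) ↔ (z : G) ∈ Cen Q := fun z =>
    ⟨fun h => Subgroup.mem_centralizer_iff.mpr fun q hq =>
        congrArg Subtype.val (Subgroup.mem_centralizer_iff.mp h ⟨q, hQN hq⟩ hq),
      fun h => Subgroup.mem_centralizer_iff.mpr fun q hq =>
        Subtype.ext (Subgroup.mem_centralizer_iff.mp h (q : G) hq)⟩
  obtain ⟨e', he', hge⟩ := exists_inducedIn_down (M := M) hL hed
  rw [hge, ← br_defect_idem hM hdQ he', emb_br hcen, gidemTop_eq hd, ← gidem_eq_emb hd]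

/-- Covering inside `H`, through the idempotents in the ambient group algebra. -/
theorem covers_inclusion_iff {H K : Subgroup G} [Fintype H] [Fintype K] (hKH : K ≤ H)
    [(K.subgroupOf H).Normal] {c : Set (IrrCharacter H)} (hc : IsPBlock M c)
    {e : Set (IrrCharacter K)} (he : IsPBlock M e) :
    (∃ ψ ∈ c, ∃ ξ ∈ e, classInner (fun l : K => (ψ : H → ℂ) (Subgroup.inclusion hKH l))
        (ξ : K → ℂ) ≠ 0) ↔
      gidem M H c * gidem M K e ≠ 0 := by
  classical
  have := Fintype.ofFinite (K.subgroupOf H)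
  let ι : K.subgroupOf H ≃* K := Subgroup.subgroupOfEquivOfLe hKH
  have hge : gidem M K e = emb H (gidem M (K.subgroupOf H) (tblock ι.symm e)) :=
    gidem_of_coeff _ _ (Subgroup.map_subgroupOf_eq_of_le hKH) _ _ fun k hk => by
      show blockCoeff e ⟨((k : H) : G), hk⟩ = blockCoeff (tblock ι.symm e) k
      conv_rhs => rw [show k = ι.symm ⟨((k : H) : G), hk⟩ from (ι.eq_symm_apply).mpr (Subtype.ext rfl)]
      rw [blockCoeff_tblock]
  have hinner : ∀ (ψ : H → ℂ) (ξ : K → ℂ),
      classInner (fun n : K.subgroupOf H => ψ n) (ξ ∘ ι) =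
        classInner (fun l : K => ψ (Subgroup.inclusion hKH l)) ξ := by
    intro ψ ξ
    rw [classInner, classInner, Nat.card_congr ι.toEquiv]
    congr 1
    exact Fintype.sum_equiv ι.toEquiv _ _ fun n => rfl
  rw [gidem_eq_emb hc, hge, ← map_mul, (map_ne_zero_iff _ (emb_injective H)),
    ← gidemTop_eq hc, ← covers_iff hc (isPBlock_tblock ι.symm he)]
  constructor
  · rintro ⟨ψ, hψ, ξ, hξ, h⟩
    refine ⟨ψ, hψ, tirr ι.symm ξ, ⟨ξ, hξ, funext fun l => congrArg (ξ : K → ℂ) (ι.apply_symm_apply l)⟩, ?_⟩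
    show classInner (fun n : K.subgroupOf H => (ψ : H → ℂ) n) ((ξ : K → ℂ) ∘ ι) ≠ 0
    rwa [hinner]
  · rintro ⟨ψ, hψ, θ, hθ, h⟩
    refine ⟨ψ, hψ, tirr ι.symm.symm θ, (mem_tblock ι.symm).mp hθ, ?_⟩
    rw [← hinner]
    convert h using 2
    funext n
    exact congrArg (θ : K.subgroupOf H → ℂ) (ι.symm_apply_apply n)

/-- Multiplication from the two sides inside `H` agrees for the Brauer image. -/
theorem br_mul_comm_gidem {Q : Subgroup G} {c : Set (IrrCharacter ↥(Subgroup.normalizer (Q : Set G)))}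
    (B : Set (IrrCharacter G)) :
    gidem M (Subgroup.normalizer (Q : Set G)) c * br Q (gidemTop M B) =
      br Q (gidemTop M B) * gidem M (Subgroup.normalizer (Q : Set G)) c :=
  (centralIn_gidem c).commute_of_supp fun g hg => by
    rw [coeff_br, if_neg fun h => hg (Subgroup.centralizer_le_normalizer _ h)]

section main

variable {N : Subgroup G} [N.Normal] [Fintype N] {Q : Subgroup G}

/-- A `p`-group surviving in a covering block meets `N` in the defect group of the covered block. -/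
theorem inf_eq_of_br_ne_zero [Fact p.Prime] (hM : IsPModular p M) (hQN : Q ≤ N)
    {d : Set (IrrCharacter N)} (hd : IsPBlock M d) (hdQ : IsDefectGroup p M d (Q.subgroupOf N))
    {B : Set (IrrCharacter G)} (hB : IsPBlock M B) (hne : gidemTop M B * gidem M N d ≠ 0)
    {D : Subgroup G} (hD : IsPGroup p D) (hQD : Q ≤ D) (hbr : br D (gidemTop M B) ≠ 0) :
    D ⊓ N = Q := by
  obtain ⟨j, hj, -, -, hbj⟩ := exists_covered_stable hM hB hd hne hD hbr
  obtain ⟨x, hx⟩ := mem_orbN.mp hj
  obtain ⟨E, hE, hle⟩ := exists_defect_ge hM j.2 (hD.to_le (inf_le_left : D ⊓ N ≤ D)) inf_le_right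
    (br_ne_zero_mono inf_le_left hbj)
  have h1 := Subgroup.card_le_of_le hle
  rw [card_subgroupOf' (inf_le_right : D ⊓ N ≤ N)] at h1
  have h2 := card_defect_conj_le hM x⁻¹ j.2 hd
    (by rw [← hx, gidem_conjN, cjA_inv_cjA])
    (fun y hy => Subgroup.Normal.conj_mem inferInstance y hy _) hE hdQ
  rw [card_subgroupOf' hQN] at h2
  exact (Subgroup.eq_of_le_of_card_ge (le_inf hQD hQN) (h1.trans h2)).symm

variable [Fintype ↥(Subgroup.normalizer (Q : Set G) ⊓ N)] {d : Set (IrrCharacter N)}
  {e : Set (IrrCharacter ↥(Subgroup.normalizer (Q : Set G) ⊓ N))}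

/-- A block of `N(Q)` covering the correspondent induces exactly one block, which covers `d`. -/
theorem hk_forward [Fact p.Prime] [Fintype ↥(Subgroup.normalizer (Q : Set G))]
    (hM : IsPModular p M) (hQ : IsPGroup p Q) (hQN : Q ≤ N)
    (hdQ : IsDefectGroup p M d (Q.subgroupOf N))
    (hed : IsInducedBlockIn M N (Subgroup.normalizer (Q : Set G) ⊓ N) e d)
    {c : Set (IrrCharacter ↥(Subgroup.normalizer (Q : Set G)))} (hc : IsPBlock M c)
    (hne : gidem M (Subgroup.normalizer (Q : Set G)) c *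
      gidem M (Subgroup.normalizer (Q : Set G) ⊓ N) e ≠ 0) :
    ∃ B : Set (IrrCharacter G), IsInducedBlock M (Subgroup.normalizer (Q : Set G)) c B ∧
      gidemTop M B * gidem M N d ≠ 0 := by
  obtain ⟨B, hB⟩ := exists_inducedBlock (H := Subgroup.normalizer (Q : Set G)) hM hQ
    Subgroup.le_normalizer (Subgroup.centralizer_le_normalizer _) le_rfl hc
  refine ⟨B, hB, fun h0 => hne ?_⟩
  have h1 := (induced_iff_br_occurs hM hQ Subgroup.le_normalizer
    (Subgroup.centralizer_le_normalizer _) le_rfl hc hB.2.1).mp hB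
  rw [← h1, ← br_mul_comm_gidem, mul_assoc, ← br_gidem_normal hM hQN hdQ hed,
    ← br_mul hM hQ (isFixed_gidemTop Q B) ((centralIn_gidem d).2.mono hQN), h0, br_zero, mul_zero]

/-- A block covering `d` is induced by a block of `N(Q)` covering the correspondent. -/
theorem hk_backward_exists [Fact p.Prime] [Fintype ↥(Subgroup.normalizer (Q : Set G))]
    (hM : IsPModular p M) (hQ : IsPGroup p Q) (hQN : Q ≤ N)
    (hdQ : IsDefectGroup p M d (Q.subgroupOf N))
    (hed : IsInducedBlockIn M N (Subgroup.normalizer (Q : Set G) ⊓ N) e d)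
    {B : Set (IrrCharacter G)} (hB : IsPBlock M B) (hne : gidemTop M B * gidem M N d ≠ 0) :
    ∃ c : Set (IrrCharacter ↥(Subgroup.normalizer (Q : Set G))),
      IsInducedBlock M (Subgroup.normalizer (Q : Set G)) c B ∧
        gidem M (Subgroup.normalizer (Q : Set G)) c *
          gidem M (Subgroup.normalizer (Q : Set G) ⊓ N) e ≠ 0 := by
  classical
  have hd := hed.2.1
  set x := br Q (gidemTop M B) with hx
  have hxc : CentralIn (Subgroup.normalizer (Q : Set G)) x :=
    ⟨fun g hg => by rw [hx, coeff_br, if_neg fun h => hg (Subgroup.centralizer_le_normalizer _ h)],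
      (isFixed_gidemTop (Subgroup.normalizer (Q : Set G)) B).br le_rfl⟩
  -- `B` survives at `Q` next to `e`
  have hbr : x ≠ 0 := by
    have h := br_ne_zero_of_cover hM hB hd hne hdQ
    rwa [Subgroup.map_subgroupOf_eq_of_le hQN] at h
  obtain ⟨χ, hχ, θ, hθ, hover⟩ := (covers_iff hB hd).mpr hne
  have hσ := mul_sigN_eq hB hχ hover (i := ⟨d, hd⟩) hθ
  have hxe : x * gidem M ((Subgroup.normalizer (Q : Set G)) ⊓ N) e ≠ 0 := by
    intro h0
    apply hbr
    rw [hx, ← hσ, sigN, Finset.mul_sum, br_sum]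
    refine Finset.sum_eq_zero fun j hj => ?_
    rw [br_mul hM hQ (isFixed_gidemTop Q B) ((centralIn_gidem j.1).2.mono hQN), ← hx]
    by_cases hj0 : br Q (gidem M N j.1) = 0
    · rw [hj0, mul_zero]
    obtain ⟨y, rfl⟩ := mem_orbN.mp hj
    rw [gidem_conjN] at hj0 ⊢
    -- `Q` is conjugate inside `N` to `y⁻¹ Q y`
    set R := Q.map (MulAut.conj y⁻¹).toMonoidHom with hR
    have hRN : R ≤ N := by
      rintro _ ⟨q, hq, rfl⟩
      exact Subgroup.Normal.conj_mem inferInstance q (hQN hq) _
    have hbR : br R (gidem M N d) ≠ 0 := fun h => hj0 (by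
      have h1 := congrArg (cjA y) h
      rwa [cjA_br, map_zero, hR, map_conj_map_conj, mul_inv_cancel,
        map_conj_eq_self (Subgroup.one_mem _)] at h1)
    obtain ⟨E, hE, hRE⟩ := exists_defect_ge hM hd (hQ.map _) hRN hbR
    obtain ⟨n, hn⟩ := defectGroups_conj hM hd hE hdQ
    have hnR : R.map (MulAut.conj (n : G)).toMonoidHom ≤ Q := by
      rintro _ ⟨r, hr, rfl⟩
      have h1 : n * ⟨r, hRN hr⟩ * n⁻¹ ∈ Q.subgroupOf N :=
        hn ▸ ⟨⟨r, hRN hr⟩, hRE hr, rfl⟩
      exact h1
    have hnyQ : Q.map (MulAut.conj ((n : G) * y⁻¹)).toMonoidHom = Q := by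
      rw [hR, map_conj_map_conj] at hnR
      exact Subgroup.eq_of_le_of_card_ge hnR
        (Subgroup.card_map_of_injective (MulEquiv.injective _)).ge
    have hh : (n : G) * y⁻¹ ∈ (Subgroup.normalizer (Q : Set G)) := Subgroup.mem_normalizer_iff_map_conj_eq.mpr hnyQ
    set h := (n : G) * y⁻¹ with hhdef
    have hy : y = h⁻¹ * (n : G) := by rw [hhdef]; group
    rw [hy, ← cjA_cjA, (centralIn_gidem d).2 (n : G) n.2]
    rw [← map_conj_eq_self (P := Q) (n := h⁻¹) (inv_mem hh), ← cjA_br,
      br_gidem_normal hM hQN hdQ hed, ← hxc.2 h⁻¹ (inv_mem hh), ← map_mul, h0, map_zero]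
  -- decompose along the blocks of `(Subgroup.normalizer (Q : Set G))`
  have := Fintype.ofFinite (Blk M (Subgroup.normalizer (Q : Set G)))
  obtain ⟨i, hi⟩ : ∃ i : Blk M (Subgroup.normalizer (Q : Set G)), x * gidem M (Subgroup.normalizer (Q : Set G)) i.1 * gidem M ((Subgroup.normalizer (Q : Set G)) ⊓ N) e ≠ 0 := by
    by_contra hcon
    push Not at hcon
    apply hxe
    rw [← mul_one x, ← sum_gidem (M := M) (Subgroup.normalizer (Q : Set G)), Finset.mul_sum, Finset.sum_mul]
    exact Finset.sum_eq_zero fun i _ => hcon i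
  rcases occurs_cases hxc (br_top_idem hM hB hQ) i.2 with h | h
  · refine ⟨i.1, (induced_iff_br_occurs hM hQ Subgroup.le_normalizer
      (Subgroup.centralizer_le_normalizer _) le_rfl i.2 hB).mpr h, ?_⟩
    rwa [h] at hi
  · exact absurd (by rw [h, zero_mul]) hi

omit [Fintype ↥(Subgroup.normalizer (Q : Set G) ⊓ N)] in
/-- A defect pair of a block of `N(Q)` inducing `B` is a maximal pair of `B`. -/
theorem exists_maximal_pair_up [Fact p.Prime] [Fintype ↥(Subgroup.normalizer (Q : Set G))]
    (hM : IsPModular p M) (hQ : IsPGroup p Q) (hQN : Q ≤ N)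
    (hd : IsPBlock M d) (hdQ : IsDefectGroup p M d (Q.subgroupOf N))
    {B : Set (IrrCharacter G)} (hne : gidemTop M B * gidem M N d ≠ 0)
    {c : Set (IrrCharacter ↥(Subgroup.normalizer (Q : Set G)))}
    (hc : IsInducedBlock M (Subgroup.normalizer (Q : Set G)) c B) :
    ∃ (D : Subgroup G) (g : Set (IrrCharacter (Cen D))), D ⊓ N = Q ∧
      D ≤ Subgroup.normalizer (Q : Set G) ∧ IsMaximalBrauerPair p M B D g ∧
      br D (gidem M (Subgroup.normalizer (Q : Set G)) c) * gidem M (Cen D) g =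
        gidem M (Cen D) g := by
  classical
  have hB := hc.2.1
  obtain ⟨D₀, hD₀⟩ := exists_isDefectGroup (p := p) hc.1
  obtain ⟨D, hDH, rfl⟩ : ∃ D : Subgroup G, D ≤ Subgroup.normalizer (Q : Set G) ∧
      D.subgroupOf (Subgroup.normalizer (Q : Set G)) = D₀ :=
    ⟨D₀.map (Subgroup.normalizer (Q : Set G)).subtype, Subgroup.map_subtype_le D₀,
      Subgroup.comap_map_eq_self_of_injective (Subgroup.subtype_injective _) D₀⟩
  have hDp : IsPGroup p D :=
    (IsDefectGroup.isPGroup hD₀).of_equiv (Subgroup.subgroupOfEquivOfLe hDH)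
  have hQH : Q ≤ (Subgroup.normalizer (Q : Set G)) := Subgroup.le_normalizer
  have : (Q.subgroupOf (Subgroup.normalizer (Q : Set G))).Normal := (Subgroup.normal_subgroupOf_iff_le_normalizer hQH).mpr le_rfl
  have hQD : Q ≤ D := fun q hq =>
    Subgroup.mem_subgroupOf.mp (normal_le_defect hM hc.1 hD₀
      (hQ.of_equiv (Subgroup.subgroupOfEquivOfLe hQH).symm)
      (show (⟨q, hQH hq⟩ : ↥(Subgroup.normalizer (Q : Set G))) ∈
        Q.subgroupOf (Subgroup.normalizer (Q : Set G)) from hq))
  have hCH : Cen D ≤ (Subgroup.normalizer (Q : Set G)) := (centralizer_anti hQD).trans (Subgroup.centralizer_le_normalizer _)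
  have hmD : (D.subgroupOf (Subgroup.normalizer (Q : Set G))).map (Subgroup.normalizer (Q : Set G)).subtype = D := Subgroup.map_subgroupOf_eq_of_le hDH
  have hC : (Cen (D.subgroupOf (Subgroup.normalizer (Q : Set G)))).map (Subgroup.normalizer (Q : Set G)).subtype = Cen D := by
    rw [map_cen_subtype _ (by rw [hmD]; exact hCH), hmD]
  obtain ⟨g', hg'⟩ := exists_maximal_at hM hc.1 hD₀
  obtain ⟨g, hg, hu⟩ := exists_up (M := M) (a := ⟨D.subgroupOf (Subgroup.normalizer (Q : Set G)), g'⟩) ‹Fact p.Prime› hC hg'.1.1.2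
  have hgp : IsBrauerPair p M D g := ⟨hDp, hg⟩
  -- the pair sees `c`
  have hocc : br D (gidem M (Subgroup.normalizer (Q : Set G)) c) * gidem M (Cen D) g = gidem M (Cen D) g := by
    rw [show gidem M (Cen D) g = emb (Subgroup.normalizer (Q : Set G)) (gidem M (Cen (D.subgroupOf (Subgroup.normalizer (Q : Set G)))) g') from hu.pid_eq,
      gidem_eq_emb hc.1, ← emb_br (fun z => cen_iff_map hC z), ← map_mul, ← gidemTop_eq hc.1,
      ((brauerPairOf_iff hM).mp hg'.1).2.2]
  have hxfix : IsFixed D (br Q (gidemTop M B)) := (isFixed_gidemTop D B).br hDH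
  have h2 : br D (gidemTop M B) * gidem M (Cen D) g = gidem M (Cen D) g := by
    have h1 := congrArg (br D) ((induced_iff_br_occurs hM hQ hQH
      (Subgroup.centralizer_le_normalizer _) le_rfl hc.1 hB).mp hc)
    rw [br_mul hM hDp hxfix ((centralIn_gidem c).2.mono hDH), br_br hQD] at h1
    rw [← hocc, ← mul_assoc, h1]
  have hBg : IsBrauerPairOf p M B D g := (brauerPairOf_iff hM).mpr ⟨hgp, hB, h2⟩
  have hDN : D ⊓ N = Q := inf_eq_of_br_ne_zero hM hQN hd hdQ hB hne hDp hQD fun h0 =>
    gidem_ne_zero hg (by rw [← h2, h0, zero_mul])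
  have hNH : Subgroup.normalizer (D : Set G) ≤ (Subgroup.normalizer (Q : Set G)) := fun y hy => by
    refine Subgroup.mem_normalizer_iff_map_conj_eq.mpr ?_
    have h1 := Subgroup.map_inf D N (MulAut.conj y).toMonoidHom (MulEquiv.injective _)
    rw [show D.map (MulAut.conj y).toMonoidHom = D from map_conj_eq_self hy,
      map_conj_eq_self (P := N) (Subgroup.le_normalizer_of_normal (Subgroup.mem_top y)), hDN] at h1
    exact h1
  exact ⟨D, g, hDN, hDH, (maximal_iff_over hNH hM hu hBg hg'.1).mpr hg', hocc⟩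

omit [Fintype ↥(Subgroup.normalizer (Q : Set G) ⊓ N)] in
/-- At most one block of `N(Q)` induces a block covering `d`. -/
theorem hk_unique [Fact p.Prime] [Fintype ↥(Subgroup.normalizer (Q : Set G))]
    (hM : IsPModular p M) (hQ : IsPGroup p Q) (hQN : Q ≤ N)
    (hd : IsPBlock M d) (hdQ : IsDefectGroup p M d (Q.subgroupOf N))
    {B : Set (IrrCharacter G)} (hne : gidemTop M B * gidem M N d ≠ 0)
    {c c₂ : Set (IrrCharacter ↥(Subgroup.normalizer (Q : Set G)))}
    (hc : IsInducedBlock M (Subgroup.normalizer (Q : Set G)) c B)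
    (hc₂ : IsInducedBlock M (Subgroup.normalizer (Q : Set G)) c₂ B) : c = c₂ := by
  classical
  obtain ⟨D, g, hDN, hDH, hmax, hocc⟩ := exists_maximal_pair_up hM hQ hQN hd hdQ hne hc
  obtain ⟨D₂, g₂, hDN₂, hDH₂, hmax₂, hocc₂⟩ := exists_maximal_pair_up hM hQ hQN hd hdQ hne hc₂
  obtain ⟨x, hx⟩ := exists_conj_le_maximal hM (a := ⟨D₂, g₂⟩) (b := ⟨D, g⟩) hmax hmax₂.1
  have hmap : D₂.map (MulAut.conj x).toMonoidHom = D := by
    refine Subgroup.eq_of_le_of_card_ge (subgroup_le hx) (le_of_eq ?_)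
    rw [Subgroup.card_map_of_injective (MulEquiv.injective _),
      card_defectGroup hM hc.2.1 (isDefectGroup_of_maximal hM hmax),
      card_defectGroup hM hc.2.1 (isDefectGroup_of_maximal hM hmax₂)]
  have hxH : x ∈ (Subgroup.normalizer (Q : Set G)) := by
    refine Subgroup.mem_normalizer_iff_map_conj_eq.mpr ?_
    have h1 := Subgroup.map_inf D₂ N (MulAut.conj x).toMonoidHom (MulEquiv.injective _)
    rw [hmap, map_conj_eq_self (P := N) (Subgroup.le_normalizer_of_normal (Subgroup.mem_top x)),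
      hDN₂, hDN] at h1
    exact h1
  have hpair : cjPair x (⟨D₂, g₂⟩ : BrauerPairIdx G) = ⟨D, g⟩ :=
    pair_eq_of_le hM hmax.1.1 hx Relation.ReflTransGen.refl hmap
  have hpid : gidem M (Cen D) g = cjA x (gidem M (Cen D₂) g₂) := by
    have h1 := pid_cjPair (M := M) x (⟨D₂, g₂⟩ : BrauerPairIdx G)
    rwa [hpair] at h1
  have hocc' : br D (gidem M (Subgroup.normalizer (Q : Set G)) c₂) * gidem M (Cen D) g = gidem M (Cen D) g := by
    have h1 := congrArg (cjA x) hocc₂
    rwa [map_mul, cjA_br, hmap, (centralIn_gidem c₂).2 x hxH, ← hpid] at h1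
  by_contra hcc
  apply gidem_ne_zero hmax.1.1.2
  rw [← hocc, ← hocc', ← mul_assoc, ← br_mul hM hmax.1.1.1 ((centralIn_gidem c).2.mono hDH)
    ((centralIn_gidem c₂).2.mono hDH), gidem_mul_of_ne hc.1 hc₂.1 hcc, br_zero, zero_mul]

end main

end CfsgLib.BrauerPairs
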