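import Cfsg.Agent.Lib.BrauerPairs.Transfer
import Cfsg.Agent.Lib.Blocks.Covering

/-!
# Blocks over a subgroup containing the `p`-regular elements

* `gidem_mul_eq_of_ne_zero`, `exists_unique_over`: over a block `g` of `K ⊴ C` there is one block of `C`;
* `cjA_eq_of_coprime`: a `p`-regular element moving a block as a `p`-element modulo `K` does, fixes it;
* `exists_push`, `exists_pull`: blocks of a subgroup read in the ambient group.
-/

set_option autoImplicit false

noncomputable section

namespace CfsgLib.BrauerPairs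

open Cfsg CfsgLib.Blocks

universe u

variable {M : Ideal AlgInt} [M.IsMaximal] {G : Type u} [Group G] [Fintype G] {p : ℕ}

theorem centralIn_gidem_of_regular (hM : IsPModular p M) {C K : Subgroup G} (hKC : K ≤ C)
    (hreg : ∀ v ∈ C, IsPRegular p v → v ∈ K) {h : Set (IrrCharacter C)} (hh : IsPBlock M h) :
    CentralIn K (gidem M C h) := by
  have := Fintype.ofFinite C
  refine ⟨fun g hg => ?_, (centralIn_gidem h).2.mono hKC⟩
  by_cases hgC : g ∈ C
  · rw [gidem, coeff_ofFun, subgroupBlockCoeff, dif_pos hgC, blockCoeff_eq_zero hM hh, resD_zero]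
    by_contra h'
    exact hg (hreg g hgC (by
      rw [IsPRegular]
      rwa [← Subgroup.orderOf_coe (⟨g, hgC⟩ : C)] at h'))
  · exact (centralIn_gidem h).1 g hgC

/-- Over a block `g` of `K` there is exactly one block of `C`. -/
theorem exists_unique_over (hM : IsPModular p M) {C K : Subgroup G} (hKC : K ≤ C)
    (hreg : ∀ v ∈ C, IsPRegular p v → v ∈ K) {g : Set (IrrCharacter K)} (hg : IsPBlock M g) :
    ∃ h : Set (IrrCharacter C), IsPBlock M h ∧ gidem M C h * gidem M K g = gidem M K g ∧
      ∀ h' : Set (IrrCharacter C), IsPBlock M h' → gidem M C h' * gidem M K g ≠ 0 → h' = h := by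
  classical
  have := Fintype.ofFinite C
  have := Fintype.ofFinite (Blk M C)
  have hcases : ∀ i : Blk M C, gidem M C i.1 * gidem M K g = gidem M K g ∨
      gidem M C i.1 * gidem M K g = 0 := fun i =>
    occurs_cases (centralIn_gidem_of_regular hM hKC hreg i.2) (gidem_mul_self i.2) hg
  obtain ⟨i, hi⟩ : ∃ i : Blk M C, gidem M C i.1 * gidem M K g ≠ 0 := by
    by_contra h
    apply gidem_ne_zero hg
    rw [← one_mul (gidem M K g), ← sum_gidem (M := M) C, Finset.sum_mul]
    exact Finset.sum_eq_zero fun i _ => not_not.mp fun h' => h ⟨i, h'⟩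
  have hi' := (hcases i).resolve_right hi
  refine ⟨i.1, i.2, hi', fun h' hh' hne => by_contra fun hd => hne ?_⟩
  rw [← hi', ← mul_assoc, gidem_mul_of_ne hh' i.2 hd, zero_mul]

omit [Fintype G] in
/-- If `x` is `p`-regular, `y` has `p`-power order modulo elements fixing `z`, the two commute modulo
such elements and `x`, `y` move `z` alike, then both fix `z`. -/
theorem cjA_eq_of_coprime [Finite G] [hp : Fact p.Prime] {C K : Subgroup G} {z : KG M G}
    (hfix : IsFixed K z) {x y : G} (hcomm : ∀ v ∈ C, x⁻¹ * v⁻¹ * x * v ∈ K)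
    (hx : IsPRegular p x) (hy : y ∈ C) (hpow : ∃ a : ℕ, y ^ p ^ a ∈ K)
    (h : cjA x z = cjA y z) : cjA x z = z := by
  have hpow' : ∀ k : ℕ, cjA (x ^ k) z = cjA (y ^ k) z := by
    intro k
    induction k with
    | zero => simp
    | succ k ih =>
      rw [pow_succ' x k, ← cjA_cjA, ih, cjA_cjA,
        show x * y ^ k = y ^ k * (x * (x⁻¹ * (y ^ k)⁻¹ * x * y ^ k)) by group,
        ← cjA_cjA (y ^ k), ← cjA_cjA x, hfix _ (hcomm _ (pow_mem hy k)), h, cjA_cjA, pow_succ]
  have h1 : y ^ orderOf x ∈ fixer z := by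
    show cjA _ z = z
    rw [← hpow', pow_orderOf_eq_one, cjA_one]
  obtain ⟨a, ha⟩ := hpow
  have h2 : y ^ p ^ a ∈ fixer z := hfix _ ha
  have hco : Nat.Coprime (orderOf x) (p ^ a) :=
    ((hp.out.coprime_iff_not_dvd.mpr hx).symm).pow_right a
  have h3 : y ∈ fixer z := by
    have hb := Nat.gcd_eq_gcd_ab (orderOf x) (p ^ a)
    rw [hco.gcd_eq_one] at hb
    rw [← zpow_one y, show (1 : ℤ) = _ from hb, zpow_add, zpow_mul, zpow_mul, zpow_natCast,
      zpow_natCast]
    exact mul_mem (zpow_mem h1 _) (zpow_mem h2 _)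
  exact h.trans h3

/-- A block of a subgroup of `H`, read in the ambient group. -/
theorem exists_push [Fact p.Prime] {H : Subgroup G} [Fintype H] {K : Subgroup H} {K' : Subgroup G}
    (hK : K.map H.subtype = K') {f : Set (IrrCharacter K)} (hf : IsPBlock M f) :
    ∃ f' : Set (IrrCharacter K'), IsPBlock M f' ∧
      gidem M K' f' = emb H (gidem M K f) := by
  let e : K ≃* K' :=
    (K.equivMapOfInjective H.subtype H.subtype_injective).trans (MulEquiv.subgroupCongr hK)
  have := Fintype.ofFinite K
  have := Fintype.ofFinite K'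
  refine ⟨tblock e f, isPBlock_tblock e hf, gidem_of_coeff _ _ hK _ _ fun k hk => ?_⟩
  rw [← blockCoeff_tblock e f k]
  rfl

/-- A block of a subgroup of the ambient group, read in `H`. -/
theorem exists_pull [Fact p.Prime] {H : Subgroup G} [Fintype H] {K : Subgroup H} {K' : Subgroup G}
    (hK : K.map H.subtype = K') {f' : Set (IrrCharacter K')} (hf : IsPBlock M f') :
    ∃ f : Set (IrrCharacter K), IsPBlock M f ∧
      gidem M K' f' = emb H (gidem M K f) := by
  let e : K ≃* K' :=
    (K.equivMapOfInjective H.subtype H.subtype_injective).trans (MulEquiv.subgroupCongr hK)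
  have := Fintype.ofFinite K
  have := Fintype.ofFinite K'
  refine ⟨tblock e.symm f', isPBlock_tblock e.symm hf, gidem_of_coeff _ _ hK _ _ fun k hk => ?_⟩
  show blockCoeff f' ⟨((k : H) : G), hk⟩ = blockCoeff (tblock e.symm f') k
  conv_rhs => rw [show k = e.symm ⟨((k : H) : G), hk⟩ from (e.eq_symm_apply).mpr (Subtype.ext rfl)]
  rw [blockCoeff_tblock]

end CfsgLib.BrauerPairs
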