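import Cfsg.Agent.Lib.BlockArith.InertialOne
import Cfsg.Prelude.Def_BlockLocal

/-!
# Induction inside a centraliser and inclusion of pairs

* `subpair_of_inducedIn`: if `c` induces `f` inside `C(Q)` and `Q ≤ P` centralises `P`, then
  `(Q, f) ≤ (P, c)`;
* `stab_inertOne`: for an abelian maximal pair, the block of `C(Q)` below it has inertial index one
  when the stabiliser meets `C(Q)` in `C(P)`.
-/

set_option autoImplicit false

noncomputable section

namespace CfsgLib.BrauerPairs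

open Cfsg CfsgLib.Blocks

universe u

variable {G : Type u} [Group G] [Fintype G] {p : ℕ} [hp : Fact p.Prime] {M : Ideal AlgInt} [M.IsMaximal]

/-- The pair of `C(Q)` corresponding to a pair above `Q`, with the translation of induction. -/
theorem inducedIn_setup {Q P : Subgroup G} [Fintype (Cen Q)]
    (hQP : Q ≤ P) (hPC : P ≤ Cen Q) {c : Set (IrrCharacter (Cen P))} (hc : IsPBlock M c) :
    ∃ g : Set (IrrCharacter (Cen (P.subgroupOf (Cen Q)))), IsPBlock M g ∧
      Up (M := M) ⟨P.subgroupOf (Cen Q), g⟩ ⟨P, c⟩ ∧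
      ∀ f : Set (IrrCharacter (Cen Q)), IsInducedBlockIn M (Cen Q) (Cen P) c f ↔
        IsInducedBlock M (Cen (P.subgroupOf (Cen Q))) g f := by
  classical
  have hmap : (P.subgroupOf (Cen Q)).map (Cen Q).subtype = P := Subgroup.map_subgroupOf_eq_of_le hPC
  have hC : (Cen (P.subgroupOf (Cen Q))).map (Cen Q).subtype = Cen P := by
    rw [map_cen_subtype _ (by rw [hmap]; exact centralizer_anti hQP), hmap]
  let e : Cen (P.subgroupOf (Cen Q)) ≃* Cen P :=
    ((Cen (P.subgroupOf (Cen Q))).equivMapOfInjective (Cen Q).subtype (Cen Q).subtype_injective).trans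
      (MulEquiv.subgroupCongr hC)
  have := Fintype.ofFinite (Cen (P.subgroupOf (Cen Q)))
  have := Fintype.ofFinite (Cen P)
  have hecoe : ∀ k : Cen (P.subgroupOf (Cen Q)), ((e k : Cen P) : G) = ((k : Cen Q) : G) := fun k => rfl
  set g := tblock e.symm c with hg
  have hgb : IsPBlock M g := isPBlock_tblock e.symm hc
  refine ⟨g, hgb, ⟨hC, gidem_of_coeff _ _ hC _ _ fun k hk => ?_⟩, fun f => ?_⟩
  · show blockCoeff c ⟨((k : Cen Q) : G), hk⟩ = blockCoeff (tblock e.symm c) k
    conv_rhs => rw [show k = e.symm ⟨((k : Cen Q) : G), hk⟩ from (e.eq_symm_apply).mpr (Subtype.ext rfl)]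
    rw [blockCoeff_tblock]
  · have h2 : ∀ (ξ : IrrCharacter (Cen (P.subgroupOf (Cen Q)))) (a : Cen Q),
        inducedCentralChar (Cen (P.subgroupOf (Cen Q))) (ξ : Cen (P.subgroupOf (Cen Q)) → ℂ) a =
        inducedCentralCharIn (Cen Q) (Cen P) (tirr e.symm.symm ξ : Cen P → ℂ) (a : G) := by
      intro ξ a
      rw [inducedCentralChar, inducedCentralCharIn]
      refine finsum_mem_eq_of_bijOn e ⟨fun k hk => ?_, e.injective.injOn, fun k hk => ?_⟩ fun k _ => ?_
      · obtain ⟨w, hw⟩ := isConj_iff.mp (IsConj.symm hk)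
        exact ⟨w, by rw [hecoe, ← hw]; rfl⟩
      · obtain ⟨w, hw⟩ := hk
        refine ⟨e.symm k, IsConj.symm (isConj_iff.mpr ⟨w, Subtype.ext ?_⟩), e.apply_symm_apply k⟩
        show (w : G) * ((e.symm k : Cen Q) : G) * (w : G)⁻¹ = (a : G)
        rw [← hecoe, e.apply_symm_apply, hw]
      · show (ξ : Cen (P.subgroupOf (Cen Q)) → ℂ) k / (ξ : Cen (P.subgroupOf (Cen Q)) → ℂ) 1 =
          (ξ : Cen (P.subgroupOf (Cen Q)) → ℂ) (e.symm (e k)) / (ξ : Cen (P.subgroupOf (Cen Q)) → ℂ) (e.symm 1)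
        rw [e.symm_apply_apply, map_one]
    constructor
    · rintro ⟨-, hf, hind⟩
      refine ⟨hgb, hf, fun ξ hξ χ hχ a => ?_⟩
      rw [h2]
      exact hind _ ((mem_tblock e.symm).mp hξ) χ hχ a
    · rintro ⟨-, hf, hind⟩
      refine ⟨hc, hf, fun ξ' hξ' χ hχ a => ?_⟩
      obtain ⟨ξ, rfl⟩ : ∃ ξ, tirr e.symm.symm ξ = ξ' := ⟨tirr e.symm ξ',
        Subtype.ext (funext fun y => congrArg (ξ' : Cen P → ℂ) (e.apply_symm_apply y))⟩
      rw [← h2]
      exact hind ξ ((mem_tblock e.symm).mpr hξ') χ hχ a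

/-- Induction inside `C(Q)` gives a normal inclusion of pairs. -/
theorem subpair_of_inducedIn (hM : IsPModular p M) {Q P : Subgroup G} [Fintype (Cen Q)]
    (hQP : Q ≤ P) (hPC : P ≤ Cen Q) {c : Set (IrrCharacter (Cen P))} (hP : IsBrauerPair p M P c)
    {f : Set (IrrCharacter (Cen Q))} (h : IsInducedBlockIn M (Cen Q) (Cen P) c f) :
    SubpairLE p M Q f P c := by
  classical
  have hf := h.2.1
  obtain ⟨g, hgb, hu, hiff⟩ := inducedIn_setup (M := M) hQP hPC hP.2
  have := Fintype.ofFinite (Cen (P.subgroupOf (Cen Q)))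
  have hC := hu.cen
  have hPp' : IsPGroup p (P.subgroupOf (Cen Q)) :=
    hP.1.of_equiv (Subgroup.subgroupOfEquivOfLe hPC).symm
  have hind' := (hiff f).mp h
  obtain ⟨-, -, hocc⟩ := (brauerPairOf_iff hM).mp
    ((brauerPairOf_iff_induced hM hPp' hgb hf).mpr hind')
  have hfp : IsBrauerPair p M Q f := ⟨hP.1.to_le hQP, hf⟩
  have hn : NormalSubpairRel p M ⟨Q, f⟩ ⟨P, c⟩ := by
    refine (normalSubpair_iff hM).mpr ⟨hfp, hP, hQP,
      hPC.trans (Subgroup.centralizer_le_normalizer _), fun y hy => (centralIn_gidem f).2 y (hPC hy), ?_⟩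
    show br P (gidem M (Cen Q) f) * pid M (⟨P, c⟩ : BrauerPairIdx G) = _
    rw [gidem_eq_emb hf, hu.pid_eq, ← emb_br (fun z => cen_iff_map hC z), ← map_mul, ← gidemTop_eq hf]
    exact (congrArg (emb (Cen Q)) hocc).trans hu.pid_eq.symm
  exact Relation.ReflTransGen.single hn

/-- Inertial index one below an abelian maximal pair. -/
theorem stab_inertOne (hM : IsPModular p M) {B : Set (IrrCharacter G)} {P : Subgroup G}
    {c : Set (IrrCharacter (Cen P))} (hmax : IsMaximalBrauerPair p M B P c)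
    (hab : ∀ x ∈ P, ∀ y ∈ P, x * y = y * x) {Q : Subgroup G} [Fintype (Cen Q)]
    {f : Set (IrrCharacter (Cen Q))} (hle : SubpairLE p M Q f P c)
    (hfree : ∀ y ∈ stab M P c, y ∈ Cen Q → y ∈ Cen P) : InertOne p M f := by
  classical
  have hQP : Q ≤ P := subgroup_le (a := ⟨Q, f⟩) (b := ⟨P, c⟩) hle
  have hPC : P ≤ Cen Q := fun y hy =>
    Subgroup.mem_centralizer_iff.mpr fun q hq => hab q (hQP hq) y hy
  have hD := pairs_defect hM hmax hab hle
  have hQB := (brauerPairOf_iff_of_subpair hM (a := ⟨Q, f⟩) (b := ⟨P, c⟩) hle).mp hmax.1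
  have hB := hmax.1.2.1
  have hd : blockDefect p f = blockDefect p B := by
    have h1 := card_defectGroup hM hQB.1.2 hD
    rw [card_subgroupOf' hPC, card_defectGroup hM hB (isDefectGroup_of_maximal hM hmax)] at h1
    exact (Nat.pow_right_injective hp.out.two_le (show p ^ _ = p ^ _ from h1)).symm
  intro A e' hA
  obtain ⟨x, hx⟩ := defectGroups_conj hM hQB.1.2 hD (isDefectGroup_of_maximal hM hA)
  obtain ⟨g, hu, hg⟩ := exists_up_maximal hM hQB (hQP.trans hPC) hd hA
  have hAP : A.map (Cen Q).subtype = P.map (MulAut.conj (x : G)).toMonoidHom := by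
    rw [← hx]
    conv_rhs => rw [← Subgroup.map_subgroupOf_eq_of_le hPC, Subgroup.map_map]
    rw [cj, Subgroup.map_map]
    congr 1
  have hxQ : ∀ q ∈ Q, (x : G) * q * (x : G)⁻¹ = q := fun q hq => by
    rw [← Subgroup.mem_centralizer_iff.mp x.2 q hq, mul_inv_cancel_right]
  have hle2 : Relation.ReflTransGen (NormalSubpairRel p M) ⟨Q, f⟩ (cjPair (x : G) ⟨P, c⟩) := by
    have h1 := subpair_cjPair hM (x : G) hle
    rwa [cjPair_eq_self_of_mem_stab hQB.1 (cen_le_stab f x.2)] at h1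
  refine ⟨fun a ha b hb => ?_, fun y hy => ?_⟩
  · have h1 : ∀ a ∈ A, (x : G)⁻¹ * (a : G) * (x : G) ∈ P := fun a ha => by
      obtain ⟨w, hw, he⟩ := (hAP ▸ (⟨a, ha, rfl⟩ : (a : G) ∈ A.map (Cen Q).subtype) :
        (a : G) ∈ P.map (MulAut.conj (x : G)).toMonoidHom)
      rw [← he]
      simpa [mul_assoc] using hw
    apply Subtype.ext
    have h2 := hab _ (h1 a ha) _ (h1 b hb)
    calc (a : G) * (b : G) = (x : G) * ((x : G)⁻¹ * a * x * ((x : G)⁻¹ * b * x)) * (x : G)⁻¹ := by group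
      _ = (x : G) * ((x : G)⁻¹ * b * x * ((x : G)⁻¹ * a * x)) * (x : G)⁻¹ := by rw [h2]
      _ = (b : G) * (a : G) := by group
  · -- both pairs lie above `(Q, f)`; compare through the block of the normaliser
    have hgP : IsBrauerPair p M (A.map (Cen Q).subtype) g := hg.1.1
    have hleg : Relation.ReflTransGen (NormalSubpairRel p M) ⟨Q, f⟩ ⟨A.map (Cen Q).subtype, g⟩ := by
      obtain ⟨f', hf', -⟩ := existsUnique_subpair hM (show Q ≤ A.map (Cen Q).subtype by
        rw [hAP]; exact fun q hq => ⟨q, hQP hq, hxQ q hq⟩) hgP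
      have hQA : Q ≤ A.map (Cen Q).subtype := by
        rw [hAP]; exact fun q hq => ⟨q, hQP hq, hxQ q hq⟩
      have hn : NormalSubpairRel p M ⟨Q, f⟩ ⟨A.map (Cen Q).subtype, g⟩ := by
        refine (normalSubpair_iff hM).mpr ⟨hQB.1, hgP, hQA,
          (Subgroup.map_subtype_le A).trans (Subgroup.centralizer_le_normalizer _), ?_, ?_⟩
        · rintro _ ⟨v, -, rfl⟩
          exact (centralIn_gidem f).2 _ v.2
        · show br _ (gidem M (Cen Q) f) * pid M (⟨A.map (Cen Q).subtype, g⟩ : BrauerPairIdx G) = _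
          rw [gidem_eq_emb hQB.1.2, hu.pid_eq, ← emb_br (fun z => cen_iff_map hu.cen z), ← map_mul,
            ← gidemTop_eq hQB.1.2]
          exact (congrArg (emb (Cen Q)) ((brauerPairOf_iff hM).mp hA.1).2.2).trans hu.pid_eq.symm
      exact Relation.ReflTransGen.single hn
    -- move `g` onto `P`
    have h3 : Relation.ReflTransGen (NormalSubpairRel p M) ⟨Q, f⟩
        (cjPair (x : G)⁻¹ ⟨A.map (Cen Q).subtype, g⟩) := by
      have h4 := subpair_cjPair hM (x : G)⁻¹ hleg
      rwa [cjPair_eq_self_of_mem_stab hQB.1 (cen_le_stab f (inv_mem x.2))] at h4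
    have hfst : (cjPair (x : G)⁻¹ (⟨A.map (Cen Q).subtype, g⟩ : BrauerPairIdx G)).1 = P := by
      show (A.map (Cen Q).subtype).map (MulAut.conj (x : G)⁻¹).toMonoidHom = P
      rw [hAP, map_conj_map_conj, inv_mul_cancel, map_conj_eq_self (Subgroup.one_mem _)]
    set a₀ := cjPair (x : G)⁻¹ (⟨A.map (Cen Q).subtype, g⟩ : BrauerPairIdx G) with ha₀
    have ha₀p : IsBrauerPair p M a₀.1 a₀.2 := isBrauerPair_cjPair _ hgP
    have hn₀ : NormalSubpairRel p M ⟨Q, f⟩ a₀ :=
      normal_of_subpair hM ha₀p (Q := Q) (f := f) h3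
        (by rw [hfst]; exact hPC.trans (Subgroup.centralizer_le_normalizer _))
    obtain ⟨t, ht, htP⟩ := exists_conj_le hM hmax.1.1 hle le_rfl (hQP.trans hPC)
      (Subgroup.centralizer_le_normalizer _) (centralIn_gidem f).2
      (fun R hR hRC hne => ((card_le_defect hM hQB.1.2 hR hRC hne hD).trans_eq
        (card_subgroupOf' hPC)).trans_eq (by rw [inf_eq_left.mpr hPC]))
      (R := a₀.1) (g := a₀.2) hn₀ (hfst ▸ hPC)
    have hteq : cjPair t a₀ = ⟨P, c⟩ := by
      refine pair_eq_of_le hM hmax.1.1 htP Relation.ReflTransGen.refl ?_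
      refine Subgroup.eq_of_le_of_card_ge (subgroup_le htP) (le_of_eq ?_)
      rw [cjPair_fst, Subgroup.card_map_of_injective (MulEquiv.injective _), hfst]
    have hw : cjPair (t * (x : G)⁻¹) (⟨A.map (Cen Q).subtype, g⟩ : BrauerPairIdx G) = ⟨P, c⟩ := by
      rw [← cjPair_cjPair t _ hgP]; exact hteq
    set w := t * (x : G)⁻¹ with hwdef
    have hy' : (y : G) ∈ stab M (A.map (Cen Q).subtype) g := by
      refine ⟨Subgroup.le_normalizer_map (Cen Q).subtype ⟨y, hy.1, rfl⟩, ?_⟩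
      show cjA (y : G) (pid M (⟨_, g⟩ : BrauerPairIdx G)) = pid M (⟨_, g⟩ : BrauerPairIdx G)
      rw [hu.pid_eq, ← emb_cjA]
      exact congrArg (emb (Cen Q)) hy.2
    have hwy : w * (y : G) * w⁻¹ ∈ stab M P c := by
      have h5 : (A.map (Cen Q).subtype).map (MulAut.conj w).toMonoidHom = P := congrArg Sigma.fst hw
      refine ⟨?_, ?_⟩
      · show w * (y : G) * w⁻¹ ∈ Subgroup.normalizer (P : Set G)
        refine Subgroup.mem_normalizer_iff_map_conj_eq.mpr ?_
        show P.map (MulAut.conj (w * (y : G) * w⁻¹)).toMonoidHom = P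
        rw [← h5, map_conj_map_conj, inv_mul_cancel_right,
          ← map_conj_map_conj, show (A.map (Cen Q).subtype).map (MulAut.conj (y : G)).toMonoidHom =
            A.map (Cen Q).subtype from Subgroup.mem_normalizer_iff_map_conj_eq.mp hy'.1]
      · show cjA (w * (y : G) * w⁻¹) (pid M (⟨P, c⟩ : BrauerPairIdx G)) = pid M (⟨P, c⟩ : BrauerPairIdx G)
        rw [← hw, pid_cjPair, cjA_cjA, inv_mul_cancel_right, ← cjA_cjA]
        exact congrArg (cjA w) hy'.2
    have hwQ : w * (y : G) * w⁻¹ ∈ Cen Q :=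
      mul_mem (mul_mem (mul_mem ht (inv_mem x.2)) y.2) (inv_mem (mul_mem ht (inv_mem x.2)))
    have hfin := hfree _ hwy hwQ
    rw [cen_iff_map hu.cen]
    refine Subgroup.mem_centralizer_iff.mpr fun a ha => ?_
    have h6 : w * a * w⁻¹ ∈ P := by
      rw [show P = (cjPair w (⟨A.map (Cen Q).subtype, g⟩ : BrauerPairIdx G)).1 from (congrArg Sigma.fst hw).symm]
      exact ⟨a, ha, rfl⟩
    have h7 := Subgroup.mem_centralizer_iff.mp hfin _ h6
    calc a * (y : G) = w⁻¹ * (w * a * w⁻¹ * (w * y * w⁻¹)) * w := by group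
      _ = w⁻¹ * (w * y * w⁻¹ * (w * a * w⁻¹)) * w := by rw [h7]
      _ = (y : G) * a := by group

/-- The block below a pair is induced inside the centraliser. -/
theorem inducedIn_of_subpair (hM : IsPModular p M) {Q P : Subgroup G} [Fintype (Cen Q)]
    (hQP : Q ≤ P) (hPC : P ≤ Cen Q) {c : Set (IrrCharacter (Cen P))} (hP : IsBrauerPair p M P c)
    {f : Set (IrrCharacter (Cen Q))} (h : SubpairLE p M Q f P c) :
    IsInducedBlockIn M (Cen Q) (Cen P) c f := by
  classical
  obtain ⟨g, hgb, hu, hiff⟩ := inducedIn_setup (M := M) hQP hPC hP.2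
  have := Fintype.ofFinite (Cen (P.subgroupOf (Cen Q)))
  obtain ⟨f₀, hf₀⟩ := exists_induced_cen hM
    (hP.1.of_equiv (Subgroup.subgroupOfEquivOfLe hPC).symm) hgb
  have h0 := (hiff f₀).mpr hf₀
  rwa [subpair_eq hM hP h (subpair_of_inducedIn hM hQP hPC hP h0)]

end CfsgLib.BrauerPairs
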