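import Cfsg.Agent.Lib.BrauerPairs.Maximal

/-!
# Defect groups of the blocks in Brauer pairs

* `sup_cen_defect`: a `p`-subgroup `Q`-pair extends by a subgroup surviving the Brauer map;
* `exists_local_defect_ge`, `exists_stab_defect_ge`: `C_P(Q)` and `N_P(Q)` lie in defect groups;
* `exists_conj_local_defect`, `exists_conj_stab_defect`: equality after conjugation.
-/

set_option autoImplicit false

noncomputable section

namespace CfsgLib.BrauerPairs

open Cfsg CfsgLib.Blocks

universe u

variable {M : Ideal AlgInt} [M.IsMaximal] {G : Type u} [Group G] [Fintype G] {p : ℕ}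

/-- A surviving stable overgroup gives a larger pair. -/
theorem exists_pair_above (hM : IsPModular p M) {Q S : Subgroup G} {f : Set (IrrCharacter (Cen Q))}
    (hf : IsBrauerPair p M Q f) (hS : IsPGroup p S) (hQS : Q ≤ S)
    (hSN : S ≤ Subgroup.normalizer (Q : Set G)) (hfix : IsFixed S (gidem M (Cen Q) f))
    (hne : br S (gidem M (Cen Q) f) ≠ 0) :
    ∃ g : Set (IrrCharacter (Cen S)), IsNormalSubpair p M Q f S g := by
  obtain ⟨g, hg, hocc⟩ := exists_occurs'
    (centralIn_br ((centralIn_gidem f).2.mono (centralizer_anti hQS)))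
    (br_normalSubpair_idem hM hS hf.2 hfix) hne
  exact ⟨g, (normalSubpair_iff hM).mpr ⟨hf, ⟨hS, hg⟩, hQS, hSN, hfix, hocc⟩⟩

/-- Below `(P, e)`, a pair at `Q` sees every subgroup between `Q` and `N_P(Q)`. -/
theorem normal_between (hM : IsPModular p M) {Q S P : Subgroup G} {f : Set (IrrCharacter (Cen Q))}
    {e : Set (IrrCharacter (Cen P))} (hP : IsBrauerPair p M P e) (hle : SubpairLE p M Q f P e)
    (hQS : Q ≤ S) (hSP : S ≤ P) (hSN : S ≤ Subgroup.normalizer (Q : Set G)) :
    IsFixed S (gidem M (Cen Q) f) ∧ br S (gidem M (Cen Q) f) ≠ 0 := by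
  obtain ⟨h, hh, -⟩ := existsUnique_subpair hM hSP hP
  have hn := normal_of_subpair hM (isBrauerPair_left (a := ⟨S, h⟩) hh hP)
    (subpair_of_le hM hP hQS hle hh) hSN
  obtain ⟨-, hS, -, -, hfix, hocc⟩ := (normalSubpair_iff hM).mp hn
  exact ⟨hfix, fun h0 => gidem_ne_zero hS.2 (by rw [← hocc, h0, zero_mul])⟩

theorem br_ne_zero_mono {R S : Subgroup G} (h : R ≤ S) {z : KG M G} (hne : br S z ≠ 0) :
    br R z ≠ 0 := fun h0 => hne (by rw [← br_br h, h0, br_zero])

variable [hp : Fact p.Prime]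

/-- `C_P(Q)` lies in a defect group of `f`. -/
theorem exists_local_defect_ge (hM : IsPModular p M) {Q P : Subgroup G}
    {f : Set (IrrCharacter (Cen Q))} {e : Set (IrrCharacter (Cen P))} (hP : IsBrauerPair p M P e)
    (hle : SubpairLE p M Q f P e) :
    ∃ D : Subgroup (Cen Q), IsDefectGroup p M f D ∧ (P ⊓ Cen Q).subgroupOf (Cen Q) ≤ D := by
  have hf := isBrauerPair_left (a := ⟨Q, f⟩) hle hP
  refine exists_defect_ge hM hf.2 (hP.1.to_le inf_le_left) inf_le_right
    (br_ne_zero_mono (le_sup_right : P ⊓ Cen Q ≤ Q ⊔ (P ⊓ Cen Q)) ?_)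
  exact (normal_between hM hP hle le_sup_left (sup_le (subgroup_le hle) inf_le_left)
    (sup_le Subgroup.le_normalizer (inf_le_right.trans (Subgroup.centralizer_le_normalizer _)))).2

omit [M.IsMaximal] [Fintype G] hp in
theorem map_conj_inv_map (x : G) (P : Subgroup G) :
    (P.map (MulAut.conj x).toMonoidHom).map (MulAut.conj x⁻¹).toMonoidHom = P := by
  rw [map_conj_map_conj, inv_mul_cancel, map_conj_eq_self (Subgroup.one_mem _)]

omit [M.IsMaximal] hp in
theorem card_subgroupOf' {R H : Subgroup G} (h : R ≤ H) :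
    Nat.card (R.subgroupOf H) = Nat.card R :=
  Nat.card_congr (Subgroup.subgroupOfEquivOfLe h).toEquiv

/-- After conjugation `C_P(Q)` is a defect group of `f`. -/
theorem exists_conj_local_defect (hM : IsPModular p M) {B : Set (IrrCharacter G)} {Q P : Subgroup G}
    {f : Set (IrrCharacter (Cen Q))} {e : Set (IrrCharacter (Cen P))}
    (hmax : IsMaximalBrauerPair p M B P e) (hQf : IsBrauerPairOf p M B Q f) :
    ∃ x : G, SubpairLE p M (Q.map (MulAut.conj x).toMonoidHom) (conjBlock Q x f) P e ∧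
      IsDefectGroup p M (conjBlock Q x f)
        ((P ⊓ Cen (Q.map (MulAut.conj x).toMonoidHom)).subgroupOf
          (Cen (Q.map (MulAut.conj x).toMonoidHom))) := by
  have := Fintype.ofFinite (Cen Q)
  obtain ⟨D₀, hD₀⟩ := exists_isDefectGroup (p := p) hQf.1.2
  set D₁ := D₀.map (Cen Q).subtype with hD₁
  have hD₁C : D₁ ≤ Cen Q := Subgroup.map_subtype_le D₀
  have hD₁p : IsPGroup p D₁ := (IsDefectGroup.isPGroup hD₀).map _
  have hD₁N : D₁ ≤ Subgroup.normalizer (Q : Set G) :=
    hD₁C.trans (Subgroup.centralizer_le_normalizer _)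
  have hS : IsPGroup p (Q ⊔ D₁ : Subgroup G) :=
    hQf.1.1.to_sup_of_normal_left' hD₁p hD₁N
  have hne : br (Q ⊔ D₁) (gidem M (Cen Q) f) ≠ 0 := fun h0 => by
    refine br_ne_zero_of_defect hQf.1.2 hD₀ (ext_coeff fun g => ?_)
    have h1 := congrArg (fun z => z.coeff g) h0
    simp only [coeff_br] at h1 ⊢
    by_cases hgC : g ∈ Cen Q
    · by_cases hg : g ∈ Cen D₁
      · have : g ∈ Cen (Q ⊔ D₁) := by
          rw [Subgroup.mem_centralizer_iff]
          intro y hy
          have hy' : y ∈ Subgroup.centralizer ({g} : Set G) := by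
            refine (sup_le ?_ ?_ : Q ⊔ D₁ ≤ Subgroup.centralizer ({g} : Set G)) hy <;>
            · intro z hz
              rw [Subgroup.mem_centralizer_singleton_iff]
              first
                | exact Subgroup.mem_centralizer_iff.mp hgC z hz
                | exact Subgroup.mem_centralizer_iff.mp hg z hz
          exact Subgroup.mem_centralizer_singleton_iff.mp hy'
        rw [if_pos this] at h1
        rw [if_pos hg]
        exact h1
      · rw [if_neg hg]; rfl
    · rw [(centralIn_gidem f).1 g hgC]; exact (ite_self _).trans (by simp)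
  obtain ⟨g, hg⟩ := exists_pair_above hM hQf.1 hS le_sup_left (sup_le Subgroup.le_normalizer hD₁N)
    (sup_le (isFixed_iff_le_fixer.mp (isFixed_self f))
      (hD₁C.trans (isFixed_iff_le_fixer.mp (centralIn_gidem f).2))) hne
  obtain ⟨x, hx⟩ := exists_conj_le_maximal hM (b := ⟨P, e⟩) (a := ⟨Q ⊔ D₁, g⟩) hmax
    ((brauerPairOf_iff_of_subpair hM (Relation.ReflTransGen.single
      (show NormalSubpairRel p M ⟨Q, f⟩ ⟨Q ⊔ D₁, g⟩ from hg))).mpr hQf)
  have hle : SubpairLE p M (Q.map (MulAut.conj x).toMonoidHom) (conjBlock Q x f) P e :=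
    (subpair_cjPair hM x (Relation.ReflTransGen.single
      (show NormalSubpairRel p M ⟨Q, f⟩ ⟨Q ⊔ D₁, g⟩ from hg))).trans hx
  refine ⟨x, hle, ?_⟩
  obtain ⟨D, hD, hRD⟩ := exists_local_defect_ge hM hmax.1.1 hle
  have hcard : Nat.card D ≤ Nat.card D₁ := by
    -- pull the defect group back
    set D' := (D.map (Cen (Q.map (MulAut.conj x).toMonoidHom)).subtype).map
      (MulAut.conj x⁻¹).toMonoidHom with hD'
    have hf' : IsPBlock M (conjBlock Q x f) :=
      (isBrauerPair_cjPair (p := p) x (a := ⟨Q, f⟩) hQf.1).2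
    have hD'C : D' ≤ Cen Q := by
      rintro _ ⟨d, ⟨d', -, rfl⟩, rfl⟩
      show x⁻¹ * (d' : G) * x⁻¹⁻¹ ∈ Cen Q
      rw [inv_inv]
      exact mem_centralizer_map_conj.mp d'.2
    have hne' : br D' (gidem M (Cen Q) f) ≠ 0 := fun h0 => by
      refine br_ne_zero_of_defect hf' hD ?_
      have h2 : gidem M _ (conjBlock Q x f) = cjA x (gidem M (Cen Q) f) := pid_cjPair x ⟨Q, f⟩
      rw [h2]
      have := congrArg (cjA x) h0
      rw [cjA_br, hD', map_zero] at this
      rwa [map_conj_map_conj, mul_inv_cancel, map_conj_eq_self (Subgroup.one_mem _)] at this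
    obtain ⟨E, hE, hD'E⟩ := exists_defect_ge hM hQf.1.2
      (((IsDefectGroup.isPGroup hD).map _).map _) hD'C hne'
    calc Nat.card D = Nat.card D' := by
          rw [hD', Subgroup.card_map_of_injective (MulEquiv.injective _),
            Subgroup.card_map_of_injective (Subgroup.subtype_injective _)]
      _ = Nat.card (D'.subgroupOf (Cen Q)) := (card_subgroupOf' hD'C).symm
      _ ≤ Nat.card E := Subgroup.card_le_of_le hD'E
      _ = Nat.card D₁ := by
          rw [hD₁, Subgroup.card_map_of_injective (Subgroup.subtype_injective _),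
            card_defectGroup hM hQf.1.2 hE, card_defectGroup hM hQf.1.2 hD₀]
  have hge : D₁.map (MulAut.conj x).toMonoidHom ≤ P ⊓ Cen (Q.map (MulAut.conj x).toMonoidHom) :=
    le_inf ((Subgroup.map_mono le_sup_right).trans (subgroup_le hx)) (by
      rintro _ ⟨d, hd, rfl⟩
      exact mem_centralizer_map_conj.mpr (by simpa [mul_assoc] using hD₁C hd))
  have h1 := Subgroup.card_le_of_le hge
  rw [Subgroup.card_map_of_injective (MulEquiv.injective _)] at h1
  rwa [Subgroup.eq_of_le_of_card_ge hRD (by rw [card_subgroupOf' inf_le_right]; omega)]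

/-- The stabiliser block, and `N_P(Q)` in one of its defect groups. -/
theorem exists_stab_defect_ge (hM : IsPModular p M) {Q P T : Subgroup G}
    {f : Set (IrrCharacter (Cen Q))} {e : Set (IrrCharacter (Cen P))} (hP : IsBrauerPair p M P e)
    (hle : SubpairLE p M Q f P e)
    (hT : ∀ y : G, y ∈ T ↔ y ∈ Subgroup.normalizer (Q : Set G) ∧ StabilizesBlock (Cen Q) f y) :
    ∃ F : Set (IrrCharacter T), IsPBlock M F ∧ gidem M T F = gidem M (Cen Q) f ∧
      (∀ t : T, blockCoeff F t = subgroupBlockCoeff (Cen Q) f (t : G)) ∧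
      ∃ D : Subgroup T, IsDefectGroup p M F D ∧
        (P ⊓ Subgroup.normalizer (Q : Set G)).subgroupOf T ≤ D := by
  have hf := isBrauerPair_left (a := ⟨Q, f⟩) hle hP
  have hmem : ∀ y, y ∈ T ↔ y ∈ Subgroup.normalizer (Q : Set G) ∧
      cjA y (gidem M (Cen Q) f) = gidem M (Cen Q) f := fun y => by
    rw [hT, stabilizesBlock_iff hf.2]
    exact ⟨fun h => ⟨h.1, h.2.2⟩, fun h => ⟨h.1, mem_normalizer_centralizer h.1, h.2⟩⟩
  obtain ⟨F, hF, hgF, hcoe⟩ := exists_stable_block hM hf.1 hf.2
    (fun y hy => (hmem y).mpr ⟨Subgroup.le_normalizer hy, isFixed_self f y hy⟩)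
    (fun y hy => (hmem y).mpr ⟨Subgroup.centralizer_le_normalizer _ hy, (centralIn_gidem f).2 y hy⟩)
    (fun y hy => ((hmem y).mp hy).1) (fun y hy => ((hmem y).mp hy).2)
  have hR : Q ≤ P ⊓ Subgroup.normalizer (Q : Set G) := le_inf (subgroup_le hle) Subgroup.le_normalizer
  obtain ⟨hfix, hne⟩ := normal_between hM hP hle hR inf_le_left inf_le_right
  exact ⟨F, hF, hgF, hcoe, exists_defect_ge hM hF (hP.1.to_le inf_le_left)
    (fun y hy => (hmem y).mpr ⟨hy.2, hfix y hy⟩) (by rw [hgF]; exact hne)⟩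

/-- After conjugation `N_P(Q)` is a defect group of the stabiliser block. -/
theorem exists_conj_stab_defect (hM : IsPModular p M) {B : Set (IrrCharacter G)} {Q P : Subgroup G}
    {f : Set (IrrCharacter (Cen Q))} {e : Set (IrrCharacter (Cen P))}
    (hmax : IsMaximalBrauerPair p M B P e) (hQf : IsBrauerPairOf p M B Q f) :
    ∃ x : G, SubpairLE p M (Q.map (MulAut.conj x).toMonoidHom) (conjBlock Q x f) P e ∧
      ∀ T' : Subgroup G, (∀ y : G, y ∈ T' ↔
        y ∈ Subgroup.normalizer ((Q.map (MulAut.conj x).toMonoidHom : Subgroup G) : Set G) ∧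
          StabilizesBlock (Cen (Q.map (MulAut.conj x).toMonoidHom)) (conjBlock Q x f) y) →
        ∃ F' : Set (IrrCharacter T'), IsPBlock M F' ∧
          (∀ t : T', blockCoeff F' t = subgroupBlockCoeff
            (Cen (Q.map (MulAut.conj x).toMonoidHom)) (conjBlock Q x f) (t : G)) ∧
          IsDefectGroup p M F'
            ((P ⊓ Subgroup.normalizer ((Q.map (MulAut.conj x).toMonoidHom : Subgroup G) : Set G)).subgroupOf
              T') := by
  set T : Subgroup G := Subgroup.normalizer (Q : Set G) ⊓ fixer (gidem M (Cen Q) f) with hTdef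
  obtain ⟨F, hF, hgF, -⟩ := exists_stable_block hM hQf.1.1 hQf.1.2 (T := T)
    (fun y hy => ⟨Subgroup.le_normalizer hy, isFixed_self f y hy⟩)
    (fun y hy => ⟨Subgroup.centralizer_le_normalizer _ hy, (centralIn_gidem f).2 y hy⟩)
    inf_le_left (fun y hy => hy.2)
  have := Fintype.ofFinite T
  obtain ⟨D₀, hD₀⟩ := exists_isDefectGroup (p := p) hF
  set D₁ := D₀.map T.subtype with hD₁
  have hD₁T : D₁ ≤ T := Subgroup.map_subtype_le D₀
  have hQT : Q ≤ T := fun y hy => ⟨Subgroup.le_normalizer hy, isFixed_self f y hy⟩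
  have hQD : Q ≤ D₁ := by
    have : (Q.subgroupOf T).Normal :=
      (Subgroup.normal_subgroupOf_iff_le_normalizer hQT).mpr inf_le_left
    rw [← Subgroup.map_subgroupOf_eq_of_le hQT]
    have := Fintype.ofFinite T
    exact Subgroup.map_mono (normal_le_defect hM hF hD₀
      (hQf.1.1.of_equiv (Subgroup.subgroupOfEquivOfLe hQT).symm))
  obtain ⟨g, hg⟩ := exists_pair_above hM hQf.1 ((IsDefectGroup.isPGroup hD₀).map _) hQD
    (hD₁T.trans inf_le_left) (hD₁T.trans inf_le_right) (hgF ▸ br_ne_zero_of_defect hF hD₀)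
  have hstep : NormalSubpairRel p M ⟨Q, f⟩ ⟨D₁, g⟩ := hg
  obtain ⟨x, hx⟩ := exists_conj_le_maximal hM (b := ⟨P, e⟩) (a := ⟨D₁, g⟩) hmax
    ((brauerPairOf_iff_of_subpair hM (Relation.ReflTransGen.single hstep)).mpr hQf)
  have hle : SubpairLE p M (Q.map (MulAut.conj x).toMonoidHom) (conjBlock Q x f) P e :=
    (subpair_cjPair hM x (Relation.ReflTransGen.single hstep)).trans hx
  refine ⟨x, hle, fun T' hT' => ?_⟩
  obtain ⟨F', hF', hgF', hcoe, D, hD, hRD⟩ := exists_stab_defect_ge hM hmax.1.1 hle hT'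
  refine ⟨F', hF', hcoe, ?_⟩
  have h2 : gidem M _ (conjBlock Q x f) = cjA x (gidem M (Cen Q) f) := pid_cjPair x ⟨Q, f⟩
  have hcard : Nat.card D ≤ Nat.card D₁ := by
    set D' := (D.map T'.subtype).map (MulAut.conj x⁻¹).toMonoidHom with hD'
    have hD'T : D' ≤ T := by
      rintro _ ⟨_, ⟨d, -, rfl⟩, rfl⟩
      obtain ⟨hn, hst⟩ := (hT' d).mp d.2
      have hst' : cjA (d : G) (gidem M (Cen (Q.map (MulAut.conj x).toMonoidHom)) (conjBlock Q x f)) =
          gidem M (Cen (Q.map (MulAut.conj x).toMonoidHom)) (conjBlock Q x f) :=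
        ((stabilizesBlock_iff (isBrauerPair_cjPair (p := p) x (a := ⟨Q, f⟩) hQf.1).2).mp hst).2
      refine ⟨Subgroup.mem_set_normalizer_iff.mpr fun z => ?_, ?_⟩
      · have h3 := Subgroup.mem_set_normalizer_iff.mp hn (x * z * x⁻¹)
        simp only [SetLike.mem_coe, Subgroup.mem_map, MulEquiv.coe_toMonoidHom, MulAut.conj_apply,
          Subgroup.coe_subtype] at h3 ⊢
        constructor
        · intro hz
          obtain ⟨w, hw, he⟩ := h3.mp ⟨z, hz, rfl⟩
          convert hw using 1
          calc x⁻¹ * (d : G) * x⁻¹⁻¹ * z * (x⁻¹ * (d : G) * x⁻¹⁻¹)⁻¹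
              = x⁻¹ * ((d : G) * (x * z * x⁻¹) * (d : G)⁻¹) * x := by group
            _ = w := by rw [← he]; group
        · intro hz
          obtain ⟨w, hw, he⟩ := h3.mpr ⟨_, hz, by group⟩
          have : w = z := mul_left_cancel (mul_right_cancel he)
          exact this ▸ hw
      · show cjA (x⁻¹ * (d : G) * x⁻¹⁻¹) (gidem M (Cen Q) f) = gidem M (Cen Q) f
        rw [inv_inv, ← cjA_cjA, ← cjA_cjA, ← h2, hst', h2, cjA_inv_cjA]
    obtain ⟨E, hE, hD'E⟩ := exists_defect_ge hM hF (((IsDefectGroup.isPGroup hD).map _).map _) hD'T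
      (fun h0 => br_ne_zero_of_defect hF' hD (by
        have := congrArg (cjA x) h0
        rw [cjA_br, map_zero, hgF, ← h2, ← hgF'] at this
        rwa [map_conj_map_conj, mul_inv_cancel, map_conj_eq_self (Subgroup.one_mem _)] at this))
    calc Nat.card D = Nat.card D' := by
          rw [hD', Subgroup.card_map_of_injective (MulEquiv.injective _),
            Subgroup.card_map_of_injective (Subgroup.subtype_injective _)]
      _ = Nat.card (D'.subgroupOf T) := (card_subgroupOf' hD'T).symm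
      _ ≤ Nat.card E := Subgroup.card_le_of_le hD'E
      _ = Nat.card D₁ := by
          rw [hD₁, Subgroup.card_map_of_injective (Subgroup.subtype_injective _),
            card_defectGroup hM hF hE, card_defectGroup hM hF hD₀]
  set Q' := Q.map (MulAut.conj x).toMonoidHom with hQ'
  have hRT : P ⊓ Subgroup.normalizer (Q' : Set G) ≤ T' := fun y hy => by
    refine (hT' y).mpr ⟨hy.2, (stabilizesBlock_iff
      (isBrauerPair_cjPair (p := p) x (a := ⟨Q, f⟩) hQf.1).2).mpr ⟨mem_normalizer_centralizer hy.2, ?_⟩⟩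
    exact (normal_between hM hmax.1.1 hle (le_inf (subgroup_le hle) Subgroup.le_normalizer)
      inf_le_left inf_le_right).1 y hy
  have hge : D₁.map (MulAut.conj x).toMonoidHom ≤ P ⊓ Subgroup.normalizer (Q' : Set G) :=
    le_inf (subgroup_le hx) (normal_cjPair hM x hstep).2.2.2.1
  have h1 := Subgroup.card_le_of_le hge
  rw [Subgroup.card_map_of_injective (MulEquiv.injective _)] at h1
  rwa [Subgroup.eq_of_le_of_card_ge hRD (by rw [card_subgroupOf' hRT]; omega)]

end CfsgLib.BrauerPairs
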