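import Cfsg.Agent.Lib.BrauerPairs.Basic

/-!
# Inclusion of Brauer pairs

* `existsUnique_normal`: the unique pair normally below a given pair;
* `normal_trans`, `existsUnique_subpair`, `normal_of_subpair`;
* `existsUnique_block`, `brauerPairOf_iff_of_subpair`;
* `cjPair` and the invariance of all notions under conjugation.
-/

set_option autoImplicit false

noncomputable section

namespace CfsgLib.BrauerPairs

open Cfsg CfsgLib.Blocks

universe u

variable {M : Ideal AlgInt} [M.IsMaximal] {G : Type u} [Group G] [Fintype G] {p : ℕ}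

/-- The centraliser, as a subgroup. -/
abbrev Cen (Q : Subgroup G) : Subgroup G := Subgroup.centralizer (Q : Set G)

/-- The idempotent of a pair. -/
abbrev pid (M : Ideal AlgInt) [M.IsMaximal] (a : BrauerPairIdx G) : KG M G := gidem M (Cen a.1) a.2

/-- The blocks of a subgroup. -/
abbrev Blk (M : Ideal AlgInt) (H : Subgroup G) : Type u :=
  {f : Set (IrrCharacter H) // IsPBlock M f}

theorem isFixed_one (S : Subgroup G) : IsFixed (M := M) S 1 := fun v _ => map_one (cjA v)

theorem isFixed_sum {ι : Type*} (s : Finset ι) {S : Subgroup G} {x : ι → KG M G}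
    (h : ∀ i ∈ s, IsFixed S (x i)) : IsFixed S (∑ i ∈ s, x i) := fun v hv => by
  rw [map_sum]; exact Finset.sum_congr rfl fun i hi => h i hi v hv

theorem centralIn_sum {ι : Type*} (s : Finset ι) {H : Subgroup G} {x : ι → KG M G}
    (h : ∀ i ∈ s, CentralIn H (x i)) : CentralIn H (∑ i ∈ s, x i) :=
  ⟨fun g hg => by
    rw [MonoidAlgebra.coeff_sum, Finsupp.finsetSum_apply]
    exact Finset.sum_eq_zero fun i hi => (h i hi).1 g hg, isFixed_sum s fun i hi => (h i hi).2⟩

theorem centralIn_one (H : Subgroup G) : CentralIn (M := M) H 1 := by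
  classical
  refine ⟨fun g hg => ?_, isFixed_one H⟩
  rw [MonoidAlgebra.one_def, MonoidAlgebra.coeff_single, Finsupp.single_apply, if_neg]
  rintro rfl
  exact hg H.one_mem

theorem CentralIn.sub {H : Subgroup G} {x y : KG M G} (hx : CentralIn H x) (hy : CentralIn H y) :
    CentralIn H (x - y) :=
  ⟨fun g hg => by rw [MonoidAlgebra.coeff_sub, Finsupp.sub_apply, hx.1 g hg, hy.1 g hg, sub_zero],
    fun v hv => by rw [map_sub, hx.2 v hv, hy.2 v hv]⟩

theorem sum_mul_gidem (H : Subgroup G) [Fintype (Blk M H)] (f : Blk M H) :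
    (∑ i : Blk M H, gidem M H i.1) * gidem M H f.1 = gidem M H f.1 := by
  rw [Finset.sum_mul, Finset.sum_eq_single f (fun b _ hb =>
    gidem_mul_of_ne b.2 f.2 (fun h => hb (Subtype.ext h))) (by simp), gidem_mul_self f.2]

/-- The block idempotents of a subgroup sum to one. -/
theorem sum_gidem (H : Subgroup G) [Fintype (Blk M H)] :
    ∑ i : Blk M H, gidem M H i.1 = 1 := by
  set σ := ∑ i : Blk M H, gidem M H i.1 with hσ
  have hidσ : σ * σ = σ := by
    conv_lhs => arg 2; rw [hσ]
    rw [Finset.mul_sum]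
    exact Finset.sum_congr rfl fun i _ => sum_mul_gidem H i
  by_contra hne
  obtain ⟨f, hf, hocc⟩ := exists_occurs' (x := 1 - σ)
    ((centralIn_one H).sub (centralIn_sum _ fun i _ => centralIn_gidem i.1))
    (by rw [sub_mul, one_mul, mul_sub, mul_one, hidσ, sub_self, sub_zero])
    (sub_ne_zero.mpr (Ne.symm hne))
  rw [sub_mul, one_mul, sum_mul_gidem H ⟨f, hf⟩, sub_self] at hocc
  exact gidem_ne_zero hf hocc.symm

/-- The centraliser is permuted by the normaliser. -/
theorem cen_iff {Q : Subgroup G} {x : G} (hx : x ∈ Subgroup.normalizer (Q : Set G)) :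
    ∀ y, y ∈ Cen Q ↔ x⁻¹ * y * x ∈ Cen Q :=
  mem_normalizer_iff''.mp (mem_normalizer_centralizer hx)

theorem br_normalSubpair_idem (hM : IsPModular p M) {P : Subgroup G} (hP : IsPGroup p P)
    {Q : Subgroup G} {f : Set (IrrCharacter (Cen Q))} (hf : IsPBlock M f)
    (hfix : IsFixed P (gidem M (Cen Q) f)) :
    br P (gidem M (Cen Q) f) * br P (gidem M (Cen Q) f) = br P (gidem M (Cen Q) f) := by
  rw [← br_mul hM hP hfix hfix, gidem_mul_self hf]

/-- Below a pair there is exactly one pair normal in it on a given subgroup. -/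
theorem existsUnique_normal (hM : IsPModular p M) {Q P : Subgroup G} (hQP : Q ≤ P)
    (hPN : P ≤ Subgroup.normalizer (Q : Set G)) {e : Set (IrrCharacter (Cen P))}
    (hP : IsBrauerPair p M P e) : ∃! f, IsNormalSubpair p M Q f P e := by
  classical
  have hQp : IsPGroup p Q := hP.1.to_le hQP
  have := Fintype.ofFinite (Blk M (Cen Q))
  have := Fintype.ofFinite (Cen Q)
  let _ : MulAction P (Blk M (Cen Q)) :=
    { smul := fun x f => ⟨tblock (conjEquiv (x : G) _ _ (cen_iff (hPN x.2))) f.1,
        isPBlock_tblock _ f.2⟩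
      one_smul := fun f => Subtype.ext (gidem_inj (isPBlock_tblock _ f.2) f.2 (by
        show gidem M (Cen Q) (tblock _ f.1) = gidem M (Cen Q) f.1
        rw [gidem_tblock, Subgroup.coe_one, cjA_one]))
      mul_smul := fun x y f => Subtype.ext (gidem_inj (isPBlock_tblock _ f.2)
        (isPBlock_tblock _ (isPBlock_tblock _ f.2)) (by
        show gidem M (Cen Q) (tblock _ f.1) = gidem M (Cen Q) (tblock _ (tblock _ f.1))
        rw [gidem_tblock, gidem_tblock, gidem_tblock, cjA_cjA, Subgroup.coe_mul])) }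
  have hsmul : ∀ (x : P) (i : Blk M (Cen Q)),
      cjA (x : G) (gidem M (Cen Q) i.1) = gidem M (Cen Q) (x • i).1 := fun x i =>
    (gidem_tblock _ _ _).symm
  have hsum := sum_br_fixed hM hP.1 (fun i : Blk M (Cen Q) => gidem M (Cen Q) i.1) hsmul
  rw [sum_gidem, br_one] at hsum
  obtain ⟨i, hi, hne⟩ : ∃ i : Blk M (Cen Q), i ∈ MulAction.fixedPoints P (Blk M (Cen Q)) ∧
      br P (gidem M (Cen Q) i.1) * gidem M (Cen P) e ≠ 0 := by
    by_contra hc
    push Not at hc
    apply gidem_ne_zero hP.2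
    rw [← one_mul (gidem M (Cen P) e), hsum, Finset.sum_mul]
    exact Finset.sum_eq_zero fun i hi => hc i (Finset.mem_filter.mp hi).2
  have hfix : IsFixed P (gidem M (Cen Q) i.1) := fun x hx => by
    rw [hsmul ⟨x, hx⟩, MulAction.mem_fixedPoints.mp hi ⟨x, hx⟩]
  have hocc : br P (gidem M (Cen Q) i.1) * gidem M (Cen P) e = gidem M (Cen P) e :=
    (occurs_cases (centralIn_br ((centralIn_gidem i.1).2.mono (centralizer_anti hQP)))
      (br_normalSubpair_idem hM hP.1 i.2 hfix) hP.2).resolve_right hne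
  refine ⟨i.1, (normalSubpair_iff hM).mpr ⟨⟨hQp, i.2⟩, hP, hQP, hPN, hfix, hocc⟩, fun f' hf' => ?_⟩
  obtain ⟨hf, -, -, -, hfix', hocc'⟩ := (normalSubpair_iff hM).mp hf'
  by_contra hne'
  apply gidem_ne_zero hP.2
  rw [← hocc', ← hocc, ← mul_assoc, ← br_mul hM hP.1 hfix' hfix,
    gidem_mul_of_ne hf.2 i.2 hne', br_zero, zero_mul]

theorem normal_eq (hM : IsPModular p M) {Q P : Subgroup G} {f f' : Set (IrrCharacter (Cen Q))}
    {e : Set (IrrCharacter (Cen P))} (h : IsNormalSubpair p M Q f P e)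
    (h' : IsNormalSubpair p M Q f' P e) : f = f' :=
  (existsUnique_normal hM h.2.2.1 h.2.2.2.1 h.2.1).unique h h'

/-- Transitivity of normal inclusion. -/
theorem normal_trans (hM : IsPModular p M) {Q R S : Subgroup G} {f : Set (IrrCharacter (Cen Q))}
    {g : Set (IrrCharacter (Cen R))} {h : Set (IrrCharacter (Cen S))}
    (h₁ : IsNormalSubpair p M Q f R g) (h₂ : IsNormalSubpair p M R g S h)
    (hS : S ≤ Subgroup.normalizer (Q : Set G)) : IsNormalSubpair p M Q f S h := by
  obtain ⟨-, hR, hQR, hRN, -, -⟩ := (normalSubpair_iff hM).mp h₁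
  obtain ⟨-, hSp, hRS, hSN, hgfix, hgh⟩ := (normalSubpair_iff hM).mp h₂
  obtain ⟨f', hf', -⟩ := existsUnique_normal hM (hQR.trans hRS) hS hSp
  obtain ⟨hf'p, -, -, -, hf'fix, hf'h⟩ := (normalSubpair_iff hM).mp hf'
  have hx : CentralIn (Cen R) (br R (gidem M (Cen Q) f')) :=
    centralIn_br ((centralIn_gidem f').2.mono (centralizer_anti hQR))
  rcases occurs_cases hx (br_normalSubpair_idem hM hR.1 hf'p.2 (hf'fix.mono hRS)) hR.2 with hc | hc
  · rwa [normal_eq hM h₁ ((normalSubpair_iff hM).mpr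
      ⟨hf'p, hR, hQR, hRN, hf'fix.mono hRS, hc⟩)]
  · exfalso
    apply gidem_ne_zero hSp.2
    have h0 := congrArg (br S) hc
    rw [br_zero, br_mul hM hSp.1 (hf'fix.br hSN) hgfix, br_br hRS] at h0
    rw [← hf'h, ← hgh, ← mul_assoc, h0, zero_mul]

theorem subgroup_le {a b : BrauerPairIdx G} (h : Relation.ReflTransGen (NormalSubpairRel p M) a b) :
    a.1 ≤ b.1 := by
  induction h with
  | refl => exact le_rfl
  | tail _ hbc ih => exact ih.trans hbc.2.2.1

theorem isBrauerPair_left {a b : BrauerPairIdx G}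
    (h : Relation.ReflTransGen (NormalSubpairRel p M) a b) (hb : IsBrauerPair p M b.1 b.2) :
    IsBrauerPair p M a.1 a.2 := by
  rcases Relation.ReflTransGen.cases_head h with rfl | ⟨c, hc, -⟩
  · exact hb
  · exact hc.1

/-- A normal step followed by a chain inside the normaliser is a normal step. -/
theorem normal_of_step (hM : IsPModular p M) {a c n : BrauerPairIdx G}
    (h₁ : NormalSubpairRel p M a c) (h₂ : Relation.ReflTransGen (NormalSubpairRel p M) c n)
    (hn : n.1 ≤ Subgroup.normalizer (a.1 : Set G)) : NormalSubpairRel p M a n := by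
  induction h₂ with
  | refl => exact h₁
  | tail _ hbd ih => exact normal_trans hM (ih (hbd.2.2.1.trans hn)) hbd hn

/-- A normal step within one subgroup is trivial. -/
theorem normal_same (hM : IsPModular p M) {Q : Subgroup G} {f g : Set (IrrCharacter (Cen Q))}
    (h : IsNormalSubpair p M Q f Q g) : f = g := by
  obtain ⟨hf, hg, -, -, -, he⟩ := (normalSubpair_iff hM).mp h
  by_contra hne
  apply gidem_ne_zero hg.2
  rw [← he, br_eq_self (centralIn_gidem f).1, gidem_mul_of_ne hf.2 hg.2 hne]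

theorem exists_normalizer_gt [hp : Fact p.Prime] {Q P : Subgroup G} (hP : IsPGroup p P) (hQP : Q < P) :
    Q < P ⊓ Subgroup.normalizer (Q : Set G) := by
  have : Group.IsNilpotent P := hP.isNilpotent
  have hlt : Q.subgroupOf P < ⊤ := lt_top_iff_ne_top.mpr fun h =>
    hQP.not_ge (Subgroup.subgroupOf_eq_top.mp h)
  obtain ⟨y, hyN, hyQ⟩ := SetLike.exists_of_lt
    ((Group.normalizerCondition_of_isNilpotent (G := P)) _ hlt)
  refine lt_of_le_of_ne (le_inf hQP.le Subgroup.le_normalizer) fun h => ?_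
  refine hyQ (Subgroup.mem_subgroupOf.mpr (show (y : G) ∈ Q from ?_))
  rw [h]
  refine ⟨y.2, Subgroup.mem_set_normalizer_iff.mpr fun z => ?_⟩
  rw [Subgroup.mem_set_normalizer_iff] at hyN
  refine ⟨fun hz => ?_, fun hz => ?_⟩
  · exact Subgroup.mem_subgroupOf.mp ((hyN ⟨z, hQP.le hz⟩).mp (Subgroup.mem_subgroupOf.mpr hz))
  · have hzP : z ∈ P := by
      simpa [mul_assoc] using P.mul_mem (P.mul_mem (P.inv_mem y.2) (hQP.le hz)) y.2
    exact Subgroup.mem_subgroupOf.mp ((hyN ⟨z, hzP⟩).mpr (Subgroup.mem_subgroupOf.mpr hz))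

theorem card_lt_card_of_lt {A B : Subgroup G} (h : A < B) : Nat.card A < Nat.card B :=
  Set.Finite.card_lt_card (Set.toFinite _) (SetLike.coe_ssubset_coe.mpr h)

theorem exists_unique_subpair_aux (hM : IsPModular p M) [Fact p.Prime] :
    ∀ (k : ℕ) (Q : Subgroup G) (b : BrauerPairIdx G), IsBrauerPair p M b.1 b.2 → Q ≤ b.1 →
      Nat.card b.1 - Nat.card Q = k →
      ∃! f : Set (IrrCharacter (Cen Q)), SubpairLE p M Q f b.1 b.2 := by
  intro k
  induction k using Nat.strong_induction_on with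
  | _ k ih =>
  intro Q b hb hQ hk
  rcases hQ.eq_or_lt with rfl | hlt
  · refine ⟨b.2, Relation.ReflTransGen.refl, fun f hf => ?_⟩
    have key : ∀ a : BrauerPairIdx G, Relation.ReflTransGen (NormalSubpairRel p M) a b →
        a.1 = b.1 → a = b := by
      intro a ha
      induction ha using Relation.ReflTransGen.head_induction_on with
      | refl => exact fun _ => rfl
      | @head a c hac hcb ih' =>
        intro hab
        obtain rfl : c = b := ih' (le_antisymm (subgroup_le hcb) (hab ▸ hac.2.2.1))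
        obtain ⟨aQ, af⟩ := a
        dsimp at hab
        subst hab
        exact congrArg (Sigma.mk c.1) (normal_same hM hac)
    exact eq_of_heq (Sigma.mk.inj (key ⟨b.1, f⟩ hf rfl)).2
  · set N := b.1 ⊓ Subgroup.normalizer (Q : Set G) with hN
    have hQN : Q < N := exists_normalizer_gt hb.1 hlt
    obtain ⟨n, hn, -⟩ := ih _ (by
      have := card_lt_card_of_lt hQN
      have := card_lt_card_of_lt hlt
      omega) N b hb inf_le_left rfl
    have hnp : IsBrauerPair p M N n := isBrauerPair_left (a := ⟨N, n⟩) hn hb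
    obtain ⟨f₀, hf₀, huniq⟩ := existsUnique_normal hM hQN.le inf_le_right hnp
    have hstep : NormalSubpairRel p M ⟨Q, f₀⟩ ⟨N, n⟩ := hf₀
    have hn' : Relation.ReflTransGen (NormalSubpairRel p M) ⟨N, n⟩ b := hn
    refine ⟨f₀, Relation.ReflTransGen.head hstep hn', fun f hf => ?_⟩
    have key : ∀ a : BrauerPairIdx G, Relation.ReflTransGen (NormalSubpairRel p M) a b →
        a.1 = Q → a = ⟨Q, f₀⟩ := by
      intro a ha
      induction ha using Relation.ReflTransGen.head_induction_on with
      | refl => exact fun h => absurd h hlt.ne'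
      | @head a c hac hcb ih' =>
        intro haQ
        obtain ⟨aQ, af⟩ := a
        dsimp at haQ
        subst haQ
        by_cases hc : c.1 = aQ
        · obtain rfl : c = ⟨aQ, f₀⟩ := ih' hc
          exact congrArg (Sigma.mk aQ) (normal_same hM hac)
        · have hR : aQ < c.1 := lt_of_le_of_ne hac.2.2.1 (Ne.symm hc)
          have hRN : c.1 ≤ N := le_inf (subgroup_le hcb) hac.2.2.2.1
          have h1 := card_lt_card_of_lt hR
          have h2 : Nat.card c.1 ≤ Nat.card N := Subgroup.card_le_of_le hRN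
          have hle : N ≤ b.1 := inf_le_left
          have h3 : Nat.card N ≤ Nat.card b.1 := Subgroup.card_le_of_le hle
          obtain ⟨g', hg', -⟩ := ih (Nat.card N - Nat.card c.1) (by omega) c.1 ⟨N, n⟩ hnp hRN rfl
          obtain ⟨g₀, -, hu⟩ := ih _ (by omega) c.1 b hb (subgroup_le hcb) rfl
          have hcg : c.2 = g' := (hu _ hcb).trans (hu _ (hg'.trans hn)).symm
          have hcn : Relation.ReflTransGen (NormalSubpairRel p M) c ⟨N, n⟩ := by
            obtain ⟨cR, cg⟩ := c
            dsimp at hcg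
            subst hcg
            exact hg'
          exact congrArg (Sigma.mk aQ) (huniq _ (normal_of_step hM hac hcn inf_le_right))
    exact eq_of_heq (Sigma.mk.inj (key ⟨Q, f⟩ hf rfl)).2

/-- Below a pair there is exactly one pair on each smaller subgroup. -/
theorem existsUnique_subpair (hM : IsPModular p M) {Q P : Subgroup G} (hQ : Q ≤ P)
    {e : Set (IrrCharacter (Cen P))} (hP : IsBrauerPair p M P e) :
    ∃! f : Set (IrrCharacter (Cen Q)), SubpairLE p M Q f P e :=
  have : Fact p.Prime := ⟨hM.1⟩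
  exists_unique_subpair_aux hM _ Q ⟨P, e⟩ hP hQ rfl

theorem subpair_eq (hM : IsPModular p M) {Q P : Subgroup G} {f f' : Set (IrrCharacter (Cen Q))}
    {e : Set (IrrCharacter (Cen P))} (hP : IsBrauerPair p M P e) (h : SubpairLE p M Q f P e)
    (h' : SubpairLE p M Q f' P e) : f = f' :=
  (existsUnique_subpair hM (subgroup_le h) hP).unique h h'

/-- An inclusion inside the normaliser is normal. -/
theorem normal_of_subpair (hM : IsPModular p M) {Q P : Subgroup G} {f : Set (IrrCharacter (Cen Q))}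
    {e : Set (IrrCharacter (Cen P))} (hP : IsBrauerPair p M P e) (h : SubpairLE p M Q f P e)
    (hN : P ≤ Subgroup.normalizer (Q : Set G)) : IsNormalSubpair p M Q f P e := by
  obtain ⟨f', hf', -⟩ := existsUnique_normal (Q := Q) (P := P) hM (subgroup_le h) hN hP
  rwa [subpair_eq hM hP h (Relation.ReflTransGen.single hf')]

/-- A pair below a pair below is below. -/
theorem subpair_of_le (hM : IsPModular p M) {Q R P : Subgroup G} {f : Set (IrrCharacter (Cen Q))}
    {g : Set (IrrCharacter (Cen R))} {e : Set (IrrCharacter (Cen P))}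
    (hP : IsBrauerPair p M P e) (hQR : Q ≤ R) (hf : SubpairLE p M Q f P e)
    (hg : SubpairLE p M R g P e) : SubpairLE p M Q f R g := by
  obtain ⟨f', hf', -⟩ := existsUnique_subpair hM hQR (isBrauerPair_left (a := ⟨R, g⟩) hg hP)
  rwa [subpair_eq hM hP hf (hf'.trans hg)]

/-! ## The block of a pair -/

theorem br_top_idem (hM : IsPModular p M) {B : Set (IrrCharacter G)} (hB : IsPBlock M B)
    {P : Subgroup G} (hP : IsPGroup p P) :
    br P (gidemTop M B) * br P (gidemTop M B) = br P (gidemTop M B) := by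
  rw [← br_mul hM hP (isFixed_gidemTop P B) (isFixed_gidemTop P B), gidemTop_mul_self hB]

/-- Every pair belongs to exactly one block. -/
theorem existsUnique_block (hM : IsPModular p M) {P : Subgroup G} {e : Set (IrrCharacter (Cen P))}
    (hP : IsBrauerPair p M P e) : ∃! B, IsBrauerPairOf p M B P e := by
  classical
  have := Fintype.ofFinite {B : Set (IrrCharacter G) // IsPBlock M B}
  have hsum : ∑ B : {B : Set (IrrCharacter G) // IsPBlock M B}, gidemTop M B.1 = 1 := by
    have h : ∑ B : {B : Set (IrrCharacter G) // IsPBlock M B}, idem B.2 = 1 := by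
      refine Zint_ext fun η => ?_
      rw [map_sum, map_one, Finset.sum_eq_single ⟨_, isPBlock_blockOf (M := M) η⟩ (fun b _ hb => by
        rw [zomega_idem, if_neg fun h => hb (Subtype.ext (isPBlock_eq_blockOf b.2 h))]) (by simp),
        zomega_idem, if_pos (mem_blockOf_self η)]
    rw [← map_one (red (M := M) (G := G)), ← h, map_sum]
    exact Finset.sum_congr rfl fun B _ => gidemTop_eq B.2
  have hcases : ∀ B : {B : Set (IrrCharacter G) // IsPBlock M B},
      br P (gidemTop M B.1) * gidem M (Cen P) e = gidem M (Cen P) e ∨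
        br P (gidemTop M B.1) * gidem M (Cen P) e = 0 := fun B =>
    occurs_cases (centralIn_br (isFixed_gidemTop _ B.1)) (br_top_idem hM B.2 hP.1) hP.2
  obtain ⟨B, hB⟩ : ∃ B : {B : Set (IrrCharacter G) // IsPBlock M B},
      br P (gidemTop M B.1) * gidem M (Cen P) e = gidem M (Cen P) e := by
    by_contra hc
    push Not at hc
    apply gidem_ne_zero hP.2
    rw [← one_mul (gidem M (Cen P) e), ← br_one (M := M) P, ← hsum, br_sum, Finset.sum_mul]
    exact Finset.sum_eq_zero fun B _ => (hcases B).resolve_left (hc B)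
  refine ⟨B.1, (brauerPairOf_iff hM).mpr ⟨hP, B.2, hB⟩, fun B' hB' => ?_⟩
  obtain ⟨-, hB'b, hB'e⟩ := (brauerPairOf_iff hM).mp hB'
  by_contra hne
  apply gidem_ne_zero hP.2
  rw [← hB'e, ← hB, ← mul_assoc, ← br_mul hM hP.1 (isFixed_gidemTop P _) (isFixed_gidemTop P _),
    gidemTop_eq hB'b, gidemTop_eq B.2, ridem_mul_of_ne hB'b B.2 hne, br_zero, zero_mul]

theorem brauerPairOf_up (hM : IsPModular p M) {B : Set (IrrCharacter G)} {Q P : Subgroup G}
    {f : Set (IrrCharacter (Cen Q))} {e : Set (IrrCharacter (Cen P))}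
    (h : IsNormalSubpair p M Q f P e) (hQ : IsBrauerPairOf p M B Q f) :
    IsBrauerPairOf p M B P e := by
  obtain ⟨-, hP, hQP, hPN, hfix, hocc⟩ := (normalSubpair_iff hM).mp h
  obtain ⟨-, hB, hBf⟩ := (brauerPairOf_iff hM).mp hQ
  refine (brauerPairOf_iff hM).mpr ⟨hP, hB, ?_⟩
  have h0 := congrArg (br P) hBf
  rw [br_mul hM hP.1 ((isFixed_gidemTop P B).br hPN) hfix, br_br hQP] at h0
  conv_lhs => rw [← hocc, ← mul_assoc, h0]
  exact hocc

/-- Pairs comparable by inclusion belong to the same blocks. -/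
theorem brauerPairOf_iff_of_subpair (hM : IsPModular p M) {B : Set (IrrCharacter G)}
    {a b : BrauerPairIdx G} (h : Relation.ReflTransGen (NormalSubpairRel p M) a b) :
    IsBrauerPairOf p M B b.1 b.2 ↔ IsBrauerPairOf p M B a.1 a.2 := by
  induction h with
  | refl => exact Iff.rfl
  | tail _ hbc ih =>
    refine Iff.trans ⟨fun hc => ?_, fun hb => brauerPairOf_up hM hbc hb⟩ ih
    obtain ⟨B', hB', -⟩ := existsUnique_block hM hbc.1
    rwa [(existsUnique_block hM hbc.2.1).unique hc (brauerPairOf_up hM hbc hB')]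

/-! ## Conjugation -/

/-- The conjugate of a pair. -/
def cjPair (x : G) (a : BrauerPairIdx G) : BrauerPairIdx G :=
  ⟨a.1.map (MulAut.conj x).toMonoidHom, conjBlock a.1 x a.2⟩

omit [Fintype G] in
theorem cjPair_fst (x : G) (a : BrauerPairIdx G) :
    (cjPair x a).1 = a.1.map (MulAut.conj x).toMonoidHom := rfl

omit [M.IsMaximal] in
theorem conjBlock_eq_tblock (Q : Subgroup G) (x : G) (f : Set (IrrCharacter (Cen Q))) :
    conjBlock Q x f = tblock
      (conjEquiv x (Cen Q) (Cen (Q.map (MulAut.conj x).toMonoidHom))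
        (fun _ => mem_centralizer_map_conj)) f := by
  ext ξ'
  refine exists_congr fun ξ => and_congr_right fun _ => ⟨fun h => funext fun c => h c _ rfl, ?_⟩
  intro h c c' hc
  have hc' : c' = conjEquiv x (Cen Q) (Cen (Q.map (MulAut.conj x).toMonoidHom))
      (fun _ => mem_centralizer_map_conj) c := Subtype.ext hc
  rw [hc']
  exact congrFun h c

theorem pid_cjPair (x : G) (a : BrauerPairIdx G) : pid M (cjPair x a) = cjA x (pid M a) := by
  show gidem M _ (conjBlock a.1 x a.2) = _
  rw [conjBlock_eq_tblock, gidem_tblock]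

theorem isBrauerPair_cjPair (x : G) {a : BrauerPairIdx G} (h : IsBrauerPair p M a.1 a.2) :
    IsBrauerPair p M (cjPair x a).1 (cjPair x a).2 := by
  have := Fintype.ofFinite (Cen a.1)
  have := Fintype.ofFinite (Cen (a.1.map (MulAut.conj x).toMonoidHom))
  refine ⟨h.1.map _, ?_⟩
  show IsPBlock M (conjBlock a.1 x a.2)
  rw [conjBlock_eq_tblock]
  exact isPBlock_tblock _ h.2

theorem pair_ext {a b : BrauerPairIdx G} (ha : IsPBlock M a.2) (hb : IsPBlock M b.2)
    (h₁ : a.1 = b.1) (h₂ : pid M a = pid M b) : a = b := by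
  obtain ⟨Q, f⟩ := a
  obtain ⟨R, g⟩ := b
  dsimp at h₁
  subst h₁
  exact congrArg (Sigma.mk Q) (gidem_inj ha hb h₂)

omit [Fintype G] in
theorem map_conj_map_conj (x y : G) (P : Subgroup G) :
    (P.map (MulAut.conj y).toMonoidHom).map (MulAut.conj x).toMonoidHom =
      P.map (MulAut.conj (x * y)).toMonoidHom := by
  rw [Subgroup.map_map]
  congr 1
  ext z
  simp [mul_assoc]

theorem cjPair_cjPair (x y : G) {a : BrauerPairIdx G} (h : IsBrauerPair p M a.1 a.2) :
    cjPair x (cjPair y a) = cjPair (x * y) a :=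
  pair_ext (M := M) (isBrauerPair_cjPair x (isBrauerPair_cjPair y h)).2 (isBrauerPair_cjPair _ h).2
    (map_conj_map_conj x y a.1) (by rw [pid_cjPair, pid_cjPair, pid_cjPair, cjA_cjA])

theorem cjPair_one {a : BrauerPairIdx G} (h : IsBrauerPair p M a.1 a.2) : cjPair 1 a = a :=
  pair_ext (M := M) (isBrauerPair_cjPair 1 h).2 h.2
    (map_conj_eq_self (Subgroup.one_mem _)) (by rw [pid_cjPair, cjA_one])

theorem isFixed_cjA {S : Subgroup G} {z : KG M G} (x : G) (h : IsFixed S z) :
    IsFixed (S.map (MulAut.conj x).toMonoidHom) (cjA x z) := by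
  intro v hv
  obtain ⟨w, hw, rfl⟩ := Subgroup.mem_map.mp hv
  show cjA (x * w * x⁻¹) (cjA x z) = cjA x z
  rw [cjA_cjA, inv_mul_cancel_right, ← cjA_cjA, h w hw]

theorem normal_cjPair (hM : IsPModular p M) (x : G) {a b : BrauerPairIdx G}
    (h : NormalSubpairRel p M a b) : NormalSubpairRel p M (cjPair x a) (cjPair x b) := by
  obtain ⟨ha, hb, hle, hN, hfix, hocc⟩ := (normalSubpair_iff hM).mp h
  refine (normalSubpair_iff hM).mpr ⟨isBrauerPair_cjPair x ha, isBrauerPair_cjPair x hb,
    Subgroup.map_mono hle, ?_, ?_, ?_⟩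
  · rintro _ ⟨v, hv, rfl⟩
    rw [Subgroup.mem_set_normalizer_iff]
    intro z
    simp only [cjPair, SetLike.mem_coe, Subgroup.mem_map, MulEquiv.coe_toMonoidHom,
      MulAut.conj_apply]
    have hv' := Subgroup.mem_set_normalizer_iff.mp (hN hv)
    constructor
    · rintro ⟨w, hw, rfl⟩
      exact ⟨v * w * v⁻¹, (hv' w).mp hw, by group⟩
    · rintro ⟨w, hw, hwe⟩
      refine ⟨v⁻¹ * w * v, (hv' _).mpr (by simpa [mul_assoc] using hw), ?_⟩
      have h1 : w = x⁻¹ * (x * v * x⁻¹ * z * (x * v * x⁻¹)⁻¹) * x := by rw [← hwe]; group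
      rw [h1]
      group
  · show IsFixed _ (pid M (cjPair x a))
    rw [pid_cjPair]
    exact isFixed_cjA x hfix
  · show br _ (pid M (cjPair x a)) * pid M (cjPair x b) = pid M (cjPair x b)
    rw [pid_cjPair, pid_cjPair, cjPair_fst, ← cjA_br, ← map_mul, hocc]

theorem subpair_cjPair (hM : IsPModular p M) (x : G) {a b : BrauerPairIdx G}
    (h : Relation.ReflTransGen (NormalSubpairRel p M) a b) :
    Relation.ReflTransGen (NormalSubpairRel p M) (cjPair x a) (cjPair x b) :=
  h.lift (cjPair x) fun _ _ => normal_cjPair hM x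

theorem brauerPairOf_cjPair (hM : IsPModular p M) (x : G) {B : Set (IrrCharacter G)}
    {a : BrauerPairIdx G} (h : IsBrauerPairOf p M B a.1 a.2) :
    IsBrauerPairOf p M B (cjPair x a).1 (cjPair x a).2 := by
  obtain ⟨ha, hB, hocc⟩ := (brauerPairOf_iff hM).mp h
  refine (brauerPairOf_iff hM).mpr ⟨isBrauerPair_cjPair x ha, hB, ?_⟩
  show br _ (gidemTop M B) * pid M (cjPair x a) = pid M (cjPair x a)
  rw [pid_cjPair, cjPair_fst, ← cjA_gidemTop x B, ← cjA_br, ← map_mul, hocc]

end CfsgLib.BrauerPairs
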