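import Cfsg.Agent.Lib.BrauerPairs.Fusion
import Cfsg.Agent.Lib.Fusion.Basic

/-!
# The fusion system of a block exists and is saturated

* `pair_eq_of_le`, `blockFusion`, `blockFusion_spec`;
* `exists_mul_of_mem_sup`, `autGroup_eq_range`;
* `isReceptive_of_fullyCentralized`, `isFullyAutomized_of_fullyNormalized`;
* `exists_fullyNormalized`, `isSaturated_block`.
-/

set_option autoImplicit false

noncomputable section

namespace CfsgLib.BrauerPairs

open Cfsg CfsgLib.Blocks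

universe u

variable {M : Ideal AlgInt} [M.IsMaximal] {G : Type u} [Group G] [Fintype G] {p : ℕ}

theorem pair_eq_of_le (hM : IsPModular p M) {P : Subgroup G} {e : Set (IrrCharacter (Cen P))}
    (hP : IsBrauerPair p M P e) {a b : BrauerPairIdx G}
    (ha : Relation.ReflTransGen (NormalSubpairRel p M) a ⟨P, e⟩)
    (hb : Relation.ReflTransGen (NormalSubpairRel p M) b ⟨P, e⟩) (h : a.1 = b.1) : a = b := by
  obtain ⟨A, fa⟩ := a
  obtain ⟨A', fb⟩ := b
  obtain rfl : A = A' := h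
  rw [subpair_eq hM hP ha hb]

omit [Fintype G] in
theorem conjHom_range_inv {Q R : Subgroup G} {g : G} (h : R = Q.map (MulAut.conj g).toMonoidHom) :
    (conjHom R g⁻¹).range = Q := by
  subst h
  rw [conjHom_range, map_conj_map_conj, inv_mul_cancel, map_conj_eq_self (Subgroup.one_mem _)]

omit [Fintype G] in
theorem exists_mul_of_mem_sup {H K : Subgroup G} (h : H ≤ Subgroup.normalizer (K : Set G)) {x : G}
    (hx : x ∈ H ⊔ K) : ∃ a ∈ H, ∃ b ∈ K, x = a * b := by
  have h1 : x ∈ ((H ⊔ K : Subgroup G) : Set G) := hx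
  rw [Subgroup.coe_mul_of_left_le_normalizer_right H K h] at h1
  obtain ⟨a, ha, b, hb, rfl⟩ := h1
  exact ⟨a, ha, b, hb, rfl⟩

/-- The fusion system of a block on a maximal Brauer pair. -/
def blockFusion (hM : IsPModular p M) {B : Set (IrrCharacter G)} {P : Subgroup G}
    {e : Set (IrrCharacter (Cen P))} (hmax : IsMaximalBrauerPair p M B P e) : FusionSystem P where
  Hom Q := {φ | Q ≤ P ∧ ∃ g : G, (∀ u : Q, φ u = g * (u : G) * g⁻¹) ∧
    Q.map (MulAut.conj g).toMonoidHom ≤ P ∧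
    ∃ f : Set (IrrCharacter (Subgroup.centralizer (Q : Set G))),
      SubpairLE p M Q f P e ∧
        SubpairLE p M (Q.map (MulAut.conj g).toMonoidHom) (conjBlock Q g f) P e}
  le_of_mem := by
    rintro Q φ ⟨hQ, g, hg, hgP, -⟩
    exact ⟨hQ, fun x => hgP ⟨x, x.2, (hg x).symm⟩⟩
  injective_of_mem := by
    rintro Q φ ⟨-, g, hg, -⟩ a b hab
    rw [hg, hg] at hab
    exact Subtype.ext (mul_left_cancel (mul_right_cancel hab))
  conj_mem := by
    intro Q g hQ hg
    obtain ⟨f, hf, -⟩ := existsUnique_subpair hM hQ hmax.1.1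
    have h1 := subpair_cjPair hM g (a := ⟨Q, f⟩) (b := ⟨P, e⟩) hf
    rw [cjPair_self (a := ⟨P, e⟩) hmax.1.1 hg] at h1
    exact ⟨hQ, g, fun u => by simp [conjHom], subgroup_le h1, f, hf, h1⟩
  comp_mem := by
    rintro Q R φ ψ ⟨hQ, g, hg, hgP, f, hf, hgf⟩ ⟨hR, k, hk, hkP, f', hf', hkf⟩ h
    have hle : Q.map (MulAut.conj g).toMonoidHom ≤ R := by
      rintro _ ⟨x, hx, rfl⟩
      show g * x * g⁻¹ ∈ R
      rw [← hg ⟨x, hx⟩]
      exact h _
    have h1 : Relation.ReflTransGen (NormalSubpairRel p M) (cjPair (k * g) ⟨Q, f⟩) ⟨P, e⟩ := by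
      rw [← cjPair_cjPair k g (isBrauerPair_left (a := ⟨Q, f⟩) hf hmax.1.1)]
      exact (subpair_cjPair hM k
        (subpair_of_le hM hmax.1.1 hle hgf hf' :
          Relation.ReflTransGen (NormalSubpairRel p M) (cjPair g ⟨Q, f⟩) ⟨R, f'⟩)).trans hkf
    refine ⟨hQ, k * g, fun u => ?_, subgroup_le h1, f, hf, h1⟩
    show ψ (φ.codRestrict R h u) = _
    rw [hk]
    show k * φ u * k⁻¹ = _
    rw [hg, mul_inv_rev]
    simp only [mul_assoc]
  inv_mem := by
    rintro Q φ ⟨hQ, g, hg, hgP, f, hf, hgf⟩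
    rw [eq_conjHom hg]
    have hr := conjHom_range Q g
    refine ⟨conjHom _ g⁻¹, ?_, fun x => ?_⟩
    · suffices h : ∀ R : Subgroup G, R = Q.map (MulAut.conj g).toMonoidHom →
          R ≤ P ∧ ∃ k : G, (∀ u : R, conjHom R g⁻¹ u = k * (u : G) * k⁻¹) ∧
            R.map (MulAut.conj k).toMonoidHom ≤ P ∧
            ∃ f' : Set (IrrCharacter (Subgroup.centralizer (R : Set G))),
              SubpairLE p M R f' P e ∧
                SubpairLE p M (R.map (MulAut.conj k).toMonoidHom) (conjBlock R k f') P e from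
        h _ hr
      rintro _ rfl
      refine ⟨hgP, g⁻¹, fun u => rfl, ?_, conjBlock Q g f, hgf, ?_⟩
      · rw [map_conj_inv_map]; exact hQ
      · show Relation.ReflTransGen _ (cjPair g⁻¹ (cjPair g ⟨Q, f⟩)) _
        rw [cjPair_cjPair g⁻¹ g (isBrauerPair_left (a := ⟨Q, f⟩) hf hmax.1.1), inv_mul_cancel,
          cjPair_one (isBrauerPair_left (a := ⟨Q, f⟩) hf hmax.1.1)]
        exact hf
    · show g⁻¹ * (g * (x : G) * g⁻¹) * g⁻¹⁻¹ = x
      group

theorem blockFusion_spec (hM : IsPModular p M) {B : Set (IrrCharacter G)} {P : Subgroup G}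
    {e : Set (IrrCharacter (Cen P))} (hmax : IsMaximalBrauerPair p M B P e) :
    IsBlockFusionSystemOn p M B P e (blockFusion hM hmax) :=
  ⟨hmax, fun _ _ => Iff.rfl⟩

/-- Every subgroup is conjugate to a fully normalised one. -/
theorem exists_fullyNormalized {P : Subgroup G} (F : FusionSystem P) {Q : Subgroup G} (hQ : Q ≤ P) :
    ∃ R : Subgroup G, F.IsConj Q R ∧ F.IsFullyNormalized R := by
  classical
  obtain ⟨R, hR, hmax⟩ := (Finset.univ.filter (fun R : Subgroup G => F.IsConj Q R)).exists_max_image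
    (fun R => Nat.card (FusionSystem.normalizerIn P R))
    ⟨Q, Finset.mem_filter.mpr ⟨Finset.mem_univ _, Fusion.isConj_refl hQ⟩⟩
  have hR' := (Finset.mem_filter.mp hR).2
  exact ⟨R, hR', Fusion.le_right_of_isConj hR', fun R' hR'' =>
    hmax R' (Finset.mem_filter.mpr ⟨Finset.mem_univ _, Fusion.isConj_trans hR' hR''⟩)⟩

variable [hp : Fact p.Prime]

/-- Fully centralised subgroups are receptive. -/
theorem isReceptive_of_fullyCentralized (hM : IsPModular p M) {B : Set (IrrCharacter G)}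
    {P : Subgroup G} {e : Set (IrrCharacter (Cen P))} {F : FusionSystem P}
    (hF : IsBlockFusionSystemOn p M B P e F) {R : Subgroup G} (hfc : F.IsFullyCentralized R) :
    F.IsReceptive R := by
  refine ⟨hfc.1, fun Q φ hφ hr => ?_⟩
  have hP := hF.1.1.1
  obtain ⟨f, hle, -⟩ := existsUnique_subpair hM (F.le_of_mem hφ).1 hP
  obtain ⟨g, hg, hgf⟩ := (mem_hom_iff hM hF hle φ).mp hφ
  rw [eq_conjHom hg, conjHom_range] at hr
  subst hr
  set R := Q.map (MulAut.conj g).toMonoidHom with hR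
  set f' := conjBlock Q g f with hf'
  have hle' : SubpairLE p M R f' P e := hgf
  have hfR := isBrauerPair_left (a := ⟨R, f'⟩) hle' hP
  have hD := (fullyCentralized_iff hM hF hle').mp hfc
  set S := P ⊓ Subgroup.normalizer (R : Set G) with hS
  have hQP : Q ≤ P := subgroup_le (a := ⟨Q, f⟩) (b := ⟨P, e⟩) hle
  have hφR : ∀ x : Q, φ x ∈ R := fun x => ⟨x, x.2, (hg x).symm⟩
  have hRP : R ≤ P := hfc.1
  set N := FusionSystem.extender P Q φ with hN
  have hNle : N ≤ (P ⊓ Subgroup.normalizer (Q : Set G)) ⊓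
      (S ⊔ Cen R).comap (MulAut.conj g).toMonoidHom := by
    rw [hN, FusionSystem.extender, Subgroup.closure_le]
    rintro x ⟨hxP, hxN, h, hhP, hh⟩
    refine ⟨⟨hxP, hxN⟩, ?_⟩
    show g * x * g⁻¹ ∈ S ⊔ Cen R
    have h1 : ∀ y ∈ Q, g * (x * y * x⁻¹) * g⁻¹ = h * (g * y * g⁻¹) * h⁻¹ := fun y hy => by
      have hy' : x * y * x⁻¹ ∈ Q := (Subgroup.mem_set_normalizer_iff.mp hxN y).mp hy
      have := hh ⟨y, hy⟩ hy'
      rwa [hg, hg] at this
    have hhN : h ∈ Subgroup.normalizer (R : Set G) := by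
      rw [Subgroup.mem_normalizer_iff_map_conj_eq]
      ext z
      constructor
      · rintro ⟨_, ⟨y, hy, rfl⟩, rfl⟩
        exact ⟨x * y * x⁻¹, (Subgroup.mem_set_normalizer_iff.mp hxN y).mp hy, h1 y hy⟩
      · rintro ⟨y, hy, rfl⟩
        have hy' : x⁻¹ * y * x ∈ Q := (mem_normalizer_iff''.mp hxN y).mp hy
        refine ⟨g * (x⁻¹ * y * x) * g⁻¹, ⟨_, hy', rfl⟩, ?_⟩
        show h * (g * (x⁻¹ * y * x) * g⁻¹) * h⁻¹ = g * y * g⁻¹
        rw [← h1 _ hy']
        group
    have hc : h⁻¹ * (g * x * g⁻¹) ∈ Cen R := by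
      rw [Subgroup.mem_centralizer_iff]
      rintro _ ⟨y, hy, rfl⟩
      show g * y * g⁻¹ * (h⁻¹ * (g * x * g⁻¹)) = h⁻¹ * (g * x * g⁻¹) * (g * y * g⁻¹)
      symm
      calc h⁻¹ * (g * x * g⁻¹) * (g * y * g⁻¹)
          = h⁻¹ * (g * (x * y * x⁻¹) * g⁻¹) * (g * x * g⁻¹) := by group
        _ = h⁻¹ * (h * (g * y * g⁻¹) * h⁻¹) * (g * x * g⁻¹) := by rw [h1 y hy]
        _ = g * y * g⁻¹ * (h⁻¹ * (g * x * g⁻¹)) := by group
    have := Subgroup.mul_mem _ ((le_sup_left : S ≤ S ⊔ Cen R) ⟨hhP, hhN⟩)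
      ((le_sup_right : Cen R ≤ S ⊔ Cen R) hc)
    rwa [mul_inv_cancel_left] at this
  have hQN : Q ≤ N := fun x hx => Subgroup.subset_closure
    ⟨hQP hx, Subgroup.le_normalizer hx, φ ⟨x, hx⟩, hRP (hφR _), fun y hy => by
      simp only [hg]; group⟩
  have hNP : N ≤ P := hNle.trans (inf_le_left.trans inf_le_left)
  obtain ⟨eN, heN, -⟩ := existsUnique_subpair hM hNP hP
  have hn : NormalSubpairRel p M ⟨Q, f⟩ ⟨N, eN⟩ :=
    normal_of_subpair hM (isBrauerPair_left (a := ⟨N, eN⟩) heN hP)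
      (subpair_of_le hM hP hQN hle heN) (hNle.trans (inf_le_left.trans inf_le_right))
  have hn' : IsNormalSubpair p M R f' (N.map (MulAut.conj g).toMonoidHom) (conjBlock N g eN) :=
    normal_cjPair hM g hn
  obtain ⟨t, ht, htP⟩ := exists_conj_le hM hP hle' (le_sup_right : Cen R ≤ S ⊔ Cen R)
    ((le_inf hRP Subgroup.le_normalizer).trans le_sup_left)
    (sup_le inf_le_right (Subgroup.centralizer_le_normalizer _))
    (isFixed_iff_le_fixer.mpr (sup_le ((norm_le_stab hM hP hle').trans inf_le_right)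
      ((cen_le_stab f').trans inf_le_right)))
    (hmax_sup_cen hM hfR.2 inf_le_left inf_le_right hD (by
      refine (card_subgroupOf' inf_le_right).trans_le (Subgroup.card_le_of_le ?_)
      exact le_inf (le_inf inf_le_left (inf_le_right.trans (Subgroup.centralizer_le_normalizer _)))
        inf_le_right))
    hn' (Subgroup.map_le_iff_le_comap.mpr (hNle.trans inf_le_right))
  obtain ⟨s, hs, c, hc, rfl⟩ :=
    exists_mul_of_mem_sup (H := S) (K := Cen R) (fun y hy => mem_normalizer_centralizer hy.2) ht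
  have hgoal : Relation.ReflTransGen (NormalSubpairRel p M) (cjPair (c * g) ⟨N, eN⟩) ⟨P, e⟩ := by
    have hb := isBrauerPair_left (a := ⟨N, eN⟩) heN hP
    have h1 := subpair_cjPair hM s⁻¹ htP
    rw [cjPair_self (a := ⟨P, e⟩) hP (inv_mem hs.1)] at h1
    rw [show c * g = s⁻¹ * (s * c * g) by group, ← cjPair_cjPair _ _ hb,
      ← cjPair_cjPair (s * c) g hb]
    exact h1
  refine ⟨conjHom N (c * g), (mem_hom_iff hM hF heN _).mpr ⟨c * g, fun u => rfl, hgoal⟩,
    fun x hxQ hxN => ?_⟩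
  show c * g * x * (c * g)⁻¹ = φ ⟨x, hxQ⟩
  rw [hg]
  have h2 : g * x * g⁻¹ ∈ R := ⟨x, hxQ, rfl⟩
  have h3 := Subgroup.mem_centralizer_iff.mp hc _ h2
  calc c * g * x * (c * g)⁻¹ = c * (g * x * g⁻¹) * c⁻¹ := by group
    _ = g * x * g⁻¹ * c * c⁻¹ := by rw [← h3]
    _ = g * x * g⁻¹ := by group

omit hp in
/-- Automorphisms induced by the fusion system come from the stabiliser. -/
theorem autGroup_eq_map (hM : IsPModular p M) {B : Set (IrrCharacter G)} {P : Subgroup G}
    {e : Set (IrrCharacter (Cen P))} {F : FusionSystem P} (hF : IsBlockFusionSystemOn p M B P e F)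
    {Q : Subgroup G} {f : Set (IrrCharacter (Cen Q))} (hle : SubpairLE p M Q f P e) :
    F.autGroup Q =
      ((stab M Q f).subgroupOf (Subgroup.normalizer (Q : Set G))).map Q.normalizerMonoidHom := by
  have hP := hF.1.1.1
  have hb := isBrauerPair_left (a := ⟨Q, f⟩) hle hP
  have hQP : Q ≤ P := subgroup_le (a := ⟨Q, f⟩) (b := ⟨P, e⟩) hle
  refine le_antisymm ((Subgroup.closure_le _).mpr ?_) ?_
  · intro α hα
    obtain ⟨g, hg, hgf⟩ := (mem_hom_iff hM hF hle _).mp hα
    have hg' : ∀ x : Q, ((α x : Q) : G) = g * (x : G) * g⁻¹ := hg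
    have hgn := Fusion.mem_normalizer_of_aut hg'
    have h1 : cjPair g ⟨Q, f⟩ = (⟨Q, f⟩ : BrauerPairIdx G) :=
      pair_eq_of_le hM hP hgf hle (map_conj_eq_self hgn)
    refine ⟨⟨g, hgn⟩, ⟨hgn, ?_⟩, MulEquiv.ext fun x => Subtype.ext (hg' x).symm⟩
    show cjA g (pid M (⟨Q, f⟩ : BrauerPairIdx G)) = pid M (⟨Q, f⟩ : BrauerPairIdx G)
    rw [← pid_cjPair, h1]
  · rintro _ ⟨g, ⟨hgn, hgf⟩, rfl⟩
    refine Subgroup.subset_closure ((mem_hom_iff hM hF hle _).mpr ⟨g, fun u => rfl, ?_⟩)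
    have h1 : cjPair (g : G) ⟨Q, f⟩ = (⟨Q, f⟩ : BrauerPairIdx G) :=
      pair_ext (M := M) (isBrauerPair_cjPair (g : G) hb).2 hb.2 (map_conj_eq_self hgn)
        (by rw [pid_cjPair]; exact hgf)
    rw [h1]
    exact hle

omit hp in
theorem index_subgroupOf_map {H K : Type*} [Group H] [Group K] [Fintype H] (f : H →* K)
    (D : Subgroup H) : ((D.map f).subgroupOf f.range).index = (D ⊔ f.ker).index := by
  have h : (D.map f).subgroupOf f.range = D.map f.rangeRestrict := by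
    ext ⟨y, hy⟩
    simp only [Subgroup.mem_subgroupOf, Subgroup.mem_map]
    exact ⟨fun ⟨x, hx, he⟩ => ⟨x, hx, Subtype.ext he⟩, fun ⟨x, hx, he⟩ => ⟨x, hx, congrArg Subtype.val he⟩⟩
  rw [h, Subgroup.index_map, MonoidHom.ker_rangeRestrict,
    MonoidHom.range_eq_top.mpr f.rangeRestrict_surjective, Subgroup.index_top, mul_one]

/-- Fully normalised subgroups are fully automized. -/
theorem isFullyAutomized_of_fullyNormalized (hM : IsPModular p M) {B : Set (IrrCharacter G)}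
    {P : Subgroup G} {e : Set (IrrCharacter (Cen P))} {F : FusionSystem P}
    (hF : IsBlockFusionSystemOn p M B P e F) {Q : Subgroup G} (hfn : F.IsFullyNormalized Q) :
    F.IsFullyAutomized p Q := by
  classical
  have hP := hF.1.1.1
  obtain ⟨f, hle, -⟩ := existsUnique_subpair hM hfn.1 hP
  have hb := isBrauerPair_left (a := ⟨Q, f⟩) hle hP
  set T := stab M Q f with hT
  obtain ⟨F', hF', hgF, -⟩ := exists_stable_block hM hb.1 hb.2 (le_stab f) (cen_le_stab f)
    inf_le_left (fun y hy => hy.2)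
  have hD := (fullyNormalized_iff hM hF hle (fun y => mem_stab_iff hb.2) hF' hgF).mp hfn
  have h1 := not_dvd_index_stable hM (cen_le_stab f) inf_le_left hb.2 (fun y hy => hy.2) hF' hgF hD
  have hTN : T ≤ Subgroup.normalizer (Q : Set G) := fun x hx => hx.1
  set ρ : T →* MulAut Q := Q.normalizerMonoidHom.comp (Subgroup.inclusion hTN) with hρ
  set D := (P ⊓ Subgroup.normalizer (Q : Set G)).subgroupOf T with hDdef
  have hA : F.autGroup Q = ρ.range := by
    rw [autGroup_eq_map hM hF hle, hρ, MonoidHom.range_comp]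
    congr 1
    ext ⟨y, hy⟩
    exact ⟨fun h => ⟨⟨y, h⟩, rfl⟩, fun ⟨x, hx⟩ => by
      have h2 : (x : G) = y := congrArg Subtype.val hx
      subst h2; exact x.2⟩
  have hker : ρ.ker = (Cen Q).subgroupOf T := by
    ext x
    rw [hρ, MonoidHom.mem_ker, MonoidHom.comp_apply, ← MonoidHom.mem_ker,
      Subgroup.normalizerMonoidHom_ker]
    rfl
  have hI : autInducedBy P Q = D.map ρ := by
    rw [Fusion.autInducedBy_eq_map, hρ, ← Subgroup.map_map]
    congr 1
    ext ⟨y, hy⟩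
    simp only [Subgroup.mem_map, Subgroup.mem_subgroupOf]
    constructor
    · intro hyP
      exact ⟨⟨y, norm_le_stab hM hP hle ⟨hyP, hy⟩⟩, ⟨hyP, hy⟩, rfl⟩
    · rintro ⟨x, hx, he⟩
      have : (x : G) = y := congrArg Subtype.val he
      exact this ▸ hx.1
  refine ⟨hfn.1, ?_⟩
  have hle' : autInducedBy P Q ≤ F.autGroup Q := Fusion.autInducedBy_le_autGroup hfn.1
  have hpI : IsPGroup p ((autInducedBy P Q).subgroupOf (F.autGroup Q)) :=
    (Fusion.isPGroup_autInducedBy hP.1 Q).of_equiv (Subgroup.subgroupOfEquivOfLe hle').symm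
  have hidx : ¬ p ∣ ((autInducedBy P Q).subgroupOf (F.autGroup Q)).index := by
    rw [hI, hA, index_subgroupOf_map, hker, sup_comm]
    exact h1
  exact ⟨hpI.toSylow hidx, rfl⟩

/-- The fusion system of a block is saturated. -/
theorem isSaturated_block (hM : IsPModular p M) {B : Set (IrrCharacter G)} {P : Subgroup G}
    {e : Set (IrrCharacter (Cen P))} {F : FusionSystem P} (hF : IsBlockFusionSystemOn p M B P e F) :
    F.IsSaturated p := by
  intro Q hQ
  obtain ⟨R, hQR, hfn⟩ := exists_fullyNormalized F hQ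
  obtain ⟨f, hle, -⟩ := existsUnique_subpair hM hfn.1 hF.1.1.1
  exact ⟨R, hQR, isFullyAutomized_of_fullyNormalized hM hF hfn,
    isReceptive_of_fullyCentralized hM hF (fullyCentralized_of_fullyNormalized hM hF hle hfn)⟩

end CfsgLib.BrauerPairs
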