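import Cfsg.Agent.Lib.Blocks.CentralProduct
import Cfsg.Agent.Lib.CharNormal.Kernel

/-!
# Weights: characters of full defect modulo a normal `p`-subgroup

* `classInner_comp_of_surjective`, `isIrr_comp_of_surjective`;
* `isDefectGroup_of_central`: a block with a character trivial on the central `p`-subgroup `Z` and of
  degree valuation that of `[C : Z]` has defect group `Z`;
* `exists_constituent_inf`: constituents on a normal subgroup commuting modulo the kernel;
* `eq_of_normal_pGroup`: no bigger normal `p`-subgroup.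
-/

set_option autoImplicit false

noncomputable section

namespace CfsgLib.Weight

open Cfsg CfsgLib.Blocks
open scoped ComplexConjugate

section surj

variable {A B : Type*} [Group A] [Group B] [Fintype A] [Fintype B] (f : A →* B)

theorem classInner_comp_of_surjective (hf : Function.Surjective f) (φ ψ : B → ℂ) :
    classInner (φ ∘ f) (ψ ∘ f) = classInner φ ψ := by
  have := Fintype.ofFinite (A ⧸ f.ker)
  let e := QuotientGroup.quotientKerEquivOfSurjective f hf
  have h : ∀ g : A, e (g : A ⧸ f.ker) = f g := fun g => rfl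
  rw [show φ ∘ f = (φ ∘ e) ∘ QuotientGroup.mk from funext fun g => (congrArg φ (h g)).symm,
    show ψ ∘ f = (ψ ∘ e) ∘ QuotientGroup.mk from funext fun g => (congrArg ψ (h g)).symm,
    CfsgLib.CharNormal.classInner_comp_mk', CfsgLib.Char.classInner_def, CfsgLib.Char.classInner_def,
    Nat.card_congr e.toEquiv]
  congr 1
  exact Fintype.sum_equiv e.toEquiv _ _ fun _ => rfl

omit [Fintype A] [Fintype B] in
theorem isCharacter_comp {χ : B → ℂ} (hχ : IsCharacter B χ) : IsCharacter A (χ ∘ f) := by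
  obtain ⟨n, ρ, rfl⟩ := hχ
  exact ⟨n, ρ.comp f, rfl⟩

theorem isIrr_comp_of_surjective (hf : Function.Surjective f) {χ : B → ℂ}
    (hχ : IsIrrCharacter B χ) : IsIrrCharacter A (χ ∘ f) :=
  CfsgLib.Char.irr_of_norm_one (isCharacter_comp f (CfsgLib.Char.isCharacter_of_isIrr hχ))
    (by rw [classInner_comp_of_surjective f hf, CfsgLib.Char.classInner_irr_self hχ])

end surj

section central

variable {M : Ideal AlgInt} [M.IsMaximal] {C : Type*} [Group C] [Fintype C] {p : ℕ} [hp : Fact p.Prime]
  {Z : Subgroup C}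

/-- A character of full defect modulo `Z` is alone in its block among those with its central
character. -/
theorem eq_of_mem_block (hM : IsPModular p M) (hZ : IsPGroup p Z) (hZC : Z ≤ Subgroup.center C)
    {θ η : IrrCharacter C} (hblock : η ∈ blockOf M (θ : C → ℂ))
    (hdeg : (charDegree (θ : C → ℂ)).factorization p = Z.index.factorization p)
    (hsame : ∀ z ∈ Z, centScal η z = centScal θ z) : η = θ := by
  classical
  by_contra hne
  have hsum : ∀ γ : IrrCharacter C, (∀ z ∈ Z, centScal γ z = centScal θ z) →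
      ∑ g : C, (γ : C → ℂ) g * conj ((θ : C → ℂ) g) =
        (Nat.card Z : ℂ) * ∑ g : C, (if p ∣ orderOf g then 0 else (γ : C → ℂ) g * conj ((θ : C → ℂ) g)) := by
    intro γ hγ
    refine sum_eq_card_mul_regular hZ hZC (fun d hd y => ?_) (fun g x hx hxD => ?_)
    · rw [char_central_mul γ (hZC hd), char_central_mul θ (hZC hd), hγ d hd, map_mul]
      linear_combination ((γ : C → ℂ) y * conj ((θ : C → ℂ) y)) * conj_centScal_mul_self θ (hZC hd)
    · rw [eq_zero_of_pPart_notMem hM hZC hdeg hx hxD, map_zero, mul_zero]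
  have hθ1 := CfsgLib.Char.irr_one_ne_zero θ.2
  have hC : (Nat.card C : ℂ) ≠ 0 := CfsgLib.Char.card_ne_zero'
  have hZ0 : (Nat.card Z : ℂ) ≠ 0 := CfsgLib.Char.card_ne_zero'
  have hη : zomega (M := M) η (regElt M p (CfsgLib.Char.isCharacter_of_isIrr θ.2)) = 0 := by
    have h0 := CfsgLib.Char.classInner_irr_ne η.2 θ.2 fun h => hne (Subtype.ext h)
    rw [CfsgLib.Char.classInner_def, hsum η hsame, mul_eq_zero, mul_eq_zero] at h0
    refine Subtype.ext ?_
    rw [zomega_regElt, (h0.resolve_left (inv_ne_zero hC)).resolve_left hZ0, zero_div]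
    rfl
  have hθ : ((zomega (M := M) θ (regElt M p (CfsgLib.Char.isCharacter_of_isIrr θ.2)) : locRing M) : ℂ) =
      (Z.index : ℂ) / (charDegree (θ : C → ℂ) : ℂ) := by
    have h1 := CfsgLib.Char.classInner_irr_self θ.2
    rw [CfsgLib.Char.classInner_def, hsum θ (fun _ _ => rfl), inv_mul_eq_one₀ hC] at h1
    rw [zomega_regElt, charDegree_eq (CfsgLib.Char.isCharacter_of_isIrr θ.2)]
    congr 1
    refine mul_left_cancel₀ hZ0 (h1.symm.trans ?_)
    exact_mod_cast (Subgroup.card_mul_index Z).symm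
  have hu : IsUnit (zomega (M := M) θ (regElt M p (CfsgLib.Char.isCharacter_of_isIrr θ.2))) := by
    refine IsUnit.of_mul_eq_one ⟨_, frac_mem_locRing (n := charDegree (θ : C → ℂ)) hM
      (Subgroup.index_ne_zero_of_finite (H := Z)) (.inr hdeg.ge)⟩ (Subtype.ext ?_)
    show _ * ((charDegree (θ : C → ℂ) : ℂ) / (Z.index : ℂ)) = 1
    rw [hθ, div_mul_div_cancel₀ (by exact_mod_cast charDegree_ne_zero θ), div_self
      (by exact_mod_cast Subgroup.index_ne_zero_of_finite)]
  refine (isUnit_iff_res_ne_zero M _).mp hu ?_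
  rw [← bomega_apply, (mem_blockOf_iff θ η).mp hblock, bomega_apply, hη, map_zero]

/-- Such a block has defect group `Z`. -/
theorem isDefectGroup_of_central (hM : IsPModular p M) (hZ : IsPGroup p Z) (hZC : Z ≤ Subgroup.center C)
    {e : Set (IrrCharacter C)} (he : IsPBlock M e) {θ : IrrCharacter C} (hθ : θ ∈ e)
    (hker : ∀ z ∈ Z, (θ : C → ℂ) z = (θ : C → ℂ) 1)
    (hdeg : Z.index.factorization p ≤ (charDegree (θ : C → ℂ)).factorization p) :
    IsDefectGroup p M e Z := by
  classical
  have hdeg' := le_antisymm (degree_le_index_central hZC θ) hdeg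
  have hscal : ∀ z ∈ Z, centScal θ z = 1 := fun z hz => by
    rw [centScal, hker z hz, div_self (CfsgLib.Char.irr_one_ne_zero θ.2)]
  have hblk := isPBlock_eq_blockOf he hθ
  obtain ⟨y, hy⟩ := exists_defectClass he hθ
  obtain ⟨D, hyD⟩ := exists_isClassDefect (p := p) y
  have hD : IsDefectGroup p M e D := isDefectGroup_iff.mpr ⟨y, hy, hyD⟩
  have : Z.Normal := ⟨fun z hz g => by
    rwa [Subgroup.mem_center_iff.mp (hZC hz) g, mul_inv_cancel_right]⟩
  have hZD : Z ≤ D := normal_le_defect hM he hD hZ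
  suffices h : Nat.card D ≤ Nat.card Z by
    rw [Subgroup.eq_of_le_of_card_ge hZD h]; exact hD
  have hyreg := defectClass_pRegular hM he hy
  -- the block idempotent at `y` is a multiple of `conj θ(y)`
  have hcoef : blockCoeff e y =
      (Nat.card C : ℂ)⁻¹ * (Nat.card Z : ℂ) * (θ : C → ℂ) 1 * conj ((θ : C → ℂ) y) := by
    have h1 : ∑ z : Z, blockCoeff e ((z : C) * y) = blockCoeff e y := by
      rw [Finset.sum_eq_single (1 : Z) (fun z _ hz1 => ?_) (by simp), OneMemClass.coe_one, one_mul]
      refine blockCoeff_eq_zero hM he ?_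
      by_contra hs
      obtain ⟨k, hk⟩ := IsPGroup.iff_orderOf.mp hZ z
      have h1 : IsPPart p ((z : C) * y) (z : C) := isPPart_mul
        (Subgroup.mem_center_iff.mp (hZC z.2) y).symm ⟨k, by rwa [Subgroup.orderOf_coe]⟩ hyreg
      exact hz1 (Subtype.ext (isPPart_unique h1 (isPPart_one_iff.mpr hs)))
    rw [← h1]
    simp only [blockCoeff_eq, Finset.mul_sum]
    rw [Finset.sum_comm, Finset.sum_eq_single θ (fun γ _ hne => ?_) (by simp)]
    · have h2 : ∀ z : Z, conj ((θ : C → ℂ) ((z : C) * y)) = conj ((θ : C → ℂ) y) := fun z => by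
        rw [char_central_mul θ (hZC z.2), hscal _ z.2, one_mul]
      simp only [if_pos hθ, h2, Finset.sum_const, Finset.card_univ, nsmul_eq_mul, ← Nat.card_eq_fintype_card]
      ring
    · by_cases hγ : γ ∈ e
      · obtain ⟨z₀, hz₀, hne'⟩ : ∃ z₀ ∈ Z, centScal γ z₀ ≠ 1 := by
          by_contra hall
          push Not at hall
          exact hne (eq_of_mem_block hM hZ hZC (hblk ▸ hγ) hdeg'
            fun z hz => (hall z hz).trans (hscal z hz).symm)
        simp only [if_pos hγ]
        set S := ∑ z : Z, (Nat.card C : ℂ)⁻¹ * ((γ : C → ℂ) 1 * conj ((γ : C → ℂ) ((z : C) * y)))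
        have hS : conj (centScal γ z₀) * S = S := by
          rw [Finset.mul_sum]
          refine Fintype.sum_equiv (Equiv.mulLeft (⟨z₀, hz₀⟩ : Z)) _ _ fun z => ?_
          rw [Equiv.coe_mulLeft, Subgroup.coe_mul, mul_assoc z₀ (z : C) y, char_central_mul γ (hZC hz₀),
            map_mul]
          ring
        have h2 : (conj (centScal γ z₀) - 1) * S = 0 := by rw [sub_mul, one_mul, hS, sub_self]
        refine (mul_eq_zero.mp h2).resolve_left (sub_ne_zero.mpr fun h => hne' ?_)
        have := congrArg conj h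
        rwa [Complex.conj_conj, map_one] at this
      · simp [hγ]
  have hv : cval M θ y⁻¹ ≠ 0 := by
    intro h
    refine hy.2.1 ?_
    have hmem : (charDegree (θ : C → ℂ) : ℂ) / (Z.index : ℂ) ∈ locRing M :=
      frac_mem_locRing hM Subgroup.index_ne_zero_of_finite (.inr hdeg)
    have he' : (⟨blockCoeff e y, blockCoeff_mem_locRing he y⟩ : locRing M) =
        ⟨_, hmem⟩ * cvalR M (CfsgLib.Char.isCharacter_of_isIrr θ.2) y⁻¹ := Subtype.ext (by
      show blockCoeff e y = (charDegree (θ : C → ℂ) : ℂ) / (Z.index : ℂ) * (θ : C → ℂ) y⁻¹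
      rw [CfsgLib.Char.char_inv (CfsgLib.Char.isCharacter_of_isIrr θ.2), hcoef,
        charDegree_eq (CfsgLib.Char.isCharacter_of_isIrr θ.2), ← Subgroup.card_mul_index Z, Nat.cast_mul]
      have hZ0 : (Nat.card Z : ℂ) ≠ 0 := CfsgLib.Char.card_ne_zero'
      field_simp)
    have h0 : res M ⟨blockCoeff e y, blockCoeff_mem_locRing he y⟩ = 0 := by
      rw [he', map_mul, show res M (cvalR M (CfsgLib.Char.isCharacter_of_isIrr θ.2) y⁻¹) = 0 from h, mul_zero]
    exact (res_eq_zero_iff M _).mp h0
  have h3 := degree_le_of_cval_ne_zero hM hv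
  rw [show Subgroup.centralizer ({y⁻¹} : Set C) = Subgroup.centralizer ({y} : Set C) by
    ext x
    simp only [Subgroup.mem_centralizer_iff, Set.mem_singleton_iff, forall_eq]
    exact ⟨fun h => by simpa using (Commute.inv_left (show Commute y⁻¹ x from h)).eq,
      fun h => (Commute.inv_left (show Commute y x from h)).eq⟩] at h3
  have h4 := index_centralizer_factorization p y
  obtain ⟨k, hk⟩ := IsPGroup.iff_card.mp hZ
  rw [hyD.card, hk]
  refine Nat.pow_le_pow_right hp.out.pos ?_
  have h5 : (Nat.card C).factorization p = k + Z.index.factorization p := by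
    rw [← Subgroup.card_mul_index Z, Nat.factorization_mul Nat.card_pos.ne'
      Subgroup.index_ne_zero_of_finite, Finsupp.add_apply, hk, hp.out.factorization_pow,
      Finsupp.single_eq_same]
  omega

end central

section normal

variable {T : Type*} [Group T] [Fintype T] {p : ℕ} [hp : Fact p.Prime] (Q : Subgroup T) [Q.Normal]
  {χ : IrrCharacter T}

omit hp [Q.Normal] in
theorem valuation_degree_le (N : Subgroup T) [N.Normal] [Fintype N] {θ : IrrCharacter N}
    (h0 : classInner (fun n : N => (χ : T → ℂ) n) (θ : N → ℂ) ≠ 0) :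
    (charDegree (χ : T → ℂ)).factorization p ≤
      (charDegree (θ : N → ℂ)).factorization p + N.index.factorization p := by
  obtain ⟨h1, h2⟩ := CfsgLib.Char.degree_quotient_dvd_index N χ.2 θ.2 h0
    (charDegree_eq (CfsgLib.Char.isCharacter_of_isIrr χ.2))
    (charDegree_eq (CfsgLib.Char.isCharacter_of_isIrr θ.2))
  have h3 : charDegree (χ : T → ℂ) ∣ charDegree (θ : N → ℂ) * N.index := by
    conv_lhs => rw [← Nat.mul_div_cancel' h1]
    exact Nat.mul_dvd_mul_left _ h2
  have h4 := (Nat.factorization_le_iff_dvd (charDegree_ne_zero χ)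
    (mul_ne_zero (charDegree_ne_zero θ) Subgroup.index_ne_zero_of_finite)).mpr h3 p
  rwa [Nat.factorization_mul (charDegree_ne_zero θ) Subgroup.index_ne_zero_of_finite,
    Finsupp.add_apply] at h4

omit hp in
/-- A constituent on a normal subgroup `K`, extending to `Q K`. -/
theorem exists_constituent_inf (K : Subgroup T) [K.Normal] [Fintype K]
    (hker : ∀ q ∈ Q, (χ : T → ℂ) q = (χ : T → ℂ) 1) :
    ∃ θ : IrrCharacter K, classInner (fun k : K => (χ : T → ℂ) k) (θ : K → ℂ) ≠ 0 ∧
      (∀ k : K, (k : T) ∈ Q → (θ : K → ℂ) k = (θ : K → ℂ) 1) ∧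
      (charDegree (χ : T → ℂ)).factorization p ≤
        (charDegree (θ : K → ℂ)).factorization p + (Q ⊔ K).index.factorization p := by
  classical
  set N := Q ⊔ K
  have hN : N.Normal := Subgroup.sup_normal Q K
  have := Fintype.ofFinite N
  let QN := Q.subgroupOf N
  have : QN.Normal := (inferInstance : Q.Normal).subgroupOf N
  have := Fintype.ofFinite (N ⧸ QN)
  obtain ⟨ξ, hξ, hξe⟩ := CfsgLib.CharNormal.exists_eq_comp_mk' QN
    (CfsgLib.Char.isCharacter_res N (CfsgLib.Char.isCharacter_of_isIrr χ.2))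
    (fun n hn => hker n hn)
  obtain ⟨ψ, hψ, hξψ⟩ := CfsgLib.Char.exists_constituent hξ fun h => by
    have h1 := congrFun hξe 1
    rw [h] at h1
    exact CfsgLib.Char.irr_one_ne_zero χ.2 h1.symm
  let f : K →* N ⧸ QN := (QuotientGroup.mk' QN).comp (Subgroup.inclusion le_sup_right)
  have hf : Function.Surjective f := by
    intro w
    obtain ⟨n, rfl⟩ := QuotientGroup.mk_surjective w
    obtain ⟨q, hq, k, hk, hn⟩ := Subgroup.mem_sup_of_normal_left.mp n.2
    refine ⟨⟨k, hk⟩, QuotientGroup.eq.mpr ?_⟩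
    show ((Subgroup.inclusion le_sup_right ⟨k, hk⟩ : N) : T)⁻¹ * (n : T) ∈ Q
    rw [← hn, ← mul_assoc]
    simpa using (inferInstance : Q.Normal).conj_mem q hq k⁻¹
  refine ⟨⟨ψ ∘ f, isIrr_comp_of_surjective f hf hψ⟩, ?_, fun k hk => ?_, ?_⟩
  · rw [show (fun k : K => (χ : T → ℂ) k) = ξ ∘ f from funext fun k =>
      (congrFun hξe (Subgroup.inclusion le_sup_right k)).symm, classInner_comp_of_surjective f hf]
    exact hξψ
  · show ψ (f k) = ψ (f 1)
    rw [map_one, show f k = 1 from (QuotientGroup.eq_one_iff _).mpr hk]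
  · have h0 : classInner (fun n : N => (χ : T → ℂ) n) (ψ ∘ QuotientGroup.mk) ≠ 0 := by
      rw [← hξe, CfsgLib.CharNormal.classInner_comp_mk']
      exact hξψ
    have h1 := valuation_degree_le (p := p) N
      (θ := ⟨_, CfsgLib.CharNormal.isIrr_comp_mk' QN hψ⟩) h0
    refine h1.trans (le_of_eq ?_)
    have e1 : ((charDegree (ψ ∘ QuotientGroup.mk : N → ℂ) : ℕ) : ℂ) = (charDegree (ψ ∘ f : K → ℂ) : ℂ) := by
      rw [← charDegree_eq (CfsgLib.CharNormal.isCharacter_comp_mk' QN (CfsgLib.Char.isCharacter_of_isIrr hψ)),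
        ← charDegree_eq (isCharacter_comp f (CfsgLib.Char.isCharacter_of_isIrr hψ))]
      simp
    rw [Nat.cast_inj] at e1
    exact congrArg (fun d => d.factorization p + _) e1

/-- A character of full defect modulo `Q` sees no bigger normal `p`-subgroup. -/
theorem eq_of_normal_pGroup (R : Subgroup T) [R.Normal] (hR : IsPGroup p R) (hQR : Q ≤ R)
    (hker : ∀ q ∈ Q, (χ : T → ℂ) q = (χ : T → ℂ) 1)
    (hdeg : (Nat.card T).factorization p ≤
      (charDegree (χ : T → ℂ)).factorization p + (Nat.card Q).factorization p) : R = Q := by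
  classical
  have := Fintype.ofFinite R
  let QR := Q.subgroupOf R
  have : QR.Normal := (inferInstance : Q.Normal).subgroupOf R
  have := Fintype.ofFinite (R ⧸ QR)
  obtain ⟨ξ, hξ, hξe⟩ := CfsgLib.CharNormal.exists_eq_comp_mk' QR
    (CfsgLib.Char.isCharacter_res R (CfsgLib.Char.isCharacter_of_isIrr χ.2))
    (fun n hn => hker n hn)
  obtain ⟨ψ, hψ, hξψ⟩ := CfsgLib.Char.exists_constituent hξ fun h => by
    have h1 := congrFun hξe 1
    rw [h] at h1
    exact CfsgLib.Char.irr_one_ne_zero χ.2 h1.symm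
  have h0 : classInner (fun n : R => (χ : T → ℂ) n) (ψ ∘ QuotientGroup.mk) ≠ 0 := by
    rw [← hξe, CfsgLib.CharNormal.classInner_comp_mk']
    exact hξψ
  have hψdeg : charDegree (ψ ∘ QuotientGroup.mk : R → ℂ) = charDegree ψ := by
    have e1 : ((charDegree (ψ ∘ QuotientGroup.mk : R → ℂ) : ℕ) : ℂ) = (charDegree ψ : ℂ) := by
      rw [← charDegree_eq (CfsgLib.CharNormal.isCharacter_comp_mk' QR (CfsgLib.Char.isCharacter_of_isIrr hψ)),
        ← charDegree_eq (CfsgLib.Char.isCharacter_of_isIrr hψ)]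
      rfl
    exact_mod_cast e1
  have h1 := valuation_degree_le (p := p) R (θ := ⟨_, CfsgLib.CharNormal.isIrr_comp_mk' QR hψ⟩) h0
  simp only [hψdeg] at h1
  -- squares of degrees
  have h2 : charDegree ψ * charDegree ψ ≤ Nat.card (R ⧸ QR) := by
    have hn := CfsgLib.Char.classInner_irr_self hψ
    rw [CfsgLib.Char.classInner_def, inv_mul_eq_one₀ CfsgLib.Char.card_ne_zero'] at hn
    have h3 : ∑ g : R ⧸ QR, Complex.normSq (ψ g) = (Nat.card (R ⧸ QR) : ℝ) := by
      apply Complex.ofReal_injective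
      push_cast
      rw [hn]
      exact Finset.sum_congr rfl fun g _ => (Complex.mul_conj (ψ g)).symm
    have h4 : Complex.normSq (ψ 1) ≤ (Nat.card (R ⧸ QR) : ℝ) := h3 ▸
      Finset.single_le_sum (f := fun g => Complex.normSq (ψ g)) (fun g _ => Complex.normSq_nonneg _)
        (Finset.mem_univ 1)
    rw [charDegree_eq (CfsgLib.Char.isCharacter_of_isIrr hψ), Complex.normSq_natCast] at h4
    exact_mod_cast h4
  obtain ⟨k, hk⟩ := IsPGroup.iff_card.mp (hR.to_quotient QR)
  have hcards : Nat.card R = p ^ k * Nat.card Q := by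
    rw [Subgroup.card_eq_card_quotient_mul_card_subgroup QR, hk,
      Nat.card_congr (Subgroup.subgroupOfEquivOfLe hQR).toEquiv]
  have hT : (Nat.card T).factorization p =
      k + (Nat.card Q).factorization p + R.index.factorization p := by
    rw [← Subgroup.card_mul_index R, hcards, Nat.factorization_mul
      (mul_ne_zero (pow_ne_zero _ hp.out.ne_zero) Nat.card_pos.ne') Subgroup.index_ne_zero_of_finite,
      Nat.factorization_mul (pow_ne_zero _ hp.out.ne_zero) Nat.card_pos.ne', Finsupp.add_apply,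
      Finsupp.add_apply, hp.out.factorization_pow, Finsupp.single_eq_same]
  have hle : k ≤ (charDegree ψ).factorization p := by omega
  have hd0 : charDegree ψ ≠ 0 := charDegree_ne_zero (⟨ψ, hψ⟩ : IrrCharacter (R ⧸ QR))
  have h6 : p ^ k ≤ charDegree ψ :=
    Nat.le_of_dvd (Nat.pos_of_ne_zero hd0) ((hp.out.pow_dvd_iff_le_factorization hd0).mpr hle)
  rw [hk] at h2
  have h7 : p ^ k * p ^ k ≤ p ^ k * 1 := by
    rw [mul_one]; exact (Nat.mul_le_mul h6 h6).trans h2
  have h8 : p ^ k = 1 :=
    le_antisymm (Nat.le_of_mul_le_mul_left h7 (pow_pos hp.out.pos k)) (Nat.one_le_pow _ _ hp.out.pos)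
  refine (Subgroup.eq_of_le_of_card_ge hQR ?_).symm
  rw [hcards, h8, one_mul]

end normal

end CfsgLib.Weight
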