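import Cfsg.Agent.Lib.BrauerPairs.Stable
import Cfsg.Agent.Lib.BrauerPairs.Transfer
import Mathlib.Data.Set.Finite.List

/-!
# Components of a group algebra along a normal subgroup

* `commute_of_fixed`, `comp`, `word`;
* `exists_word`: a nonzero idempotent `x c` with `x` fixed by `N` has a word in its components
  which is central in the algebra of `N` and not nilpotent;
* `br_ne_zero_of_word`: the Brauer map at a defect group of `c` does not kill `x`.
-/

set_option autoImplicit false

noncomputable section

namespace CfsgLib.BrauerPairs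

open Cfsg CfsgLib.Blocks

universe u

variable {M : Ideal AlgInt} [M.IsMaximal] {G : Type u} [Group G] [Fintype G] {p : ℕ}

/-- An element fixed by `H` commutes with the elements supported in `H`. -/
theorem commute_of_fixed {H : Subgroup G} {x y : KG M G} (hx : IsFixed H x)
    (hy : ∀ g, g ∉ H → y.coeff g = 0) : x * y = y * x := by
  refine ext_coeff fun g => ?_
  rw [coeff_mul_eq_sum, coeff_mul_eq_sum]
  refine Fintype.sum_equiv ((Equiv.inv G).trans (Equiv.mulRight g)) _ _ fun h => ?_
  show x.coeff h * y.coeff (h⁻¹ * g) = y.coeff (h⁻¹ * g) * x.coeff ((h⁻¹ * g)⁻¹ * g)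
  by_cases hh : h⁻¹ * g ∈ H
  · rw [mul_comm]
    congr 1
    have := (isFixed_iff.mp hx) _ (inv_mem hh) h
    rw [← this]
    simp [mul_assoc]
  · rw [hy _ hh, mul_zero, zero_mul]

/-- An idempotent in the span of commuting nilpotents, with commuting cofactors, is zero. -/
theorem idem_eq_zero_of_span {R : Type*} [Ring R] (U : Subring R) {e : R} (he : e * e = e)
    (S : Finset R) (hU : ∀ y ∈ S, y ∈ U ∧ IsNilpotent y ∧ ∀ z ∈ U, y * z = z * y)
    (v : R → R) (hv : ∀ y, v y ∈ U) (heq : e = ∑ y ∈ S, y * v y) : e = 0 := by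
  induction S using Finset.cons_induction generalizing v with
  | empty => simpa using heq
  | cons a S ha ih =>
    obtain ⟨haU, ⟨k, hk⟩, hac⟩ := hU a (Finset.mem_cons_self a S)
    have hU' : ∀ y ∈ S, y ∈ U ∧ IsNilpotent y ∧ ∀ z ∈ U, y * z = z * y :=
      fun y hy => hU y (Finset.mem_cons_of_mem hy)
    rw [Finset.sum_cons] at heq
    have heU : e ∈ U := by
      rw [heq]
      exact add_mem (mul_mem haU (hv a)) (sum_mem fun y hy => mul_mem (hU' y hy).1 (hv y))
    have hstep : ∀ m : ℕ, ∃ (b : R) (w : R → R), b ∈ U ∧ (∀ y, w y ∈ U) ∧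
        e = a ^ (m + 1) * b + ∑ y ∈ S, y * w y := by
      intro m
      induction m with
      | zero => exact ⟨v a, v, hv a, hv, by simpa using heq⟩
      | succ m ihm =>
        obtain ⟨b, w, hb, hw, hm⟩ := ihm
        refine ⟨b * v a, fun y => a ^ (m + 1) * b * v y + w y * e, mul_mem hb (hv a), fun y =>
          add_mem (mul_mem (mul_mem (pow_mem haU _) hb) (hv y)) (mul_mem (hw y) heU), ?_⟩
        calc e = e * e := he.symm
          _ = (a ^ (m + 1) * b + ∑ y ∈ S, y * w y) * e := by rw [← hm]
          _ = a ^ (m + 1) * b * (a * v a + ∑ y ∈ S, y * v y) + ∑ y ∈ S, y * (w y * e) := by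
            rw [add_mul, ← heq, Finset.sum_mul]
            simp only [mul_assoc]
          _ = a ^ (m + 1 + 1) * (b * v a) +
              ∑ y ∈ S, (y * (a ^ (m + 1) * b * v y) + y * (w y * e)) := by
            rw [mul_add, Finset.sum_add_distrib, add_assoc, Finset.mul_sum]
            congr 1
            · calc a ^ (m + 1) * b * (a * v a) = a ^ (m + 1) * (b * a) * v a := by
                    simp only [mul_assoc]
                _ = a ^ (m + 1) * (a * b) * v a := by rw [hac b hb]
                _ = a ^ (m + 1 + 1) * (b * v a) := by rw [pow_succ a (m + 1)]; simp only [mul_assoc]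
            · congr 1
              refine Finset.sum_congr rfl fun y hy => ?_
              calc a ^ (m + 1) * b * (y * v y) = a ^ (m + 1) * b * y * v y := by
                    simp only [mul_assoc]
                _ = y * (a ^ (m + 1) * b) * v y := by
                    rw [(hU' y hy).2.2 _ (mul_mem (pow_mem haU _) hb)]
                _ = y * (a ^ (m + 1) * b * v y) := by simp only [mul_assoc]
          _ = _ := by simp only [mul_add]
    obtain ⟨b, w, -, hw, hm⟩ := hstep k
    rw [pow_succ, hk, zero_mul, zero_mul, zero_add] at hm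
    exact ih hU' w hw hm

open Classical in
/-- The component of `x` in a coset. -/
def comp {R : Type*} [Semiring R] (N : Subgroup G) (q : G ⧸ N) (x : MonoidAlgebra R G) :
    MonoidAlgebra R G :=
  ofFun fun g => if (g : G ⧸ N) = q then x.coeff g else 0

open Classical in
theorem coeff_comp {R : Type*} [Semiring R] (N : Subgroup G) (q : G ⧸ N) (x : MonoidAlgebra R G)
    (g : G) : (comp N q x).coeff g = if (g : G ⧸ N) = q then x.coeff g else 0 :=
  coeff_ofFun _ g

theorem sum_comp {R : Type*} [Semiring R] (N : Subgroup G) [Fintype (G ⧸ N)]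
    (x : MonoidAlgebra R G) : ∑ q, comp N q x = x := by
  classical
  refine MonoidAlgebra.coeff_injective (Finsupp.ext fun g => ?_)
  rw [MonoidAlgebra.coeff_sum, Finsupp.finsetSum_apply]
  simp only [coeff_comp]
  rw [Finset.sum_ite_eq]
  simp

variable {N : Subgroup G}

theorem br_comp (R : Subgroup G) (q : G ⧸ N) (x : KG M G) :
    br R (comp N q x) = comp N q (br R x) := by
  classical
  refine ext_coeff fun g => ?_
  simp only [coeff_br, coeff_comp]
  split_ifs <;> rfl

theorem isFixed_comp [hN : N.Normal] (q : G ⧸ N) {x : KG M G} (hx : IsFixed N x) :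
    IsFixed N (comp N q x) := by
  classical
  refine isFixed_iff.mpr fun v hv y => ?_
  have h : ((v * y * v⁻¹ : G) : G ⧸ N) = (y : G ⧸ N) := by
    rw [QuotientGroup.mk_mul, QuotientGroup.mk_mul, QuotientGroup.mk_inv,
      (QuotientGroup.eq_one_iff v).mpr hv, one_mul, inv_one, mul_one]
  rw [coeff_comp, coeff_comp, h, isFixed_iff.mp hx v hv y]

/-- A word in the components of `x`, each multiplied by the idempotent of `c`. -/
def word [N.Normal] (c : Set (IrrCharacter N)) (x : KG M G) (w : List (G ⧸ N)) : KG M G :=
  (w.map fun q => comp N q x * gidem M N c).prod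

variable [hN : N.Normal] {c : Set (IrrCharacter N)} {x : KG M G}

theorem word_append (a b : List (G ⧸ N)) : word c x (a ++ b) = word c x a * word c x b := by
  rw [word, word, word, List.map_append, List.prod_append]

theorem isFixed_word (hx : IsFixed N x) (w : List (G ⧸ N)) : IsFixed N (word c x w) := by
  induction w with
  | nil => exact isFixed_one N
  | cons q w ih =>
    rw [show word c x (q :: w) = comp N q x * gidem M N c * word c x w from by
      rw [word, word, List.map_cons, List.prod_cons]]
    exact ((isFixed_comp q hx).mul (centralIn_gidem c).2).mul ih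

theorem homog_word (w : List (G ⧸ N)) :
    ∀ g : G, (g : G ⧸ N) ≠ w.prod → (word c x w).coeff g = 0 := by
  classical
  induction w with
  | nil =>
    intro g hg
    rw [word, List.map_nil, List.prod_nil, MonoidAlgebra.one_def, MonoidAlgebra.coeff_single,
      Finsupp.single_apply, if_neg]
    rintro rfl
    exact hg rfl
  | cons q w ih =>
    intro g hg
    rw [word, List.map_cons, List.prod_cons, coeff_mul_eq_sum]
    refine Finset.sum_eq_zero fun h _ => ?_
    by_cases hh : (h : G ⧸ N) = q
    · rw [show (List.map (fun q => comp N q x * gidem M N c) w).prod = word c x w from rfl,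
        ih (h⁻¹ * g) ?_, mul_zero]
      intro h2
      apply hg
      rw [List.prod_cons, ← hh, ← h2, ← QuotientGroup.mk_mul, mul_inv_cancel_left]
    · rw [coeff_mul_eq_sum, Finset.sum_eq_zero, zero_mul]
      intro k _
      rw [coeff_comp]
      split_ifs with hk
      · rw [(centralIn_gidem (M := M) c).1, mul_zero]
        intro h2
        apply hh
        have h3 : ((k⁻¹ * h : G) : G ⧸ N) = 1 := (QuotientGroup.eq_one_iff _).mpr h2
        rw [QuotientGroup.mk_mul, QuotientGroup.mk_inv, inv_mul_eq_one] at h3
        rw [← h3, hk]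
      · rw [zero_mul]

theorem centralIn_word (hx : IsFixed N x) {w : List (G ⧸ N)} (hw : w.prod = 1) :
    CentralIn N (word c x w) :=
  ⟨fun g hg => homog_word w g (by rw [hw]; exact fun h => hg ((QuotientGroup.eq_one_iff g).mp h)),
    isFixed_word hx w⟩

theorem word_mul_gidem (hc : IsPBlock M c) (hx : IsFixed N x) {w : List (G ⧸ N)} (hne : w ≠ []) :
    word c x w * gidem M N c = word c x w := by
  obtain ⟨q, w, rfl⟩ := List.exists_cons_of_ne_nil hne
  rw [commute_of_fixed (isFixed_word hx (q :: w)) (centralIn_gidem c).1,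
    word, List.map_cons, List.prod_cons, ← mul_assoc, ← mul_assoc,
    ← commute_of_fixed (isFixed_comp q hx) (centralIn_gidem c).1, mul_assoc (comp N q x),
    gidem_mul_self hc]

/-- Some word of degree one is not nilpotent. -/
theorem exists_word (hc : IsPBlock M c) (hid : x * x = x) (hx : IsFixed N x)
    (hne : x * gidem M N c ≠ 0) :
    ∃ w : List (G ⧸ N), w ≠ [] ∧ w.prod = 1 ∧ ¬ IsNilpotent (word c x w) := by
  classical
  by_contra hcon
  push Not at hcon
  apply hne
  have := Fintype.ofFinite (G ⧸ N)
  set L := Fintype.card (G ⧸ N) with hL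
  set e := x * gidem M N c with he
  have hee : e * e = e := by
    calc e * e = x * (gidem M N c * x) * gidem M N c := by simp only [he, mul_assoc]
      _ = x * (x * gidem M N c) * gidem M N c := by rw [commute_of_fixed hx (centralIn_gidem c).1]
      _ = x * x * (gidem M N c * gidem M N c) := by simp only [mul_assoc]
      _ = e := by rw [hid, gidem_mul_self hc]
  set S : Finset (KG M G) := (((List.finite_length_le (G ⧸ N) (L + 1)).subset
    (fun w (hw : w.length ≤ L + 1 ∧ w ≠ [] ∧ w.prod = 1) => hw.1)).image (word c x)).toFinset with hS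
  have hSmem : ∀ y ∈ S, ∃ w : List (G ⧸ N), w ≠ [] ∧ w.prod = 1 ∧ y = word c x w := by
    intro y hy
    obtain ⟨w, hw, rfl⟩ := (Set.Finite.mem_toFinset _).mp hy
    exact ⟨w, hw.2.1, hw.2.2, rfl⟩
  set U : Subring (KG M G) := Subring.centralizer (S : Set (KG M G)) with hU
  have hwordU : ∀ w, word c x w ∈ U := fun w => by
    rw [hU, Subring.mem_centralizer_iff]
    intro y hy
    obtain ⟨v, -, hv, rfl⟩ := hSmem y hy
    exact (commute_of_fixed (isFixed_word hx w) (centralIn_word hx hv).1).symm
  have hS' : ∀ y ∈ S, y ∈ U ∧ IsNilpotent y ∧ ∀ z ∈ U, y * z = z * y := by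
    intro y hy
    refine ⟨?_, ?_, fun z hz => Subring.mem_centralizer_iff.mp hz y hy⟩
    · obtain ⟨v, -, -, rfl⟩ := hSmem y hy
      exact hwordU v
    · obtain ⟨v, hv, hv1, rfl⟩ := hSmem y hy
      exact hcon v hv hv1
  let T : AddSubmonoid (KG M G) :=
    { carrier := {z | ∃ v : KG M G → KG M G, (∀ y, v y ∈ U) ∧ z = ∑ y ∈ S, y * v y}
      zero_mem' := ⟨fun _ => 0, fun _ => U.zero_mem, by simp⟩
      add_mem' := by
        rintro a b ⟨v, hv, rfl⟩ ⟨w, hw, rfl⟩
        exact ⟨fun y => v y + w y, fun y => U.add_mem (hv y) (hw y),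
          by simp [mul_add, Finset.sum_add_distrib]⟩ }
  have hsum : e = ∑ q, word c x [q] := by
    simp only [word, List.map_cons, List.map_nil, List.prod_cons, List.prod_nil, mul_one]
    rw [← Finset.sum_mul, sum_comp]
  have hpow : ∀ n : ℕ, e ^ (n + 1) ∈
      AddSubmonoid.closure {z | ∃ w : List (G ⧸ N), w.length = n + 1 ∧ z = word c x w} := by
    intro n
    induction n with
    | zero =>
      rw [zero_add, pow_one, hsum]
      exact sum_mem fun q _ => AddSubmonoid.subset_closure ⟨[q], rfl, rfl⟩
    | succ n ih =>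
      rw [pow_succ]
      revert ih
      generalize e ^ (n + 1) = z₀
      intro ih
      induction ih using AddSubmonoid.closure_induction with
      | mem z hz =>
        obtain ⟨w, hw, rfl⟩ := hz
        rw [hsum, Finset.mul_sum]
        exact sum_mem fun q _ => AddSubmonoid.subset_closure
          ⟨w ++ [q], by simp [hw], (word_append w [q]).symm⟩
      | zero => rw [zero_mul]; exact zero_mem _
      | add a b _ _ iha ihb => rw [add_mul]; exact add_mem iha ihb
  have hwT : ∀ w : List (G ⧸ N), w.length = L + 1 → word c x w ∈ T := by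
    intro w hw
    obtain ⟨i, j, hij, heq⟩ : ∃ i j : Fin (L + 2), i < j ∧
        (w.take (i : ℕ)).prod = (w.take (j : ℕ)).prod := by
      obtain ⟨i, j, hne', heq⟩ := Fintype.exists_ne_map_eq_of_card_lt
        (fun i : Fin (L + 2) => (w.take (i : ℕ)).prod) (by rw [Fintype.card_fin]; omega)
      rcases lt_or_gt_of_ne hne' with h | h
      · exact ⟨i, j, h, heq⟩
      · exact ⟨j, i, h, heq.symm⟩
    set m := (w.drop (i : ℕ)).take ((j : ℕ) - (i : ℕ)) with hm
    have hij' : (i : ℕ) < (j : ℕ) := hij
    have hm1 : m.prod = 1 := by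
      have h1 : w.take (j : ℕ) = w.take (i : ℕ) ++ m := by
        rw [hm, ← List.take_add, Nat.add_sub_cancel' hij'.le]
      rw [h1, List.prod_append] at heq
      exact mul_eq_left.mp heq.symm
    have hmne : m ≠ [] := by
      intro h
      have := congrArg List.length h
      simp [hm] at this
      have := j.2
      omega
    have hmS : word c x m ∈ S := (Set.Finite.mem_toFinset _).mpr
      ⟨m, ⟨by simp [hm]; omega, hmne, hm1⟩, rfl⟩
    have hdec : w = w.take (i : ℕ) ++ (m ++ (w.drop (i : ℕ)).drop ((j : ℕ) - (i : ℕ))) := by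
      rw [hm, List.take_append_drop, List.take_append_drop]
    refine ⟨fun y => if y = word c x m then
        word c x (w.take (i : ℕ)) * word c x ((w.drop (i : ℕ)).drop ((j : ℕ) - (i : ℕ))) else 0,
      fun y => ?_, ?_⟩
    · dsimp only
      split_ifs
      · exact U.mul_mem (hwordU _) (hwordU _)
      · exact U.zero_mem
    · simp only [mul_ite, mul_zero]
      rw [Finset.sum_ite_eq', if_pos hmS]
      conv_lhs => rw [hdec, word_append, word_append, ← mul_assoc,
        ← Subring.mem_centralizer_iff.mp (hwordU (w.take (i : ℕ))) _ hmS, mul_assoc]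
  have hidem : ∀ n : ℕ, e ^ (n + 1) = e := fun n => by
    induction n with
    | zero => rw [zero_add, pow_one]
    | succ n ih => rw [pow_succ, ih, hee]
  have hspan : e ∈ T := by
    rw [← hidem L]
    refine (AddSubmonoid.closure_le.mpr ?_) (hpow L)
    rintro z ⟨w, hw, rfl⟩
    exact hwT w hw
  obtain ⟨v, hv, heq⟩ := hspan
  exact idem_eq_zero_of_span U hee S hS' v hv heq

theorem centralIn_emb_red {H : Subgroup G} [Fintype H] (a : Zint M H) :
    CentralIn H (emb H (red a)) := by
  refine ⟨fun g hg => coeff_emb_of_notMem H _ hg, fun v hv => ?_⟩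
  rw [show v = ((⟨v, hv⟩ : H) : G) from rfl, ← emb_cjA]
  congr 1
  refine ext_coeff fun y => ?_
  rw [coeff_cjA, coeff_red, coeff_red]
  exact (rcoeff_eq_of_isConj a (isConj_iff.mpr ⟨(⟨v, hv⟩ : H)⁻¹, by simp⟩)).symm

/-- A non-nilpotent element of the block algebra of `c` survives at a defect group. -/
theorem br_ne_zero_of_not_nilpotent (hM : IsPModular p M) (hc : IsPBlock M c) [Fintype N]
    {y : KG M G} (hy : CentralIn N y) (hyc : y * gidem M N c = y) (hnil : ¬ IsNilpotent y)
    {R : Subgroup G} (hR : IsPGroup p R) (hRN : R ≤ N) (hne : br R (gidem M N c) ≠ 0) :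
    br R y ≠ 0 := by
  classical
  obtain ⟨z, hz, hzc⟩ := hy.exists_eq_emb
  obtain ⟨a, rfl⟩ := exists_lift hzc
  obtain ⟨ξ, hξ⟩ := IsPBlock.nonempty hc
  have hya : y = emb N (red (a * idem hc)) := by
    rw [map_mul, map_mul, hz, ← gidem_eq_emb hc, hyc]
  have ht : bomega ξ a ≠ 0 := fun h0 => hnil (by
    rw [hya]
    refine (isNilpotent_red fun η => ?_).map (emb (M := M) N)
    rw [map_mul, bomega_idem]
    split_ifs with hη
    · rw [bomega_eq_of_mem hc hη hξ, h0, zero_mul]
    · rw [mul_zero])
  obtain ⟨b, hb⟩ := (Zint_isUnit (a := a * idem hc + (1 - idem hc)) fun η => by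
    rw [map_add, map_sub, map_mul, map_one, bomega_idem]
    split_ifs with hη
    · rw [bomega_eq_of_mem hc hη hξ, mul_one, sub_self, add_zero]; exact ht
    · rw [mul_zero, sub_zero, zero_add]; exact one_ne_zero).exists_right_inv
  have hkey : a * idem hc * (b * idem hc) = idem hc := by
    calc a * idem hc * (b * idem hc)
        = (a * idem hc + (1 - idem hc)) * b * idem hc +
            (idem hc * idem hc - idem hc) * b := by ring
      _ = idem hc := by rw [hb, one_mul, idem_mul_self, sub_self, zero_mul, add_zero]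
  intro h0
  apply hne
  rw [gidem_eq_emb hc, show ridem hc = red (idem hc) from rfl, ← hkey, map_mul red, map_mul (emb N),
    ← hya, br_mul hM hR (hy.2.mono hRN) ((centralIn_emb_red _).2.mono hRN), h0, zero_mul]

/-- The Brauer map at a defect group of `c` does not kill `x` when `x c ≠ 0`. -/
theorem br_ne_zero_of_word (hM : IsPModular p M) (hc : IsPBlock M c) [Fintype N] (hid : x * x = x)
    (hx : IsFixed N x) (hxc : x * gidem M N c ≠ 0) {R : Subgroup G} (hR : IsPGroup p R)
    (hRN : R ≤ N) (hne : br R (gidem M N c) ≠ 0) : br R x ≠ 0 := by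
  obtain ⟨w, hw, hw1, hnil⟩ := exists_word hc hid hx hxc
  intro h0
  refine br_ne_zero_of_not_nilpotent hM hc (centralIn_word hx hw1) (word_mul_gidem hc hx hw) hnil hR
    hRN hne ?_
  obtain ⟨q, w, rfl⟩ := List.exists_cons_of_ne_nil hw
  have hq : br R (comp N q x) = 0 := by
    rw [br_comp, h0]
    classical
    exact ext_coeff fun g => by simp [coeff_comp]
  rw [word, List.map_cons, List.prod_cons, mul_assoc,
    show (List.map (fun q => comp N q x * gidem M N c) w).prod = word c x w from rfl,
    br_mul hM hR ((isFixed_comp q hx).mono hRN)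
      ((((centralIn_gidem c).2).mul (isFixed_word hx w)).mono hRN), hq, zero_mul]

end CfsgLib.BrauerPairs
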